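import Mathlib.LinearAlgebra.Matrix.GeneralLinearGroup.Defs
import Mathlib.Algebra.BigOperators.Fin
import Mathlib.Data.ZMod.Basic
import Mathlib.Data.List.GetD

/-!
# Matrices over the field of two elements with rows packed in numbers
-/

set_option autoImplicit false

namespace CfsgLib.J4P

/-- The sum of the rows selected by the bits of a number. -/
def vmB : List ℕ → ℕ → ℕ
  | [], _ => 0
  | r :: rs, v => if Nat.beq (v % 2) 1 then r ^^^ vmB rs (v / 2) else vmB rs (v / 2)

/-- The product. -/
def mmulB (A B : List ℕ) : List ℕ := A.map (vmB B)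

/-- The identity. -/
def idB (n : ℕ) : List ℕ := (List.range n).map fun i => 2 ^ i

/-- The entry of a bit. -/
def bitZ (p : Bool) : ZMod 2 := if p then 1 else 0

theorem bitZ_xor (p q : Bool) : bitZ (p ^^ q) = bitZ p + bitZ q := by
  cases p <;> cases q <;> decide

theorem vmB_spec : ∀ (rs : List ℕ) (v j : ℕ),
    bitZ ((vmB rs v).testBit j) =
      ∑ k : Fin rs.length, bitZ (v.testBit k) * bitZ (rs[k.val].testBit j)
  | [], v, j => by simp [vmB, bitZ]
  | r :: rs, v, j => by
    simp only [List.length_cons, Fin.sum_univ_succ, Fin.val_zero, List.getElem_cons_zero, Fin.val_succ, List.getElem_cons_succ,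
      Nat.testBit_succ]
    rw [← vmB_spec rs (v / 2) j, Nat.testBit_zero, vmB]
    by_cases hv : v % 2 = 1
    · have hb : Nat.beq (v % 2) 1 = true := by rw [hv]; rfl
      rw [if_pos hb, Nat.testBit_xor, bitZ_xor, hv]
      simp [bitZ]
    · have hb : ¬ Nat.beq (v % 2) 1 = true := fun e => hv (Nat.eq_of_beq_eq_true e)
      rw [if_neg hb]
      simp [bitZ, hv]

/-- The matrix of packed rows. -/
def toMatB (n : ℕ) (A : List ℕ) : Matrix (Fin n) (Fin n) (ZMod 2) :=
  Matrix.of fun i j => bitZ ((A.getD i.val 0).testBit j.val)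

theorem toMatB_mul {n : ℕ} {A B : List ℕ} (hA : A.length = n) (hB : B.length = n) :
    toMatB n (mmulB A B) = toMatB n A * toMatB n B := by
  subst hB
  refine Matrix.ext fun i j => ?_
  have hi : i.val < A.length := by rw [hA]; exact i.isLt
  simp only [toMatB, Matrix.mul_apply, Matrix.of_apply, mmulB]
  rw [List.getD_eq_getElem _ _ (by simpa using hi), List.getElem_map, vmB_spec,
    List.getD_eq_getElem _ _ hi]
  refine Finset.sum_congr rfl fun k _ => ?_
  rw [List.getD_eq_getElem _ _ k.isLt]

theorem toMatB_id (n : ℕ) : toMatB n (idB n) = 1 := by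
  refine Matrix.ext fun i j => ?_
  simp only [toMatB, Matrix.of_apply, idB]
  rw [List.getD_eq_getElem _ _ (by simp), List.getElem_map, List.getElem_range, Matrix.one_apply]
  by_cases h : i = j
  · subst h; simp [bitZ, Nat.testBit_two_pow_self]
  · rw [if_neg h, Nat.testBit_two_pow_of_ne (fun e => h (Fin.ext e))]
    rfl

theorem length_mmulB (A B : List ℕ) : (mmulB A B).length = A.length := by simp [mmulB]

/-- The slot of a table. -/
def slotT (T u : ℕ) : ℕ :=
  Nat.land (Nat.shiftRight T (112 * u)) 5192296858534827628530496329220095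

/-- A vector times a matrix given by tables for seven rows at a time. -/
noncomputable def vmT (Ts : List ℕ) : ℕ → ℕ :=
  List.rec (fun _ => 0) (fun T _ ih v =>
    Nat.xor (slotT T (Nat.land v 127)) (ih (Nat.shiftRight v 7))) Ts

/-- The tables hold the sums of seven consecutive rows. -/
def chkT : List ℕ → List ℕ → Bool
  | [], A => List.isEmpty A
  | T :: Ts, A =>
    ((List.range 128).all fun u => Nat.beq (slotT T u) (vmB (A.take 7) u)) && chkT Ts (A.drop 7)

theorem vmB_append : ∀ (a b : List ℕ) (v : ℕ),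
    vmB (a ++ b) v = vmB a v ^^^ vmB b (v / 2 ^ a.length)
  | [], b, v => by simp [vmB]
  | r :: a, b, v => by
    rw [List.cons_append, vmB, vmB, vmB_append a b (v / 2), List.length_cons, pow_succ',
      Nat.div_div_eq_div_mul]
    split_ifs
    · rw [Nat.xor_assoc]
    · rfl

theorem vmB_mod : ∀ (a : List ℕ) (k v : ℕ), a.length ≤ k → vmB a (v % 2 ^ k) = vmB a v
  | [], k, v, _ => rfl
  | r :: a, k, v, hk => by
    obtain ⟨m, rfl⟩ : ∃ m, k = m + 1 := ⟨k - 1, by rw [List.length_cons] at hk; omega⟩
    have h1 : v % 2 ^ (m + 1) % 2 = v % 2 :=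
      Nat.mod_mod_of_dvd v (dvd_pow_self 2 (Nat.succ_ne_zero m))
    have h2 : v % 2 ^ (m + 1) / 2 = v / 2 % 2 ^ m := by
      rw [pow_succ', Nat.mod_mul_right_div_self]
    rw [vmB, vmB, h1, h2, vmB_mod a m (v / 2) (by rw [List.length_cons] at hk; omega)]

theorem vmT_eq : ∀ (Ts A : List ℕ), chkT Ts A = true → ∀ v, vmT Ts v = vmB A v
  | [], A, h, v => by
    rw [chkT, List.isEmpty_iff] at h
    subst h
    rfl
  | T :: Ts, A, h, v => by
    simp only [chkT, Bool.and_eq_true, List.all_eq_true, List.mem_range, Nat.beq_eq] at h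
    show Nat.xor (slotT T (Nat.land v 127)) (vmT Ts (Nat.shiftRight v 7)) = vmB A v
    rw [vmT_eq Ts _ h.2, show Nat.land v 127 = v % 2 ^ 7 from Nat.and_two_pow_sub_one_eq_mod v 7,
      h.1 (v % 2 ^ 7) (Nat.mod_lt _ (by norm_num)), vmB_mod _ 7 v (by simp),
      show Nat.shiftRight v 7 = v / 2 ^ 7 from Nat.shiftRight_eq_div_pow v 7]
    conv_rhs => rw [← List.take_append_drop 7 A, vmB_append]
    show (_ : ℕ) ^^^ _ = _ ^^^ _
    congr 1
    by_cases hA : 7 ≤ A.length
    · rw [List.length_take, min_eq_left hA]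
    · rw [List.drop_eq_nil_of_le (by omega)]
      rfl

/-- The product of a word, by tables. -/
noncomputable def evalB (n : ℕ) (G : List (List ℕ)) (w : List ℕ) : List ℕ :=
  w.foldl (fun A g => A.map (vmT (G.getD g []))) (idB n)

theorem evalB_spec {n : ℕ} {G B : List (List ℕ)} (_hlen : G.length = B.length)
    (hG : ∀ g < B.length, chkT (G.getD g []) (B.getD g []) = true ∧ (B.getD g []).length = n)
    {w : List ℕ} (hw : ∀ g ∈ w, g < B.length) :
    (evalB n G w).length = n ∧
      toMatB n (evalB n G w) = (w.map fun g => toMatB n (B.getD g [])).prod := by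
  suffices h : ∀ (w : List ℕ) (A : List ℕ), (∀ g ∈ w, g < B.length) → A.length = n →
      (w.foldl (fun A g => A.map (vmT (G.getD g []))) A).length = n ∧
        toMatB n (w.foldl (fun A g => A.map (vmT (G.getD g []))) A) =
          toMatB n A * (w.map fun g => toMatB n (B.getD g [])).prod by
    obtain ⟨e1, e2⟩ := h w (idB n) hw (by simp [idB])
    exact ⟨e1, by rw [evalB, e2, toMatB_id, one_mul]⟩
  intro w
  induction w with
  | nil => intro A _ hA; exact ⟨hA, by simp⟩
  | cons g w ih =>
    intro A h hA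
    obtain ⟨hc, hl⟩ := hG g (h g List.mem_cons_self)
    have e : A.map (vmT (G.getD g [])) = mmulB A (B.getD g []) :=
      List.map_congr_left fun v _ => vmT_eq _ _ hc v
    obtain ⟨e1, e2⟩ := ih (A.map (vmT (G.getD g []))) (fun a ha => h a (List.mem_cons_of_mem _ ha))
      (by simpa using hA)
    refine ⟨e1, ?_⟩
    rw [List.foldl_cons, e2, e, toMatB_mul hA hl, List.map_cons, List.prod_cons, mul_assoc]

end CfsgLib.J4P
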