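import Cfsg.Agent.Lib.HNxyz.PairedOrbit
import Cfsg.Agent.Lib.J4P.CertBottom

/-!
# The check of `certBottom` (generated)
-/

set_option autoImplicit false
set_option maxRecDepth 100000

namespace CfsgLib.J4P

open CfsgLib.PresCert CfsgLib.HNxyz

theorem certBottom_shape : shapeOk certBottom = true := by decide +kernel

theorem certBottom_block0 : Paired.block certBottom partner 0 = true := by decide +kernel

theorem certBottom_block1 : Paired.block certBottom partner 1 = true := by decide +kernel

theorem certBottom_block2 : Paired.block certBottom partner 2 = true := by decide +kernel

theorem certBottom_block3 : Paired.block certBottom partner 3 = true := by decide +kernel

theorem certBottom_block4 : Paired.block certBottom partner 4 = true := by decide +kernel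

theorem certBottom_block5 : Paired.block certBottom partner 5 = true := by decide +kernel

theorem certBottom_block6 : Paired.block certBottom partner 6 = true := by decide +kernel

theorem certBottom_valid : Paired.Valid certBottom partner where
  shape := certBottom_shape
  slots b hb := by
    have h : 1000 * 7 ≥ certBottom.N := by decide
    have hb' : b < 7 := by omega
    interval_cases b
    · exact certBottom_block0
    · exact certBottom_block1
    · exact certBottom_block2
    · exact certBottom_block3
    · exact certBottom_block4
    · exact certBottom_block5
    · exact certBottom_block6

/-- The words under which the live nodes are closed. -/
def certBottomClosing : List (List ℕ) := [[0], [2]]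

theorem certBottom_closed0 : closedBlock certBottom certBottomClosing 0 = true := by decide +kernel

theorem certBottom_closed1 : closedBlock certBottom certBottomClosing 1 = true := by decide +kernel

theorem certBottom_closed2 : closedBlock certBottom certBottomClosing 2 = true := by decide +kernel

theorem certBottom_closed3 : closedBlock certBottom certBottomClosing 3 = true := by decide +kernel

theorem certBottom_closed4 : closedBlock certBottom certBottomClosing 4 = true := by decide +kernel

theorem certBottom_closed5 : closedBlock certBottom certBottomClosing 5 = true := by decide +kernel

theorem certBottom_orbit : OrbitCert certBottom certBottomClosing where
  valid := certBottom_valid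
  words := by decide
  closed b hb := by
    have h : 1000 * 6 ≥ certBottom.n := by decide
    have hb' : b < 6 := by omega
    interval_cases b
    · exact certBottom_closed0
    · exact certBottom_closed1
    · exact certBottom_closed2
    · exact certBottom_closed3
    · exact certBottom_closed4
    · exact certBottom_closed5

end CfsgLib.J4P
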