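import Cfsg.Agent.Lib.HNxyz.PairedOrbit
import Cfsg.Agent.Lib.J4P.CertTop

/-!
# The check of `certTop` (generated)
-/

set_option autoImplicit false
set_option maxRecDepth 100000

namespace CfsgLib.J4P

open CfsgLib.PresCert CfsgLib.HNxyz

theorem certTop_shape : shapeOk certTop = true := by decide +kernel

theorem certTop_block0 : Paired.block certTop partner 0 = true := by decide +kernel

theorem certTop_block1 : Paired.block certTop partner 1 = true := by decide +kernel

theorem certTop_block2 : Paired.block certTop partner 2 = true := by decide +kernel

theorem certTop_block3 : Paired.block certTop partner 3 = true := by decide +kernel

theorem certTop_valid : Paired.Valid certTop partner where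
  shape := certTop_shape
  slots b hb := by
    have h : 1000 * 4 ≥ certTop.N := by decide
    have hb' : b < 4 := by omega
    interval_cases b
    · exact certTop_block0
    · exact certTop_block1
    · exact certTop_block2
    · exact certTop_block3

/-- The words under which the live nodes are closed. -/
def certTopClosing : List (List ℕ) := [[0], [2], [4], [6], [8]]

theorem certTop_closed0 : closedBlock certTop certTopClosing 0 = true := by decide +kernel

theorem certTop_closed1 : closedBlock certTop certTopClosing 1 = true := by decide +kernel

theorem certTop_orbit : OrbitCert certTop certTopClosing where
  valid := certTop_valid
  words := by decide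
  closed b hb := by
    have h : 1000 * 2 ≥ certTop.n := by decide
    have hb' : b < 2 := by omega
    interval_cases b
    · exact certTop_closed0
    · exact certTop_closed1

end CfsgLib.J4P
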