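import Mathlib.Data.List.Basic

/-!
# The five elements, the derived relators and the table of 24 cosets (generated)
-/

set_option autoImplicit false
set_option maxRecDepth 100000

namespace CfsgLib.J4P

/-- The seven relators in x and y: the letters 0, 1, 2, 3 are x, its inverse, y, its inverse. -/
def baseRels : List (List ℕ) :=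
  [[0, 0],
    [2, 2, 2],
    [0, 2, 0, 2, 0, 2, 0, 2, 0, 2, 0, 2, 0, 2, 0, 2, 0, 2, 0, 2, 0, 2, 0, 2, 0, 2, 0, 2, 0, 2, 0, 2, 0, 2, 0, 2, 0, 2, 0, 2, 0, 2, 0, 2, 0, 2],
    [1, 3, 0, 2, 1, 3, 0, 2, 1, 3, 0, 2, 1, 3, 0, 2, 1, 3, 0, 2, 1, 3, 0, 2, 1, 3, 0, 2, 1, 3, 0, 2, 1, 3, 0, 2, 1, 3, 0, 2, 1, 3, 0, 2, 1, 3, 0, 2],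
    [1, 3, 1, 3, 0, 2, 0, 2, 1, 3, 1, 3, 0, 2, 0, 2, 1, 3, 1, 3, 0, 2, 0, 2, 1, 3, 1, 3, 0, 2, 0, 2, 1, 3, 1, 3, 0, 2, 0, 2],
    [0, 2, 0, 2, 0, 3, 0, 2, 0, 3, 0, 2, 0, 3, 0, 2, 0, 2, 0, 3, 0, 2, 0, 3, 0, 2, 0, 3, 0, 2, 0, 2, 0, 3, 0, 2, 0, 3, 0, 2, 0, 3, 0, 2, 0, 2, 0, 3, 0, 2, 0, 3, 0, 2, 0, 3],
    [0, 2, 0, 2, 0, 3, 0, 2, 0, 2, 0, 3, 0, 2, 0, 2, 0, 3, 0, 2, 0, 3, 0, 3, 0, 2, 0, 3, 0, 3, 0, 2, 0, 3, 0, 3]]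

/-- The five elements as words in x and y. -/
def fiveWords : List (List ℕ) :=
  [[0, 3, 0, 2, 0, 2, 0, 2, 0, 3, 0, 3, 1, 3, 1, 3, 1, 3, 1, 2, 1],
    [2],
    [0, 3, 0, 2, 0, 2, 0, 3, 0, 2, 1, 2, 1, 3, 1, 3, 1, 2, 1],
    [0, 2, 0, 2, 1, 3, 1],
    [0, 3, 0, 2, 0, 3, 0, 2, 0, 2, 1, 3, 1, 2, 1, 3, 1, 2, 1]]

/-- The relators in the five elements. -/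
def fiveRels : List (List ℕ) :=
  [[9, 9, 9],
    [7, 7, 7],
    [5, 5, 5],
    [3, 3, 3],
    [9, 6, 3, 6, 2, 7],
    [9, 3, 7, 2, 9, 3, 7, 2],
    [9, 5, 3, 4, 0, 4, 0, 0, 0],
    [9, 1, 1, 5, 3, 8, 0, 4, 1],
    [9, 6, 5, 2, 4, 6, 5, 2, 4],
    [9, 5, 3, 4, 3, 6, 2, 5, 2, 4],
    [7, 2, 7, 2, 7, 2, 7, 2, 7, 2],
    [7, 2, 4, 0, 0, 4, 2, 5, 2, 4],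
    [5, 3, 4, 0, 0, 0, 4, 1, 1, 1],
    [7, 5, 3, 4, 7, 5, 3, 4, 3, 6, 2],
    [9, 5, 0, 7, 3, 5, 3, 4, 1, 1, 5, 3],
    [7, 5, 2, 5, 3, 4, 7, 5, 2, 5, 3, 4],
    [5, 3, 1, 1, 5, 3, 1, 1, 5, 3, 1, 1],
    [9, 1, 1, 5, 3, 0, 0, 5, 5, 3, 4, 6, 2],
    [9, 1, 1, 5, 3, 8, 1, 1, 5, 2, 4, 0, 0],
    [9, 1, 1, 5, 3, 3, 7, 9, 1, 1, 5, 3, 3, 7],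
    [9, 1, 1, 5, 3, 8, 3, 9, 1, 1, 5, 3, 8, 3],
    [7, 5, 3, 4, 6, 2, 5, 2, 4, 4, 0, 0, 5, 3],
    [9, 1, 1, 5, 3, 1, 1, 2, 4, 0, 0, 0, 0, 4, 1, 1],
    [9, 1, 1, 5, 3, 4, 1, 1, 5, 3, 4, 6, 3, 7, 5, 2, 4],
    [9, 1, 1, 5, 3, 0, 5, 5, 3, 4, 4, 1, 1, 1, 2, 4, 0, 0],
    [1, 1, 1, 1, 1, 1, 1, 1, 1, 1, 1, 1, 1, 1, 1, 1, 1, 1, 1, 1, 1, 1, 1],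
    [9, 2, 4, 0, 0, 9, 2, 4, 0, 0, 9, 2, 4, 0, 0, 9, 2, 4, 0, 0, 9, 2, 4, 0, 0],
    [6, 3, 7, 2, 7, 3, 7, 2, 6, 3, 7, 2, 7, 3, 7, 2]]

/-- The conjugates of relators behind relator 0. -/
def fivePrf0 : List (List ℕ × ℕ × Bool) :=
  [([0, 3, 0, 2, 0, 3, 0, 2, 0], 1, false)]

/-- The conjugates of relators behind relator 1. -/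
def fivePrf1 : List (List ℕ × ℕ × Bool) :=
  [([0, 2, 0], 1, false)]

/-- The conjugates of relators behind relator 2. -/
def fivePrf2 : List (List ℕ × ℕ × Bool) :=
  [([0, 3, 0, 2, 0, 2, 0, 3, 0], 1, false)]

/-- The conjugates of relators behind relator 3. -/
def fivePrf3 : List (List ℕ × ℕ × Bool) :=
  [([], 1, false)]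

/-- The conjugates of relators behind relator 4. -/
def fivePrf4 : List (List ℕ × ℕ × Bool) :=
  [([0, 3, 0, 2, 0, 3, 0, 2, 0, 3, 1, 3, 0], 0, false),
      ([0, 3, 0, 2, 0, 3, 0, 2, 0, 3, 1, 3, 0, 2, 1, 3, 1, 3, 0, 2, 1, 3, 1, 3, 0, 2, 0, 2, 1, 3, 1, 2, 0, 2, 0, 3, 1, 2, 0, 2, 0, 3, 0, 2, 0, 3, 1, 3, 0, 2, 1, 3, 0, 3, 0, 2, 0, 3, 0, 3], 6, true),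
      ([0, 3, 0, 2, 0, 3, 0, 2, 0, 3, 1, 3, 0, 2, 1, 3, 1, 3, 0, 2, 1, 3, 1, 3, 0, 2, 0, 2, 1, 3, 1, 2, 0, 2, 0, 3, 1, 2, 0, 2, 0, 3, 0, 2, 0, 3, 1, 3, 0, 2, 1, 1, 3, 1, 2], 0, false),
      ([0, 3, 0, 2, 0, 3, 0, 2, 0, 3, 1, 3, 0, 2, 1, 3, 1, 3, 0, 2, 1, 3, 1, 3, 0, 2, 0, 2, 1, 3, 1, 2, 0, 2, 0, 3, 1, 2, 0, 2, 0, 3, 0, 2, 0, 3, 1, 3, 0, 2, 1, 1, 3, 1, 2, 0, 2, 1, 3, 1, 2, 1, 3, 1, 3, 1, 2, 1, 3, 1, 3], 0, false),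
      ([0, 3, 0, 2, 0, 3, 0, 2, 0, 3, 1, 3, 0, 2, 1, 3, 1, 3, 0, 2, 1, 3, 1, 3, 0, 2, 0, 2, 1, 3, 1, 2, 0, 2, 0, 3, 1, 2, 0, 2, 0, 3, 0, 2, 0, 3, 1, 3, 0, 2, 1, 1, 3, 1, 2, 0, 2, 1, 3, 1, 2, 1, 3, 1, 3, 1, 2, 1, 3, 1, 3, 0, 2, 1, 3, 1, 3, 1, 2], 0, false),
      ([0, 3, 0, 2, 0, 3, 0, 2, 0, 3, 1, 3, 0, 2, 1, 3, 1, 3, 0, 2, 1, 3, 1, 3, 0, 2, 0, 2, 1, 3, 1, 2, 0, 2, 0, 3, 1, 2, 0, 2, 0, 3, 0, 2, 0, 3, 1, 3, 0, 2, 1, 1, 3, 1, 2, 0, 2, 1, 3, 1, 2, 1, 3, 1, 3, 0], 0, false),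
      ([0, 3, 0, 2, 0, 3, 0, 2, 0, 3, 1, 3, 0, 2, 1, 3, 1, 3, 0, 2, 1, 3, 1, 3, 0, 2, 0, 2, 1, 3, 1, 2, 0, 2, 0, 3, 1, 2, 0, 2, 0, 3, 0, 2, 0, 3, 1, 3, 0, 2, 1, 1, 3, 1, 2, 0, 2, 1, 3, 1, 2, 1, 3, 1, 3, 0, 2, 1, 3, 1, 3, 0, 2, 0], 0, false),
      ([0, 3, 0, 2, 0, 3, 0, 2, 0, 3, 1, 3, 0, 2, 1, 3, 1, 3, 0, 2, 1, 3, 1, 3, 0, 2, 0, 2, 1, 3, 1, 2, 0, 2, 0, 3, 1, 2, 0, 2, 0, 3, 0, 2, 0, 3, 1, 3, 0, 2, 1, 1, 3, 1, 2, 0, 2, 1, 3, 1, 2, 1, 3, 1, 3, 0, 2, 1, 3, 1, 3, 0, 2, 0, 3, 1, 3, 1, 2, 0, 2, 0], 0, false),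
      ([0, 3, 0, 2, 0, 3, 0, 2, 0, 3, 1, 3, 0, 2, 1, 3, 1, 3, 0, 2, 1, 3, 1, 3, 0, 2, 0, 2, 1, 3, 1, 2, 0, 2, 0, 3, 1, 2, 0, 2, 0, 3, 0, 2, 0, 3, 1, 3, 0, 2, 1], 0, false),
      ([0, 3, 0, 2, 0, 3, 0, 2, 0, 3, 1, 3, 0, 2, 1, 3], 0, false),
      ([0, 2], 1, false),
      ([0, 2, 0, 2, 1, 3, 1, 3, 0, 2, 0, 3, 1, 3, 1, 2, 0, 2, 0, 3, 1, 2, 2, 2], 1, true)]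

/-- The conjugates of relators behind relator 5. -/
def fivePrf5 : List (List ℕ × ℕ × Bool) :=
  [([0, 3, 0, 2, 0, 3, 0, 2, 0, 3, 1, 3, 1, 2, 1, 3, 1, 2, 1, 3, 0, 2, 0, 3, 1, 3, 1, 2, 0, 3, 0, 2, 0, 3, 0, 2, 0, 3, 1, 3, 1, 2, 1, 3, 1, 2, 1, 3, 0, 2, 0, 3, 1, 3, 1, 2, 0, 3, 0, 2, 0, 3], 0, true),
      ([0, 3, 0, 2, 0, 3, 0, 2, 0, 3, 1, 3, 1, 2, 1, 3, 1, 2, 1, 3, 0, 2, 0, 3, 1, 3, 1, 2, 0, 3, 0, 2, 0, 3], 0, true),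
      ([0, 3, 0, 2, 0, 3, 0, 2, 0, 3, 1, 3, 1, 2, 1, 3, 1, 2, 1, 3, 0, 2, 0, 3, 1, 3, 1, 2, 0, 3, 0], 0, true),
      ([0, 3, 0, 2, 0, 3, 0, 0, 2, 1, 3], 0, true),
      ([0, 3, 0, 2, 0, 3, 0, 0, 2, 1, 3, 1, 1, 2], 0, true),
      ([0, 3, 0, 2, 0, 3, 0, 0, 2, 1, 3, 1, 2, 1, 3, 0, 2, 0, 2, 1, 3, 1, 2, 0, 3, 0, 2, 0, 3, 0, 2, 0, 2, 1, 3, 0, 2, 1], 0, true),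
      ([0, 3, 0, 2, 0, 3, 0, 0, 2, 1, 3, 1, 2, 1, 3, 0, 2, 0, 2, 1, 3, 1, 2, 0, 3, 0, 2, 0, 3, 0, 2, 0, 2, 1, 3, 0, 2, 1, 1, 3, 1, 2, 0, 3, 1, 3, 1, 2, 1, 3, 1, 2, 1, 3, 0, 2, 0, 3, 1, 3, 1, 2, 0, 3, 1, 2, 1, 3, 1, 2, 0, 3, 1, 3, 1, 2, 1, 3, 1, 2, 1, 3, 0, 2, 0], 0, true),
      ([0, 3, 0, 2, 0, 3, 0, 0, 2, 1, 3, 1, 2, 1, 3, 0, 2, 0, 2, 1, 3, 1, 2, 0, 3, 0, 2, 0, 3, 0, 2, 0, 2, 1, 3, 0, 2, 1, 1, 3, 1, 2, 0, 3, 1, 3, 1, 2, 1, 3, 1, 2, 1, 3, 0, 2, 0], 0, true),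
      ([0, 3, 0, 2, 0, 3, 0, 0, 2, 1, 3, 1, 2, 1, 3, 0, 2, 0, 2, 1, 3, 1, 2, 0, 3, 0, 2, 0, 3, 0, 2, 0, 2, 1, 3, 0, 2, 1, 1, 3, 1, 2, 0, 3, 1, 3, 1, 2, 1, 3, 1, 2, 1, 3, 0, 2, 1, 3, 1, 3, 1, 2, 0, 3, 1, 2, 1, 3, 1, 2, 0, 3, 1, 3, 1, 2, 1, 3, 1, 2, 1, 3, 0, 2, 1, 3, 1, 3, 1, 2], 0, true),
      ([0, 3, 0, 2, 0, 3, 0, 0, 2, 1, 3, 1, 2, 1, 3, 0, 2, 0, 2, 1, 3, 1, 2, 0, 3, 0, 2, 0, 3, 0, 2, 0, 2, 1, 3, 0, 2, 1, 1, 3, 1, 2, 0, 3, 1, 3, 1, 2, 1, 3, 1, 2, 1, 3, 0, 2, 1, 3, 1, 3, 1, 2, 0, 3, 1, 2, 1, 3, 1, 2, 0, 3, 1, 3, 1, 2, 1, 3, 1, 2, 1, 3], 0, true),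
      ([0, 3, 0, 2, 0, 3, 0, 0, 2, 1, 3, 1, 2, 1, 3, 0, 2, 0, 2, 1, 3, 1, 2, 0, 3, 0, 2, 0, 3, 0, 2, 0, 2, 1, 3, 0, 2, 1, 1, 3, 1, 2, 0, 3, 1, 3, 1, 2, 1, 3, 1, 2, 1, 3, 0, 2, 1, 3, 1, 3, 1, 2], 0, true),
      ([0, 3, 0, 2, 0, 3, 0, 0, 2, 1, 3, 1, 2, 1, 3, 0, 2, 0, 2, 1, 3, 1, 2, 0, 3, 0, 2, 0, 3, 0, 2, 0, 2, 1, 3, 0, 2, 1, 1, 3, 1, 2, 0, 3, 1, 3, 1, 2, 1, 3, 1, 2, 1, 3], 0, true),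
      ([0, 3, 0, 2, 0, 3, 0, 0, 2, 1, 3, 1, 2, 1, 3, 0, 2, 0, 2, 1, 3, 1, 2, 0, 3, 0, 2, 0, 3, 0, 2, 0, 2, 1, 3, 0, 2, 1, 1, 3, 1, 2, 0, 3, 1, 3, 1, 2, 1, 3, 1, 2, 1, 3, 1, 2, 1, 3, 1, 3, 1, 2, 1, 3, 1, 2, 1, 3, 1, 2], 0, true),
      ([0, 3, 0, 2, 0, 3, 0, 0, 2, 1, 3, 1, 2, 1, 3, 0, 2, 0, 2, 1, 3, 1, 2, 0, 3, 0, 2, 0, 3, 0, 2, 0, 2, 1, 3, 0, 2, 1, 1, 3, 1, 2], 0, true),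
      ([0, 3, 0, 2, 0, 3, 0, 0, 2, 1, 3, 1, 2, 1, 3, 0, 2, 0, 2, 1, 3, 1, 2, 0, 3, 0, 2, 0, 3, 0, 2, 0, 2, 1, 3, 0, 2, 1, 3, 0, 2, 0, 3, 0, 2, 0, 2, 0, 3, 0, 2, 0, 3, 0, 2, 0, 3], 5, false)]

/-- The conjugates of relators behind relator 6. -/
def fivePrf6 : List (List ℕ × ℕ × Bool) :=
  [([0, 3, 0, 2, 0, 2, 0, 2, 0, 2, 1, 2, 2, 1, 2, 2, 1, 2, 1, 3, 3, 0, 3, 1, 2, 2, 0, 2, 1, 2, 1, 3, 3, 0, 3, 1, 2, 1, 3, 1, 3, 1, 2, 1, 2, 0, 3, 0, 2, 0, 2, 0, 3, 0, 2, 1, 1, 3, 1, 2, 1, 3, 1, 3, 1, 2, 1, 3, 0, 3, 0, 2, 0, 2], 0, true),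
      ([0, 3, 0, 2, 0, 2, 0, 2, 0, 2, 1, 2, 2, 1, 2, 2, 1, 2, 1, 3, 3, 0, 3, 1, 2, 2, 0, 2, 1, 2, 1, 3, 3, 0, 3, 1, 2, 1, 3, 1, 3, 1, 2, 1, 2, 0, 3, 0, 2, 0, 2, 0, 3, 0, 2, 1, 2, 1], 0, true),
      ([0, 3, 0, 2, 0, 2, 0, 2, 0, 2, 1, 2, 2, 1, 2, 2, 1, 2, 1, 3, 3, 0, 3, 1, 2, 2, 0, 2, 1, 2, 1, 3, 3, 0, 3, 1, 2, 1, 3, 1, 3, 1, 2, 1, 2, 0, 3, 0, 2, 0, 2, 0, 3, 0, 2, 1, 2, 1, 1, 3, 1, 3, 1, 2, 1, 3, 1, 3, 1, 2, 1, 3, 0, 3, 0, 2, 0, 2, 1, 3, 1, 2, 1, 2, 1, 3, 1, 3, 3], 0, true),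
      ([0, 3, 0, 2, 0, 2, 0, 2, 0, 2, 1, 2, 2, 1, 2, 2, 1, 2, 1, 3, 3, 0, 3, 1, 2, 2, 0, 2, 1, 2, 1, 3, 3, 0, 3, 1, 2, 1, 3, 1, 3, 1, 2, 1, 2, 0, 3, 0, 2, 0, 2, 0, 3, 0, 2, 1, 2, 1, 1, 3, 1, 3, 1, 2, 1, 3, 1, 3, 1, 2, 1, 3, 0, 3, 0, 2, 0, 2, 1, 3, 1, 2, 1, 2, 1, 3, 1, 3, 3, 1, 2, 1], 1, true),
      ([0, 3, 0, 2, 0, 2, 0, 2, 0, 2, 1, 2, 2, 1, 2, 2, 1, 2, 1, 3, 3, 0, 3, 1, 2, 2, 0, 2, 1, 2, 1, 3, 3, 0, 3, 1, 2, 1, 3, 1, 3, 1, 2, 1, 2, 0, 3, 0, 2, 0, 2, 0, 3, 0, 2, 1, 2, 1, 1, 3, 1, 3, 1, 2, 1, 3, 1, 3, 1, 2, 1, 3, 0, 3, 0, 2, 0, 2, 1, 3, 1, 2, 1, 2, 1, 3, 1, 2], 1, false),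
      ([0, 3, 0, 2, 0, 2, 0, 2, 0, 2, 1, 2, 2, 1, 2, 2, 1, 2, 1, 3, 3, 0, 3, 1, 2, 2, 0, 2, 1, 2, 1, 3, 3, 0, 3, 1, 2, 1, 3, 1, 3, 1, 2, 1, 2, 0, 3, 0, 2, 0, 2, 0, 3, 0, 2, 1, 2, 1, 1, 3, 1, 3, 1, 2, 1, 3, 1, 3, 1, 2, 1, 3, 0, 3, 0], 0, true),
      ([0, 3, 0, 2, 0, 2, 0, 2, 0, 2, 1, 2, 2, 1, 2, 2, 1, 2, 1, 3, 3, 0, 3, 1, 2, 2, 0, 2, 1, 2, 1, 3, 3, 0, 3, 1, 2, 1, 3, 1, 3, 1, 2, 1, 2, 0, 3, 0, 2, 0, 2, 0, 3, 0, 2, 1, 2, 1, 1, 3, 1, 3, 1, 2, 1, 3, 1, 3, 1, 2, 1, 3, 0, 3, 1, 2], 0, true),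
      ([0, 3, 0, 2, 0, 2, 0, 2, 0, 2, 1, 2, 2, 1, 2, 2, 1, 2, 1, 3, 3, 0, 3, 1, 2, 2, 0, 2, 1, 2, 1, 3, 3, 0, 3, 1, 2, 1, 3, 1, 3, 1, 2, 1, 2, 0, 3, 0, 2, 0, 2, 0, 3, 0, 2, 1, 2, 1, 3, 1], 0, true),
      ([0, 3, 0, 2, 0, 2, 0, 2, 0, 2, 1, 2, 2, 1, 2, 2, 1, 2, 1, 3, 3, 0, 3, 1, 2, 2, 0, 2, 1, 2, 1, 3, 3, 0, 3, 1, 2, 1, 3, 1, 3, 1, 2, 1, 2, 0, 3, 0, 2, 0, 2, 0, 3, 0, 2, 1, 2, 1, 3, 1, 1, 2, 1, 3, 1, 3, 1, 2, 1, 3, 1, 3, 1, 2, 1, 3], 0, true),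
      ([0, 3, 0, 2, 0, 2, 0, 2, 0, 2, 1, 2, 2, 1, 2, 2, 1, 2, 1, 3, 3, 0, 3, 1, 2, 2, 0, 2, 1, 2, 1, 3, 3, 0, 3, 1, 2, 1, 3, 1, 3, 1, 2, 1, 2, 0, 3, 0, 2, 0, 2, 0, 3, 0, 2, 1, 2, 1, 3, 1, 2, 0, 3, 0, 3, 0, 2, 0, 3, 0, 3, 0, 2, 0, 3, 0, 3], 6, false),
      ([0, 3, 0, 2, 0, 2, 0, 2, 0, 2, 1, 2, 2, 1, 2, 2, 1, 2, 1, 3, 3, 0, 3, 1, 2, 2, 0, 2, 1, 2, 1, 3, 3, 0, 3, 1, 2, 1, 3, 1, 3, 1, 2, 1, 2, 0, 3, 0, 2, 0, 2, 0, 3, 0, 2, 1, 2, 1, 3, 1, 3, 3, 0, 3, 1, 2, 2, 0, 2, 0, 3, 0, 3, 0, 0], 0, true),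
      ([0, 3, 0, 2, 0, 2, 0, 2, 0, 2, 1, 2, 2, 1, 2, 2, 1, 2, 1, 3, 3, 0, 3, 1, 2, 2, 0, 2, 1, 2, 1, 3, 3, 0, 3, 1, 2, 1, 3, 1, 3, 1, 2, 1, 2, 0, 3, 0, 2, 0, 2, 0, 3, 0, 2, 1, 2, 1, 3, 1, 3, 3, 0, 3, 1, 2, 2, 0, 2, 0, 3, 0, 3, 1, 2, 1, 3, 1, 3, 1, 2, 1, 2, 0, 3, 0, 2, 0, 2, 0, 3, 0, 2, 0, 0], 0, true),
      ([0, 3, 0, 2, 0, 2, 0, 2, 0, 2, 1, 2, 2, 1, 2, 2, 1, 2, 1, 3, 3, 0, 3, 1, 2, 2, 0, 2, 1, 2, 1, 3, 3, 0, 3, 1, 2, 1, 3, 1, 3, 1, 2, 1, 2, 0, 3, 0, 2, 0, 2, 0, 3, 0, 2, 1, 2, 1, 3, 1, 3, 3, 0, 3, 1, 2, 2, 0, 2, 0, 2, 0, 3], 0, true),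
      ([0, 3, 0, 2, 0, 2, 0, 2, 0, 2, 1, 2, 2, 1, 2, 2, 1, 2, 1, 3, 3, 0, 3, 1, 2, 2, 0, 2, 1, 2, 1, 3, 3, 0, 3, 1, 2, 1, 3, 1, 3, 1, 2, 1, 2, 0, 3, 0, 2, 0, 2, 0, 3, 0, 2, 1, 2, 1, 3, 3, 0, 2, 0, 2, 1, 3, 1, 2, 2, 0, 2, 0, 2, 1, 2, 2, 1, 2, 2, 1], 0, true),
      ([0, 3, 0, 2, 0, 2, 0, 2, 0, 2, 1, 2, 2, 1, 2, 2, 1, 2, 1, 3, 3, 0, 3, 1, 2, 2, 0, 2, 1, 2, 1, 3, 3, 0, 3, 1, 2, 1, 3, 1, 3, 1, 2, 1, 2, 0, 3, 0, 2, 0, 2, 0, 3, 0, 2, 1, 2, 1, 3, 3, 0, 2, 0, 2, 1, 3, 1, 2, 2, 0, 2, 0, 2, 1, 2, 2, 1, 2, 2, 1, 1, 3, 3, 0, 3, 3, 0, 3, 1, 3, 1, 2], 1, false),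
      ([0, 3, 0, 2, 0, 2, 0, 2, 0, 2, 1, 2, 2, 1, 2, 2, 1, 2, 1, 3, 3, 0, 3, 1, 2, 2, 0, 2, 1, 2, 1, 3, 3, 0, 3, 1, 2, 1, 3, 1, 3, 1, 2, 1, 2, 0, 3, 0, 2, 0, 2, 0, 3, 0, 2, 1, 2, 1, 3, 3, 0, 2, 0, 2, 1, 3, 1, 2, 2, 0, 2, 0, 2, 1, 2, 2, 1, 2, 2, 1, 1, 3, 3, 0, 3, 3, 0, 3, 1, 3, 1, 2, 0, 2, 0, 3, 1, 3, 1, 2, 1, 3, 3, 0, 3, 1, 2, 2, 0, 2, 0, 2, 0, 3, 1, 3, 1, 3, 3, 0, 2, 1, 2, 2, 0], 0, true),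
      ([0, 3, 0, 2, 0, 2, 0, 2, 0, 2, 1, 2, 2, 1, 2, 2, 1, 2, 1, 3, 3, 0, 3, 1, 2, 2, 0, 2, 1, 2, 1, 3, 3, 0, 3, 1, 2, 1, 3, 1, 3, 1, 2, 1, 2, 0, 3, 0, 2, 0, 2, 0, 3, 0, 2, 1, 2, 1, 3, 3, 0, 2, 0, 2, 1, 3, 1, 2, 2, 0, 2, 0, 2, 1, 2, 2, 1, 2, 2, 1, 1, 3, 3, 0, 3, 3, 0, 3, 1, 3, 1, 2, 0, 2, 0, 3, 1, 3, 1, 2, 1, 3, 3, 0, 3, 1, 2, 2, 0, 2, 0, 2, 0, 3, 1, 3, 1, 2], 1, false),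
      ([0, 3, 0, 2, 0, 2, 0, 2, 0, 2, 1, 2, 2, 1, 2, 2, 1, 2, 1, 3, 3, 0, 3, 1, 2, 2, 0, 2, 1, 2, 1, 3, 3, 0, 3, 1, 2, 1, 3, 1, 3, 1, 2, 1, 2, 0, 3, 0, 2, 0, 2, 0, 3, 0, 2, 1, 2, 1, 3, 3, 0, 2, 0, 2, 1, 3, 1, 2, 2, 0, 2, 0, 2, 1, 2, 2, 1, 2, 2, 1, 2, 0, 3, 3], 1, true),
      ([0, 3, 0, 2, 0, 2, 0, 2, 0, 2, 1, 2, 2, 1, 2, 2, 1, 2, 1, 3, 3, 0, 3, 1, 2, 2, 0, 2, 1, 2, 1, 3, 3, 0, 3, 1, 2, 1, 3, 1, 3, 1, 2, 1, 2, 0, 3, 0, 2, 0, 2, 0, 3, 0, 2, 1, 2, 1, 3, 3, 0, 2, 0, 2, 1, 3, 1, 2, 2, 0, 2, 0, 2, 1, 2, 2, 1, 2, 2, 1, 2, 0, 3, 3, 3, 1, 3, 1, 3, 3, 0, 3, 3, 0, 3, 1, 3, 1, 2, 0, 2, 0, 3, 1, 3, 1, 2, 1, 3, 3, 0, 3, 1, 2, 2, 0, 2, 0, 2,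 0, 3, 1, 3, 1, 2, 0, 2, 0, 0], 0, false),
      ([0, 3, 0, 2, 0, 2, 0, 2, 0, 2, 1, 2, 2, 1, 2, 2, 1, 2, 1, 3, 3, 0, 3, 1, 2, 2, 0, 2, 1, 2, 1, 3, 3, 0, 3, 1, 2, 1, 3, 1, 3, 1, 2, 1, 2, 0, 3, 0, 2, 0, 2, 0, 3, 0, 2, 1, 2, 1, 3, 3, 0, 2, 0, 2, 1, 3, 1, 2, 2, 0, 2, 0, 2, 1, 2, 2, 1, 2, 2, 1, 2, 0, 3, 3, 3, 1, 3, 1, 3, 3, 0, 3, 3, 0, 3, 1, 3, 1, 2, 0, 2, 0, 3, 1, 3, 1, 2, 1, 3, 3, 0, 3, 1], 1, true),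
      ([0, 3, 0, 2, 0, 2, 0, 2, 0, 2, 1, 2, 2, 1, 2, 2, 1, 2, 1, 3, 3, 0, 3, 1, 2, 2, 0, 2, 1, 2, 1, 3, 3, 0, 3, 1, 2, 1, 3, 1, 3, 1, 2, 1, 2, 0, 3, 0, 2, 0, 2, 0, 3, 0, 2, 1, 2, 1, 3, 3, 0, 2, 0, 2, 1, 3, 1, 2, 2, 0, 2, 0, 2, 1, 2, 2, 1, 2, 2, 1, 2, 0, 3, 3, 3, 1, 3, 1, 3, 3, 0, 3, 3, 0, 3, 1, 3, 1, 2, 0, 2, 0, 3, 1, 3, 1, 2, 1, 2], 1, false),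
      ([0, 3, 0, 2, 0, 2, 0, 2, 0, 2, 1, 2, 2, 1, 2, 2, 1, 2, 1, 3, 3, 0, 3, 1, 2, 2, 0, 2, 1, 2, 1, 3, 3, 0, 3, 1, 2, 1, 3, 1, 3, 1, 2, 1, 2, 0, 3, 0, 2, 0, 2, 0, 3, 0, 2, 1, 2, 1, 3, 3, 0, 2, 0, 2, 1, 3, 1, 2, 2, 0, 2, 0, 2, 1, 2, 2, 1, 2, 2, 1, 2, 0, 3, 3, 3, 1, 3, 1, 3, 3, 0, 3, 3, 0, 3, 1, 3, 1, 2, 0, 2, 0, 3, 1, 3, 1, 2, 0], 0, false),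
      ([0, 3, 0, 2, 0, 2, 0, 2, 0, 2, 1, 2, 2, 1, 2, 2, 1, 2, 1, 3, 3, 0, 3, 1, 2, 2, 0, 2, 1, 2, 1, 3, 3, 0, 3, 1, 2, 1, 3, 1, 3, 1, 2, 1, 2, 0, 3, 0, 2, 0, 2, 0, 3, 0, 2, 1, 2, 1, 3, 3, 0, 2, 0, 2, 1, 3, 1, 2, 2, 0, 2, 0, 2, 1, 2, 2, 1, 2, 2, 1, 2, 0, 3, 3, 1, 3, 1, 3, 0, 2, 0, 2, 1, 3, 1, 3, 1], 0, true),
      ([0, 3, 0, 2, 0, 2, 0, 2, 0, 2, 1, 2, 2, 1, 2, 2, 1, 2, 1, 3, 3, 0, 3, 1, 2, 2, 0, 2, 1, 2, 1, 3, 3, 0, 3, 1, 2, 1, 3, 1, 3, 1, 2, 1, 2, 0, 3, 0, 2, 0, 2, 0, 3, 0, 2, 1, 2, 1, 3, 3, 0, 2, 0, 2, 1, 3, 1, 2, 2, 0, 2, 0, 2, 1, 2, 2, 1, 2, 2, 1, 2, 0, 3, 3, 1, 3, 1, 3, 0, 2, 0, 2, 1, 3, 1, 3, 1, 1, 2, 0, 2, 0, 3, 1, 3, 1,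 2, 0, 2, 0, 3, 1, 3, 1, 3, 3, 0, 2, 2], 1, false),
      ([0, 3, 0, 2, 0, 2, 0, 2, 0, 2, 1, 2, 2, 1, 2, 2, 1, 2, 1, 3, 3, 0, 3, 1, 2, 2, 0, 2, 1, 2, 1, 3, 3, 0, 3, 1, 2, 1, 3, 1, 3, 1, 2, 1, 2, 0, 3, 0, 2, 0, 2, 0, 3, 0, 2, 1, 2, 1, 3, 3, 0, 2, 0, 2, 1, 3, 1, 2, 2, 0, 2, 0, 2, 1, 2, 2, 1, 2, 2, 1, 2, 0, 3, 3, 1, 3, 1, 3, 0, 2, 0, 2, 1, 3, 1, 3, 1, 1, 2, 0, 2, 0, 3, 1, 3, 1, 2, 0, 2, 0, 3, 1, 3, 1, 2, 2], 1, false),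
      ([0, 3, 0, 2, 0, 2, 0, 2, 0, 2, 1, 2, 2, 1, 2, 2, 1, 2, 1, 3, 3, 0, 3, 1, 2, 2, 0, 2, 1, 2, 1, 3, 3, 0, 3, 1, 2, 1, 3, 1, 3, 1, 2, 1, 2, 0, 3, 0, 2, 0, 2, 0, 3, 0, 2, 1, 2, 1, 3, 3, 0, 2, 0, 2, 1, 3, 1, 2, 2, 0, 2, 0, 2, 1, 2, 2, 1, 2, 2, 1, 2, 0, 3, 3, 1, 3, 1, 3, 0, 2, 0, 2, 1, 3, 1, 3, 1, 2, 0, 2, 1, 3, 1, 3, 0, 2, 0, 2, 1, 3, 1, 3, 0, 2, 0, 2, 1, 3, 1, 3, 0, 2, 0, 2, 1, 3, 1, 3, 0, 2, 0, 2], 4, false)]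

/-- The conjugates of relators behind relator 7. -/
def fivePrf7 : List (List ℕ × ℕ × Bool) :=
  [([0, 3, 0, 2, 0, 2, 0, 2, 0, 3, 0, 3, 1, 3, 3, 0, 3, 1, 2, 2, 0, 2, 1, 2, 1, 3, 1, 3, 3, 0, 2, 0, 3, 1, 3, 1, 2, 1, 3, 1, 2, 1, 2, 0, 3, 0, 2, 0, 2, 0, 3, 0, 2, 1, 2, 2, 0, 3, 0, 3, 3, 0, 3, 1, 3, 1, 3, 3, 3, 1, 2, 1, 2, 1, 3, 1, 2, 1, 2, 1, 3, 1, 2, 1, 3, 1, 3, 1, 2, 1, 3, 1, 3, 1, 2, 1, 3, 1, 3, 1], 6, false),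
      ([0, 3, 0, 2, 0, 2, 0, 2, 0, 3, 0, 3, 1, 3, 3, 0, 3, 1, 2, 2, 0, 2, 1, 2, 1, 3, 1, 3, 3, 0, 2, 0, 3, 1, 3, 1, 2, 1, 3, 1, 2, 1, 2, 0, 3, 0, 2, 0, 2, 0, 3, 0, 2, 1, 2, 2, 0, 3, 0, 3, 3, 0, 3, 1, 3, 1, 3, 3, 0, 3, 0, 3, 0, 2, 0, 2, 0, 3, 0, 2, 0, 2, 0, 3, 0, 2, 0, 2, 0, 3, 0, 2, 0, 3, 0, 3, 0, 2, 2], 1, true),
      ([0, 3, 0, 2, 0, 2, 0, 2, 0, 3, 0, 3, 1, 3, 3, 0, 3, 1, 2, 2, 0, 2, 1, 2, 1, 3, 1, 3, 3, 0, 2, 0, 3, 1, 3, 1, 2, 1, 3, 1, 2, 1, 2, 0, 3, 0, 2, 0, 2, 0, 3, 0, 2, 1, 2, 2, 0, 3, 0, 3, 3, 0, 3, 1, 3, 1, 3, 3, 0, 3, 0, 3, 0, 2, 0, 2, 0, 3, 0, 2, 0], 0, true),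
      ([0, 3, 0, 2, 0, 2, 0, 2, 0, 3, 0, 3, 1, 3, 3, 0, 3, 1, 2, 2, 0, 2, 1, 2, 1, 3, 1, 3, 3, 0, 2, 0, 3, 1, 3, 1, 2, 1, 3, 1, 2, 1, 2, 0, 3, 0, 2, 0, 2, 0, 3, 0, 2, 1, 2, 2, 0, 3, 0, 3, 3, 0, 3, 1, 3, 1, 3, 3, 0, 3, 0, 3, 0], 0, true),
      ([0, 3, 0, 2, 0, 2, 0, 2, 0, 3, 0, 3, 1, 3, 3, 0, 3, 1, 2, 2, 0, 2, 1, 2, 1, 3, 1, 3, 3, 0, 2, 0, 3, 1, 3, 1, 2, 1, 3, 1, 2, 1, 2, 0, 3, 0, 2, 0, 2, 0, 3, 0, 2, 1, 2, 2, 0, 3, 0, 3, 3, 0, 3, 1, 3, 1, 3, 3, 0, 3, 0, 3, 1, 2, 0, 2, 0], 0, true),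
      ([0, 3, 0, 2, 0, 2, 0, 2, 0, 3, 0, 3, 1, 3, 3, 0, 3, 1, 2, 2, 0, 2, 1, 2, 1, 3, 1, 3, 3, 0, 2, 0, 3, 1, 3, 1, 2, 1, 3, 1, 2, 1, 2, 0, 3, 0, 2, 0, 2, 0, 3, 0, 2, 1, 2, 2, 0, 3, 0, 3, 3, 0, 3, 1, 3, 1, 3, 3, 0, 3, 0, 3, 1, 2, 0, 2, 1, 3, 0, 0], 0, true),
      ([0, 3, 0, 2, 0, 2, 0, 2, 0, 3, 0, 3, 1, 3, 3, 0, 3, 1, 2, 2, 0, 2, 1, 2, 1, 3, 1, 3, 3, 0, 2, 0, 3, 1, 3, 1, 2, 1, 3, 1, 2, 1, 2, 0, 3, 0, 2, 0, 2, 0, 3, 0, 2, 1, 2, 2, 0, 3, 0, 3, 3, 0, 3, 1, 3, 1, 3, 3, 0, 3, 0, 3, 1, 2, 0], 0, true),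
      ([0, 3, 0, 2, 0, 2, 0, 2, 0, 3, 0, 3, 1, 3, 3, 0, 3, 1, 2, 2, 0, 2, 1, 2, 1, 3, 1, 3, 3, 0, 2, 0, 3, 1, 3, 1, 2, 1, 3, 1, 2, 1, 2, 0, 3, 0, 2, 0, 2, 0, 3, 0, 2, 1, 2, 2, 0, 3, 0, 3, 3, 0, 3, 1, 3, 1, 3, 3, 0, 3, 0, 3, 1, 2, 1, 2, 1, 3, 1, 2, 1, 2, 0, 3, 0, 2, 0, 2, 0, 3, 0, 2, 0, 3, 0, 3, 0, 3, 3, 0, 3, 0, 3, 0], 0, true),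
      ([0, 3, 0, 2, 0, 2, 0, 2, 0, 3, 0, 3, 1, 3, 3, 0, 3, 1, 2, 2, 0, 2, 1, 2, 1, 3, 1, 3, 3, 0, 2, 0, 3, 1, 3, 1, 2, 1, 3, 1, 2, 1, 2, 0, 3, 0, 2, 0, 2, 0, 3, 0, 2, 1, 2, 2, 0, 3, 0, 3, 3, 0, 3, 1, 3, 1, 3, 3, 0, 3, 0, 3, 1, 2, 1, 2, 1, 3, 1, 2, 1, 2, 0, 3, 0, 2, 0, 2, 0, 3, 0, 2, 0, 0], 0, true),
      ([0, 3, 0, 2, 0, 2, 0, 2, 0, 3, 0, 3, 1, 3, 3, 0, 3, 1, 2, 2, 0, 2, 1, 2, 1, 3, 1, 3, 3, 0, 2, 0, 3, 1, 3, 1, 2, 1, 3, 1, 2, 1, 2, 0, 3, 0, 2, 0, 2, 0, 3, 0, 2, 1, 2, 2, 0, 3, 0, 3, 3, 0, 3, 1, 3, 1, 3, 3, 0, 3, 0, 3, 1, 2, 1, 2, 1, 3, 1, 2, 1, 2, 0, 3, 0, 2, 0, 2, 0, 3, 0, 2, 1], 1, false),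
      ([0, 3, 0, 2, 0, 2, 0, 2, 0, 3, 0, 3, 1, 3, 3, 0, 3, 1, 2, 2, 0, 2, 1, 2, 1, 3, 1, 3, 3, 0, 2, 0, 3, 1, 3, 1, 2, 1, 3, 1, 2, 1, 2, 0, 3, 0, 2, 0, 2, 0, 3, 0, 2, 1, 2, 2, 0, 3, 0, 3, 3, 0, 3, 1, 3, 1, 3, 3, 0, 3, 0, 3, 1, 2, 1, 2, 1, 3, 1, 2, 1, 2, 0, 3, 0, 2, 0, 2, 0, 3, 0, 2, 1, 2, 2, 0, 3, 0, 3, 3, 0, 3, 0, 0], 0, true),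
      ([0, 3, 0, 2, 0, 2, 0, 2, 0, 3, 0, 3, 1, 3, 3, 0, 3, 1, 2, 2, 0, 2, 1, 2, 1, 3, 1, 3, 3, 0, 2, 0, 3, 1, 3, 1, 2, 1, 3, 1, 2, 1, 2, 0, 3, 0, 2, 0, 2, 0, 3, 0, 2, 1, 2, 2, 0, 3, 0, 3, 3, 0, 3, 1, 3, 1, 3, 3, 0, 3, 0, 3, 1, 2, 1, 2, 1, 3, 1, 2, 1, 2, 0, 3, 0, 2, 0, 2, 0, 3, 0, 2, 1, 2, 2, 0, 3, 0, 3, 3, 0, 3, 1, 3, 1, 2], 1, true),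
      ([0, 3, 0, 2, 0, 2, 0, 2, 0, 3, 0, 3, 1, 3, 3, 0, 3, 1, 2, 2, 0, 2, 1, 2, 1, 3, 1, 3, 3, 0, 2, 0, 3, 1, 3, 1, 2, 1, 3, 1, 2, 1, 2, 0, 3, 0, 2, 0, 2, 0, 3, 0, 2, 1, 2, 2, 0, 3, 0, 3, 3, 0, 3, 1, 3, 1, 3, 3, 0, 3, 0, 3, 1, 2, 2, 0, 2, 1, 3, 1, 2, 2, 0, 2, 0, 3], 0, true),
      ([0, 3, 0, 2, 0, 2, 0, 2, 0, 3, 0, 3, 1, 3, 3, 0, 3, 1, 2, 2, 0, 2, 1, 2, 1, 3, 1, 3, 3, 0, 2, 0, 3, 1, 3, 1, 2, 1, 3, 1, 2, 1, 2, 0, 3, 0, 2, 0, 2, 0, 3, 0, 2, 1, 2, 2, 0, 3, 0, 3, 3, 0, 3, 1, 3, 1, 3, 3, 0, 3, 0, 3, 1, 2, 2, 0, 2, 1, 3, 1, 2, 2, 0, 2, 0, 3, 1, 3, 1, 3, 3, 0, 2, 1, 2, 2, 0, 2, 1, 2, 1, 3, 1, 2], 1, false),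
      ([0, 3, 0, 2, 0, 2, 0, 2, 0, 3, 0, 3, 1, 3, 3, 0, 3, 1, 2, 2, 0, 2, 1, 2, 1, 3, 1, 3, 3, 0, 2, 0, 3, 1, 3, 1, 2, 1, 3, 1, 2, 1, 2, 0, 3, 0, 2, 0, 2, 0, 3, 0, 2, 1, 2, 2, 0, 3, 0, 3, 3, 0, 3, 1, 3, 1, 3, 3, 0, 3, 0, 3, 1, 2, 2, 0, 2, 1, 3, 1], 1, true),
      ([0, 3, 0, 2, 0, 2, 0, 2, 0, 3, 0, 3, 1, 3, 3, 0, 3, 1, 2, 2, 0, 2, 1, 2, 1, 3, 1, 3, 3, 0, 2, 0, 3, 1, 3, 1, 2, 1, 3, 1, 2, 1, 2, 0, 3, 0, 2, 0, 2, 0, 3, 0, 2, 1, 2, 2, 0, 3, 0, 3, 3, 0, 3, 1, 3, 1, 3, 3, 0, 3, 0, 3, 1, 2, 2, 0, 2, 1, 3, 1, 3, 0, 2, 0, 3, 1, 3, 1, 3, 3, 0, 2, 1, 2, 2, 0], 0, true),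
      ([0, 3, 0, 2, 0, 2, 0, 2, 0, 3, 0, 3, 1, 3, 3, 0, 3, 1, 2, 2, 0, 2, 1, 2, 1, 3, 1, 3, 3, 0, 2, 0, 3, 1, 3, 1, 2, 1, 3, 1, 2, 1, 2, 0, 3, 0, 2, 0, 2, 0, 3, 0, 2, 1, 2, 2, 0, 3, 0, 3, 3, 0, 3, 1, 3, 1, 3, 3, 0, 3, 0, 3, 1, 2, 2, 0, 2, 1, 3, 1, 3, 0, 2, 0], 0, true),
      ([0, 3, 0, 2, 0, 2, 0, 2, 0, 3, 0, 3, 1, 3, 3, 0, 3, 1, 2, 2, 0, 2, 1, 2, 1, 3, 1, 3, 3, 0, 2, 0, 3, 1, 3, 1, 2, 1, 3, 1, 2, 1, 2, 0, 3, 0, 2, 0, 2, 0, 3, 0, 2, 1, 2, 2, 0, 3, 0, 3, 3, 0, 3, 1, 3, 1, 3, 3, 0, 3, 0, 3, 1, 2, 2, 0, 2, 1, 3, 1, 3, 0, 2, 1, 3, 1, 3, 1, 3, 3, 0, 2, 1], 1, true),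
      ([0, 3, 0, 2, 0, 2, 0, 2, 0, 3, 0, 3, 1, 3, 3, 0, 3, 1, 2, 2, 0, 2, 1, 2, 1, 3, 1, 3, 3, 0, 2, 0, 3, 1, 3, 1, 2, 1, 3, 1, 2, 1, 2, 0, 3, 0, 2, 0, 2, 0, 3, 0, 2, 1, 2, 2, 0, 3, 0, 3, 3, 0, 3, 1, 3, 1, 3, 3, 0, 3, 0, 3, 1, 2, 2, 0, 2, 1, 3, 1, 3, 0, 2, 1, 3, 1, 3, 1, 2], 1, false),
      ([0, 3, 0, 2, 0, 2, 0, 2, 0, 3, 0, 3, 1, 3, 3, 0, 3, 1, 2, 2, 0, 2, 1, 2, 1, 3, 1, 3, 3, 0, 2, 0, 3, 1, 3, 1, 2, 1, 3, 1, 2, 1, 2, 0, 3, 0, 2, 0, 2, 0, 3, 0, 2, 1, 2, 2, 0, 3, 0, 3, 3, 0, 3, 1, 3, 1, 3, 3, 0, 3, 0, 3, 1, 2, 2, 0, 2, 1, 3, 1, 3, 0, 2, 1, 3, 1, 3, 1, 2, 0], 0, true),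
      ([0, 3, 0, 2, 0, 2, 0, 2, 0, 3, 0, 3, 1, 3, 3, 0, 3, 1, 2, 2, 0, 2, 1, 2, 1, 3, 1, 3, 3, 0, 2, 0, 3, 1, 3, 1, 2, 1, 3, 1, 2, 1, 2, 0, 3, 0, 2, 0, 2, 0, 3, 0, 2, 1, 2, 2, 0, 3, 0, 3, 3, 0, 3, 1, 3, 1, 3, 3, 0, 3, 0, 3, 1, 2, 2, 0, 2, 1, 3, 1, 3], 0, true),
      ([0, 3, 0, 2, 0, 2, 0, 2, 0, 3, 0, 3, 1, 3, 3, 0, 3, 1, 2, 2, 0, 2, 1, 2, 1, 3, 1, 3, 3, 0, 2, 0, 3, 1, 3, 1, 2, 1, 3, 1, 2, 1, 2, 0, 3, 0, 2, 0, 2, 0, 3, 0, 2, 1, 2, 2, 0, 3, 0, 3, 3, 0, 3, 1, 3, 1, 3, 3, 0, 3, 0, 3, 1, 2, 2, 0, 2, 1, 3, 1, 3, 1, 2, 1, 3, 1, 3, 1, 2, 1, 2, 1, 3, 1, 2, 1, 2, 1, 3, 1, 2], 0, true),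
      ([0, 3, 0, 2, 0, 2, 0, 2, 0, 3, 0, 3, 1, 3, 3, 0, 3, 1, 2, 2, 0, 2, 1, 2, 1, 3, 1, 3, 3, 0, 2, 0, 3, 1, 3, 1, 2, 1, 3, 1, 2, 1, 2, 0, 3, 0, 2, 0, 2, 0, 3, 0, 2, 1, 2, 2, 0, 3, 0, 3, 3, 0, 3, 1, 3, 1, 3, 3, 0, 3, 0, 3, 1, 2, 2, 0, 2, 1, 3, 1, 3, 1, 2, 1, 3, 1, 3, 1, 2, 1, 2, 1, 3, 1, 2, 1, 2, 1, 3, 1, 2, 1, 2, 0, 3, 1, 3, 3], 0, true),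
      ([0, 3, 0, 2, 0, 2, 0, 2, 0, 3, 0, 3, 1, 3, 3, 0, 3, 1, 2, 2, 0, 2, 1, 2, 1, 3, 1, 3, 3, 0, 2, 0, 3, 1, 3, 1, 2, 1, 3, 1, 2, 1, 2, 0, 3, 0, 2, 0, 2, 0, 3, 0, 2, 1, 2, 2, 0, 3, 0, 3, 3, 0, 3, 1, 3, 1, 3, 3, 0, 3, 0, 3, 1, 2, 2, 0, 2, 1, 3, 1, 3, 1, 2, 1, 3, 1, 3, 1, 2, 1, 2, 1, 3, 1, 2, 1, 2, 1, 3, 1, 2, 1, 2], 0, true),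
      ([0, 3, 0, 2, 0, 2, 0, 2, 0, 3, 0, 3, 1, 3, 3, 0, 3, 1, 2, 2, 0, 2, 1, 2, 1, 3, 1, 3, 3, 0, 2, 0, 3, 1, 3, 1, 2, 1, 3, 1, 2, 1, 2, 0, 3, 0, 2, 0, 2, 0, 3, 0, 2, 1, 2, 2, 0, 3, 0, 3, 3, 0, 3, 1, 3, 1, 3, 3, 0, 3, 0, 3, 1, 2, 2], 0, true),
      ([0, 3, 0, 2, 0, 2, 0, 2, 0, 3, 0, 3, 1, 3, 3, 0, 3, 1, 2, 2, 0, 2, 1, 2, 1, 3, 1, 3, 3, 0, 2, 0, 3, 1, 3, 1, 2, 1, 3, 1, 2, 1, 2, 0, 3, 0, 2, 0, 2, 0, 3, 0, 2, 1, 2, 2, 0, 3, 0, 3, 3, 0, 3, 1, 3, 1, 3, 3, 0, 3, 0, 3, 1, 2, 2, 1, 2, 1, 3, 1, 3, 1, 2, 1, 3, 1, 3, 1, 2, 1, 2, 1, 3, 1, 2, 1, 2, 1, 3, 1, 2, 1, 2, 1, 3, 1, 2, 2, 2], 1, false),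
      ([0, 3, 0, 2, 0, 2, 0, 2, 0, 3, 0, 3, 1, 3, 3, 0, 3, 1, 2, 2, 0, 2, 1, 2, 1, 3, 1, 3, 3, 0, 2, 0, 3, 1, 3, 1, 2, 1, 3, 1, 2, 1, 2, 0, 3, 0, 2, 0, 2, 0, 3, 0, 2, 1, 2, 2, 0, 3, 0, 3, 3, 0, 3, 1, 3, 1, 3, 3, 0, 3, 0, 3, 1, 2, 2], 1, true),
      ([0, 3, 0, 2, 0, 2, 0, 2, 0, 3, 0, 3, 1, 3, 3, 0, 3, 1, 2, 2, 0, 2, 1, 2, 1, 3, 1, 3, 3, 0, 2, 0, 3, 1, 3, 1, 2, 1, 3, 1, 2, 1, 2, 0, 3, 0, 2, 0, 2, 0, 3, 0, 2, 1, 2, 2, 0, 3, 0, 3, 3, 0, 3, 1, 3, 1, 3, 3, 0, 3, 0, 0, 3, 0, 2, 0, 3, 0, 3, 0, 2, 0, 3, 0, 3, 0, 2, 0, 3, 0, 3], 6, false)]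

/-- The conjugates of relators behind relator 8. -/
def fivePrf8 : List (List ℕ × ℕ × Bool) :=
  [([0, 3, 0, 3, 0, 0], 1, true),
      ([0, 3, 0, 3, 0, 0, 3, 0, 3, 0, 2, 0, 3, 1, 3, 0], 0, false),
      ([0, 3, 0, 3, 0, 0, 3, 0, 3, 0, 2, 0, 3, 1, 3, 0, 2, 1, 3, 1, 2, 2, 0, 2, 1, 3, 3, 0, 3, 0, 2, 0, 2, 1, 2, 2, 0, 2, 1, 2, 2, 2], 1, false),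
      ([0, 3, 0, 3, 0, 0, 3, 0, 3, 0, 2, 0, 3, 1, 3, 0, 2, 1, 3, 1, 2, 2, 0, 2, 1, 3, 3, 0, 3, 0, 2, 0, 2, 1, 2, 2], 1, true),
      ([0, 3, 0, 3, 0, 0, 3, 0, 3, 0, 2, 0, 3, 1, 3, 0, 2, 1, 3, 1, 2, 2, 0, 2, 1, 2, 2, 2], 1, false),
      ([0, 3, 0, 3, 0, 0, 3, 0, 3, 0, 2, 0, 3, 1, 3, 0, 2, 1, 3, 1, 2, 2], 1, true),
      ([0, 3, 0, 3, 0, 0, 3, 0, 3, 0, 2, 0, 3, 1, 3, 0, 2, 1, 3, 0, 3], 6, true),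
      ([0, 3, 0, 3, 0, 0, 3, 0, 3, 0, 2, 0, 3, 1, 3, 0, 2, 1, 1, 3, 1, 2], 0, false),
      ([0, 3, 0, 3, 0, 0, 3, 0, 3, 0, 2, 0, 3, 1, 3, 0, 2, 1, 1, 3, 1, 2, 0, 2, 1, 3, 1, 2, 1, 2, 1, 3, 1, 2, 1, 3, 0], 0, false),
      ([0, 3, 0, 3, 0, 0, 3, 0, 3, 0, 2, 0, 3, 1, 3, 0, 2, 1, 1, 3, 1, 2, 0, 2, 1, 3, 1, 2, 1, 2, 1, 3, 1, 2, 1, 3, 0, 3, 1, 2, 1, 3, 1, 3, 1, 2, 1, 3, 0], 0, false),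
      ([0, 3, 0, 3, 0, 0, 3, 0, 3, 0, 2, 0, 3, 1, 3, 0, 2, 1], 0, false),
      ([0, 3, 0, 3, 0, 3, 1, 2, 1, 3, 0, 3, 1, 2, 0], 0, false),
      ([0, 3, 0, 3, 0, 3, 1, 2, 1, 3, 0, 3, 1, 2, 0, 3, 1, 3, 1, 2, 1, 3, 0, 3, 1, 2, 0], 0, false),
      ([0, 3, 0, 3, 0, 3, 1, 2, 1, 2, 2, 0, 3, 1, 3, 3, 0, 3], 0, false),
      ([0, 3, 0, 3, 0, 3, 1, 2, 1, 2, 2, 0, 3, 1, 3, 3, 0, 3, 0, 3, 1, 2, 1, 2, 2, 0, 3, 1, 3, 3, 0, 2, 0, 3, 0, 2, 0, 2, 1, 3, 1, 2, 1, 3, 3], 0, false),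
      ([0, 3, 0, 3, 0, 3, 1, 2, 2, 0, 2, 0, 3, 0, 3, 1, 2, 1, 3, 1, 3, 1, 2, 1, 2, 0, 3, 0, 2, 0, 2, 0, 3, 0, 2, 0, 0], 0, false),
      ([0, 3, 0, 3, 0, 3, 1, 2, 2, 0, 2, 0, 3, 0, 3, 0, 0], 0, false),
      ([0, 3, 0, 2, 2, 0, 3, 0, 3, 0, 2, 0, 3, 0, 3, 0, 2, 0, 3, 0, 3], 6, true),
      ([0, 3, 0, 2, 1, 2, 1, 3, 1, 3, 1, 2, 1, 3, 1, 3, 1, 2, 1, 3], 0, false),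
      ([0, 3, 0, 2], 0, false),
      ([0, 3, 0, 2, 0, 2, 1, 3, 1, 3, 1, 2, 1, 3, 1, 3, 1, 2, 1, 3, 0, 3, 1, 2], 0, false),
      ([0, 3, 0, 2, 0, 2, 1, 3, 1, 3, 1, 2, 1, 3, 1, 3, 1, 2, 1, 3, 0, 3, 0], 0, false),
      ([0, 3, 0, 2, 0, 2, 1, 3, 1, 3, 1, 2, 1, 3, 1, 3, 1, 2, 1, 3, 0, 3, 0, 2, 0, 2, 1, 3, 1, 2, 1, 2, 1, 3, 1, 2], 1, true),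
      ([0, 3, 0, 2, 0, 2, 1, 3, 1, 3, 1, 2, 1, 3, 1, 3, 1, 2, 1, 3, 0, 3, 0, 2, 0, 2, 1, 3, 1, 2, 1, 2, 1, 3, 1, 3, 3, 1, 2, 1], 1, false),
      ([0, 3, 0, 2, 0, 2, 1, 3, 1, 3, 1, 2, 1, 3, 1, 3, 1, 2, 1, 3, 0, 3, 0, 2, 0, 2, 1, 3, 1, 2, 1, 2, 1, 3, 1, 3, 3], 0, false),
      ([0, 3, 0, 2, 0, 2], 0, false),
      ([0, 3, 0, 2, 0, 2, 0, 3, 1, 3, 1, 2, 1, 3, 1, 3, 1, 2, 1, 3, 0, 3, 0, 2, 0, 2], 0, false),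
      ([0, 3, 0, 2, 0, 2, 0, 3, 0, 3, 1, 2, 1, 3, 1, 3, 1, 2, 1, 3, 0, 3, 0, 2, 0, 2, 0, 3, 0, 2, 1, 2, 1, 3, 1, 3, 1, 2, 2, 0, 3, 1, 3, 3, 0, 3, 0, 3, 1, 2, 2, 0, 2, 0, 3, 0, 3, 1, 2, 1, 3, 1, 3, 1, 2, 1, 2, 0, 3, 0, 2, 0, 2, 0, 3, 0, 2, 0, 0], 0, false),
      ([0, 3, 0, 2, 0, 2, 0, 3, 0, 3, 1, 2, 1, 3, 1, 3, 1, 2, 1, 3, 0, 3, 0, 2, 0, 2, 0, 3, 0, 2, 1, 2, 1, 3, 1, 3, 1, 2, 2, 0, 3, 1, 3, 3, 0, 3, 0, 3, 1, 2, 2, 0, 2, 0, 3, 0, 3, 0, 0], 0, false),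
      ([0, 3, 0, 2, 0, 2, 0, 3, 0, 3, 1, 2, 1, 3, 1, 3, 1, 2, 1, 3, 0, 3, 0, 2, 0, 2, 0, 3, 0, 2, 1, 2, 1, 3, 1, 3, 1, 2, 2, 0, 3, 1, 3, 3, 0, 2, 2, 0, 3, 0, 3, 0, 2, 0, 3, 0, 3, 0, 2, 0, 3, 0, 3], 6, true),
      ([0, 3, 0, 2, 0, 2, 0, 3, 0, 3, 1, 2, 1, 3, 1, 3, 1, 2, 1, 3, 0, 3, 0, 2, 0, 2, 0, 3, 0, 2, 1, 2, 1, 3, 1, 3, 1, 2, 2, 0, 3, 1, 3, 3, 0, 2, 1, 2, 1, 3, 1, 3, 1, 2, 1, 3, 1, 3, 1, 2, 1, 3], 0, false),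
      ([0, 3, 0, 2, 0, 2, 0, 3, 0, 3, 1, 2, 1, 3, 1, 3, 1, 2, 1, 3, 0, 3, 0, 2, 0, 2, 0, 3, 0, 2, 1, 2, 1, 3, 1, 3, 1, 2, 2, 0, 3, 1, 3, 3, 0, 2], 0, false),
      ([0, 3, 0, 2, 0, 2, 0, 3, 0, 3, 1, 2, 1, 3, 1, 3, 1, 2, 1, 3, 0, 3, 0, 2, 0, 2, 0, 3, 0, 2, 1, 2, 1, 3, 1, 3, 1, 2, 2, 0, 3, 1, 3, 3, 0, 2, 0, 2, 1, 3, 1, 3, 1, 2, 1, 3, 1, 3, 1, 2, 1, 3, 0, 3, 1, 2], 0, false),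
      ([0, 3, 0, 2, 0, 2, 0, 3, 0, 3, 1, 2, 1, 3, 1, 3, 1, 2, 1, 3, 0, 3, 0, 2, 0, 2, 0, 3, 0, 2, 1, 2, 1, 3, 1, 3, 1, 2, 2, 0, 3, 1, 3, 3, 0, 2, 0, 2, 1, 3, 1, 3, 1, 2, 1, 3, 1, 3, 1, 2, 1, 3, 0, 3, 0], 0, false),
      ([0, 3, 0, 2, 0, 2, 0, 3, 0, 3, 1, 2, 1, 3, 1, 3, 1, 2, 1, 3, 0, 3, 0, 2, 0, 2, 0, 3, 0, 2, 1, 2, 1, 3, 1, 3, 1, 2, 2, 0, 3, 1, 3, 3, 0, 2, 0, 2, 1, 3, 1, 3, 1, 2, 1, 3, 1, 3, 1, 2, 1, 3, 0, 3, 0, 2, 0, 2, 1, 3, 1, 2, 1, 2, 1, 3, 1, 2], 1, true),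
      ([0, 3, 0, 2, 0, 2, 0, 3, 0, 3, 1, 2, 1, 3, 1, 3, 1, 2, 1, 3, 0, 3, 0, 2, 0, 2, 0, 3, 0, 2, 1, 2, 1, 3, 1, 3, 1, 2, 2, 0, 3, 1, 3, 3, 0, 2, 0, 2, 1, 3, 1, 3, 1, 2, 1, 3, 1, 3, 1, 2, 1, 3, 0, 3, 0, 2, 0, 2, 1, 3, 1, 2, 1, 2, 1, 3, 1, 3, 3, 1, 2, 1], 1, false),
      ([0, 3, 0, 2, 0, 2, 0, 3, 0, 3, 1, 2, 1, 3, 1, 3, 1, 2, 1, 3, 0, 3, 0, 2, 0, 2, 0, 3, 0, 2, 1, 2, 1, 3, 1, 3, 1, 2, 2, 0, 3, 1, 3, 3, 0, 2, 0, 2, 1, 3, 1, 3, 1, 2, 1, 3, 1, 3, 1, 2, 1, 3, 0, 3, 0, 2, 0, 2, 1, 3, 1, 2, 1, 2, 1, 3, 1, 3, 3], 0, false),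
      ([0, 3, 0, 2, 0, 2, 0, 3, 0, 3, 1, 2, 1, 3, 1, 3, 1, 2, 1, 3, 0, 3, 0, 2, 0, 2, 0, 3, 0, 2, 1, 2, 1, 3, 1, 3, 1, 2, 2, 0, 3, 1, 3, 3, 0, 2, 0, 2], 0, false),
      ([0, 3, 0, 2, 0, 2, 0, 3, 0, 3, 1, 2, 1, 3, 1, 3, 1, 2, 1, 3, 0, 3, 0, 2, 0, 2, 0, 3, 0, 2, 1, 2, 1, 3, 1, 3, 1, 2, 2, 0, 3, 1, 3, 3, 0, 2, 0, 2, 0, 3, 1, 3, 1, 2, 1, 3, 1, 3, 1, 2, 1, 3, 0, 3, 0, 2, 0, 2], 0, false)]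

/-- The conjugates of relators behind relator 9. -/
def fivePrf9 : List (List ℕ × ℕ × Bool) :=
  [([0, 3, 0, 3, 0, 0, 2, 2, 0, 3, 0, 2, 0, 3, 1, 3, 1, 2, 1, 2], 1, false),
      ([0, 3, 0, 3, 0, 0], 1, true),
      ([0, 3, 0, 3, 0, 0, 3, 0, 3, 0, 2, 0, 3, 1, 3, 0], 0, false),
      ([0, 3, 0, 3, 0, 0, 3, 0, 3, 0, 2, 0, 3, 1, 3, 0, 2, 1, 2, 0, 3, 0, 2, 0, 2, 0, 3, 0, 2, 0, 2, 0, 3, 0, 2, 0, 3, 0, 3, 0, 2, 0, 3, 0, 3, 0, 2, 0, 3, 0, 3], 6, true),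
      ([0, 3, 0, 3, 0, 0, 3, 0, 3, 0, 2, 0, 3, 1, 3, 0, 2, 1, 1, 3, 1, 2], 0, false),
      ([0, 3, 0, 3, 0, 0, 3, 0, 3, 0, 2, 0, 3, 1, 3, 0, 2, 1, 1, 3, 1, 2, 0, 2, 1, 3, 1, 2, 1, 2, 1, 3, 1, 2, 1, 2, 1, 3], 0, false),
      ([0, 3, 0, 3, 0, 0, 3, 0, 3, 0, 2, 0, 3, 1, 3, 0, 2, 1, 1, 3, 1, 2, 0, 2, 1, 3, 1, 2, 1, 2, 1, 3, 1, 2, 1, 2, 1, 3, 0, 2, 1, 3, 1, 3, 1, 2], 0, false),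
      ([0, 3, 0, 3, 0, 0, 3, 0, 3, 0, 2, 0, 3, 1, 3, 0, 2, 1, 1, 3, 1, 2, 0, 2, 1, 3, 1, 2, 1, 2, 1, 3, 1, 2, 1, 2, 1, 3, 0, 2, 0], 0, false),
      ([0, 3, 0, 3, 0, 0, 3, 0, 3, 0, 2, 0, 3, 1, 3, 0, 2, 1], 0, false),
      ([0, 3, 0, 3, 0, 3, 1, 2, 1, 2, 1, 3, 0, 2, 0, 3, 1, 3, 1, 2, 0, 3, 0], 0, false),
      ([0, 3, 0, 3, 0, 3, 1, 2, 1, 2, 1, 3, 0, 2, 0, 3, 1, 3, 1, 2, 0, 3, 0, 3], 0, false),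
      ([0, 3, 0, 3, 0, 3, 1, 2, 1, 2, 1, 3, 0, 2, 0, 3, 1, 3, 1, 2, 0, 3, 0, 3, 0, 2, 1, 2, 2, 0, 3, 0, 2, 0, 2, 1, 3, 1, 2, 1, 3, 3], 0, false),
      ([0, 3, 0, 3, 0, 3, 1, 2, 2, 0, 2, 0, 3, 0, 3, 1, 2, 1, 3, 1, 3, 1, 2, 1, 2, 0, 3, 0, 2, 0, 2, 0, 3, 0, 2, 0, 0], 0, false),
      ([0, 3, 0, 3, 0, 3, 1, 2, 2, 0, 2, 0, 3, 0, 3, 0, 0], 0, false),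
      ([0, 3, 0, 2, 2, 0, 3, 0, 3, 0, 2, 0, 3, 0, 3, 0, 2, 0, 3, 0, 3], 6, true),
      ([0, 3, 0, 2, 1, 2, 1, 3, 1, 3, 1, 2, 1, 3, 1, 3, 1, 2, 1, 3], 0, false),
      ([0, 3, 0, 2], 0, false),
      ([0, 3, 0, 2, 0, 2, 1, 3, 1, 3, 1, 2, 1, 3, 1, 3, 1, 2, 1, 3, 0, 3, 1, 2], 0, false),
      ([0, 3, 0, 2, 0, 2, 1, 3, 1, 3, 1, 2, 1, 3, 1, 3, 1, 2, 1, 3, 0, 3, 0], 0, false),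
      ([0, 3, 0, 2, 0, 2, 1, 3, 1, 3, 1, 2, 1, 3, 1, 3, 1, 2, 1, 3, 0, 3, 0, 2, 0, 2, 1, 3, 1, 2, 1, 2, 1, 3, 1, 2], 1, true),
      ([0, 3, 0, 2, 0, 2, 1, 3, 1, 3, 1, 2, 1, 3, 1, 3, 1, 2, 1, 3, 0, 3, 0, 2, 0, 2, 1, 3, 1, 2, 1, 2, 1, 3, 1, 3, 3, 1, 2, 1], 1, false),
      ([0, 3, 0, 2, 0, 2, 1, 3, 1, 3, 1, 2, 1, 3, 1, 3, 1, 2, 1, 3, 0, 3, 0, 2, 0, 2, 1, 3, 1, 2, 1, 2, 1, 3, 1, 3, 3], 0, false),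
      ([0, 3, 0, 2, 0, 2], 0, false),
      ([0, 3, 0, 2, 0, 2, 0, 3, 1, 3, 1, 2, 1, 3, 1, 3, 1, 2, 1, 3, 0, 3, 0, 2, 0, 2], 0, false),
      ([0, 3, 0, 2, 0, 2, 0, 3, 0, 3, 1, 2, 1, 3, 1, 3, 1, 2, 1, 3, 0, 3, 0, 2, 0, 2, 0, 3, 0, 2, 1, 2, 1, 3, 1, 3, 1, 2, 1, 3, 0, 2, 0, 3, 1, 3, 1, 2, 0, 3, 0, 3, 0, 2, 1, 2, 2, 0, 2, 0, 3, 1, 3, 1, 2, 1, 3, 1, 3, 1, 2, 1, 3, 0, 3, 0, 2, 0, 2], 0, true),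
      ([0, 3, 0, 2, 0, 2, 0, 3, 0, 3, 1, 2, 1, 3, 1, 3, 1, 2, 1, 3, 0, 3, 0, 2, 0, 2, 0, 3, 0, 2, 1, 2, 1, 3, 1, 3, 1, 2, 1, 3, 0, 2, 0, 3, 1, 3, 1, 2, 0, 3, 0, 3, 0, 2, 1, 2, 2, 0, 2], 0, true),
      ([0, 3, 0, 2, 0, 2, 0, 3, 0, 3, 1, 2, 1, 3, 1, 3, 1, 2, 1, 3, 0, 3, 0, 2, 0, 2, 0, 3, 0, 2, 1, 2, 1, 3, 1, 3, 1, 2, 1, 3, 0, 2, 0, 3, 1, 3, 1, 2, 0, 3, 0, 3, 0, 2, 1, 2, 2, 0, 2, 1, 3, 1, 3, 1, 2, 1, 3, 1, 3, 1, 2, 1, 3, 0, 3, 0, 2, 0, 2, 1, 3, 1, 2, 1, 2, 1, 3, 1, 3, 3], 0, true),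
      ([0, 3, 0, 2, 0, 2, 0, 3, 0, 3, 1, 2, 1, 3, 1, 3, 1, 2, 1, 3, 0, 3, 0, 2, 0, 2, 0, 3, 0, 2, 1, 2, 1, 3, 1, 3, 1, 2, 1, 3, 0, 2, 0, 3, 1, 3, 1, 2, 0, 3, 0, 3, 0, 2, 1, 2, 2, 0, 2, 1, 3, 1, 3, 1, 2, 1, 3, 1, 3, 1, 2, 1, 3, 0, 3, 0, 2, 0, 2, 1, 3, 1, 2, 1, 2, 1, 3, 1, 3, 3, 1, 2, 1], 1, true),
      ([0, 3, 0, 2, 0, 2, 0, 3, 0, 3, 1, 2, 1, 3, 1, 3, 1, 2, 1, 3, 0, 3, 0, 2, 0, 2, 0, 3, 0, 2, 1, 2, 1, 3, 1, 3, 1, 2, 1, 3, 0, 2, 0, 3, 1, 3, 1, 2, 0, 3, 0, 3, 0, 2, 1, 2, 2, 0, 2, 1, 3, 1, 3, 1, 2, 1, 3, 1, 3, 1, 2, 1, 3, 0, 3, 0, 2, 0, 2, 1, 3, 1, 2, 1, 2, 1, 3, 1, 2], 1, false),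
      ([0, 3, 0, 2, 0, 2, 0, 3, 0, 3, 1, 2, 1, 3, 1, 3, 1, 2, 1, 3, 0, 3, 0, 2, 0, 2, 0, 3, 0, 2, 1, 2, 1, 3, 1, 3, 1, 2, 1, 3, 0, 2, 0, 3, 1, 3, 1, 2, 0, 3, 0, 3, 0, 2, 1, 2, 2, 0, 2, 1, 3, 1, 3, 1, 2, 1, 3, 1, 3, 1, 2, 1, 3, 0, 3, 0], 0, true),
      ([0, 3, 0, 2, 0, 2, 0, 3, 0, 3, 1, 2, 1, 3, 1, 3, 1, 2, 1, 3, 0, 3, 0, 2, 0, 2, 0, 3, 0, 2, 1, 2, 1, 3, 1, 3, 1, 2, 1, 3, 0, 2, 0, 3, 1, 3, 1, 2, 0, 3, 0, 3, 0, 2, 1, 2, 2, 0, 2, 1, 3, 1, 3, 1, 2, 1, 3, 1, 3, 1, 2, 1, 3, 0, 3, 1, 2], 0, true),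
      ([0, 3, 0, 2, 0, 2, 0, 3, 0, 3, 1, 2, 1, 3, 1, 3, 1, 2, 1, 3, 0, 3, 0, 2, 0, 2, 0, 3, 0, 2, 1, 2, 1, 3, 1, 3, 1, 2, 1, 3, 0, 2, 0, 3, 1, 3, 1, 2, 0, 3, 0, 3, 0, 2, 1, 2, 2], 0, true),
      ([0, 3, 0, 2, 0, 2, 0, 3, 0, 3, 1, 2, 1, 3, 1, 3, 1, 2, 1, 3, 0, 3, 0, 2, 0, 2, 0, 3, 0, 2, 1, 2, 1, 3, 1, 3, 1, 2, 1, 3, 0, 2, 0, 3, 1, 3, 1, 2, 0, 3, 0, 3, 0, 2, 1, 2, 2, 1, 2, 1, 3, 1, 3, 1, 2, 1, 3, 1, 3, 1, 2, 1, 3], 0, true),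
      ([0, 3, 0, 2, 0, 2, 0, 3, 0, 3, 1, 2, 1, 3, 1, 3, 1, 2, 1, 3, 0, 3, 0, 2, 0, 2, 0, 3, 0, 2, 1, 2, 1, 3, 1, 3, 1, 2, 1, 3, 0, 2, 0, 3, 1, 3, 1, 2, 0, 3, 0, 3, 0, 2, 1, 2, 2, 2, 0, 3, 0, 3, 0, 2, 0, 3, 0, 3, 0, 2, 0, 3, 0, 3], 6, false),
      ([0, 3, 0, 2, 0, 2, 0, 3, 0, 3, 1, 2, 1, 3, 1, 3, 1, 2, 1, 3, 0, 3, 0, 2, 0, 2, 0, 3, 0, 2, 1, 2, 1, 3, 1, 3, 1, 2, 1, 3, 0, 2, 0, 3, 1, 3, 1, 2, 0, 3, 0, 2, 0, 2, 0, 3, 0, 3, 0, 0], 0, true),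
      ([0, 3, 0, 2, 0, 2, 0, 3, 0, 3, 1, 2, 1, 3, 1, 3, 1, 2, 1, 3, 0, 3, 0, 2, 0, 2, 0, 3, 0, 2, 1, 2, 1, 3, 1, 3, 1, 2, 1, 3, 0, 2, 0, 3, 1, 3, 1, 2, 0, 3, 0, 2, 0, 2, 0, 3, 0, 3, 1, 2, 1, 3, 1, 3, 1, 2, 1, 2, 0, 3, 0, 2, 0, 2, 0, 3, 0, 2, 0, 0], 0, true)]

/-- The conjugates of relators behind relator 10. -/
def fivePrf10 : List (List ℕ × ℕ × Bool) :=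
  [([0, 2, 0], 4, false)]

/-- The conjugates of relators behind relator 11. -/
def fivePrf11 : List (List ℕ × ℕ × Bool) :=
  [([0, 3, 0, 2, 0, 2, 0, 3, 0, 3, 1, 2, 1, 3, 1, 3, 1, 2, 1, 3, 0, 3, 0, 2, 0, 2, 0, 3, 0, 2, 1, 2, 1, 3, 1, 3, 1, 2, 1, 3, 0, 3, 0, 2, 0, 2, 0, 3, 0, 3, 1, 2, 1, 3, 3, 0, 3, 0, 0, 2, 1, 3, 1, 3, 0, 2, 0, 2, 1, 3, 1, 3, 0, 2, 0, 2], 4, true),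
      ([0, 3, 0, 2, 0, 2, 0, 3, 0, 3, 1, 2, 1, 3, 1, 3, 1, 2, 1, 3, 0, 3, 0, 2, 0, 2, 0, 3, 0, 2, 1, 2, 1, 3, 1, 3, 1, 2, 1, 3, 0, 3, 0, 2, 0, 2, 0, 3, 0, 3, 1, 2, 1, 3, 3, 0, 3, 0, 3, 1, 2, 0, 2, 0, 3, 1, 3, 1, 2, 0, 2, 0, 3, 1, 3, 1, 2, 0, 2, 0], 0, true),
      ([0, 3, 0, 2, 0, 2, 0, 3, 0, 3, 1, 2, 1, 3, 1, 3, 1, 2, 1, 3, 0, 3, 0, 2, 0, 2, 0, 3, 0, 2, 1, 2, 1, 3, 1, 3, 1, 2, 1, 3, 0, 3, 0, 2, 0, 2, 0, 3, 0, 3, 1, 2, 1, 3, 3, 0, 3, 0, 3, 1, 2, 0, 2, 0, 3, 1, 3, 1, 2, 0, 2, 0, 3, 1, 3, 1, 2, 0, 2, 1, 3], 0, false),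
      ([0, 3, 0, 2, 0, 2, 0, 3, 0, 3, 1, 2, 1, 3, 1, 3, 1, 2, 1, 3, 0, 3, 0, 2, 0, 2, 0, 3, 0, 2, 1, 2, 1, 3, 1, 3, 1, 2, 1, 3, 0, 3, 0, 2, 0, 2, 0, 3, 0, 3, 1, 2, 1, 3, 3, 0, 3, 0, 3, 1, 2, 0, 2, 0, 3, 1, 3, 0], 0, false),
      ([0, 3, 0, 2, 0, 2, 0, 3, 0, 3, 1, 2, 1, 3, 1, 3, 1, 2, 1, 3, 0, 3, 0, 2, 0, 2, 0, 3, 0, 2, 1, 2, 1, 3, 1, 3, 1, 2, 1, 3, 0, 3, 0, 2, 0, 2, 0, 3, 0, 3, 1, 2, 1, 3, 3, 0, 3, 0, 3, 1, 2, 0, 2, 0, 3, 1, 3, 0, 2, 0, 0], 0, true),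
      ([0, 3, 0, 2, 0, 2, 0, 3, 0, 3, 1, 2, 1, 3, 1, 3, 1, 2, 1, 3, 0, 3, 0, 2, 0, 2, 0, 3, 0, 2, 1, 2, 1, 3, 1, 3, 1, 2, 1, 3, 0, 3, 0, 2, 0, 2, 0, 3, 0, 3, 1, 2, 1, 3, 3, 0, 3, 0, 3, 1, 2, 0, 2, 0, 3, 1, 3, 0, 2, 1, 2, 0, 3, 1, 3, 1, 2, 0, 2, 1, 3, 0, 3, 1, 2, 0, 2, 0, 3, 1, 3, 1, 2, 0, 2, 0, 3], 0, false),
      ([0, 3, 0, 2, 0, 2, 0, 3, 0, 3, 1, 2, 1, 3, 1, 3, 1, 2, 1, 3, 0, 3, 0, 2, 0, 2, 0, 3, 0, 2, 1, 2, 1, 3, 1, 3, 1, 2, 1, 3, 0, 3, 0, 2, 0, 2, 0, 3, 0, 3, 1, 2, 1, 3, 3, 0, 3, 0, 3, 1, 2, 0, 2, 0], 0, true),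
      ([0, 3, 0, 2, 0, 2, 0, 3, 0, 3, 1, 2, 1, 3, 1, 3, 1, 2, 1, 3, 0, 3, 0, 2, 0, 2, 0, 3, 0, 2, 1, 2, 1, 3, 1, 3, 1, 2, 1, 3, 0, 3, 0, 2, 0, 2, 0, 3, 0, 3, 1, 2, 1, 3, 3, 0, 3, 0, 3, 1, 2, 0, 2, 1, 3, 1, 3, 0, 2, 1, 2, 0, 3, 1, 3, 1, 2, 0, 0], 0, true),
      ([0, 3, 0, 2, 0, 2, 0, 3, 0, 3, 1, 2, 1, 3, 1, 3, 1, 2, 1, 3, 0, 3, 0, 2, 0, 2, 0, 3, 0, 2, 1, 2, 1, 3, 1, 3, 1, 2, 1, 3, 0, 3, 0, 2, 0, 2, 0, 3, 0, 3, 1, 2, 1, 3, 3, 0, 3, 0, 3, 1, 2, 0, 2, 1, 3, 1, 3, 0, 2, 1, 2, 0, 3, 1, 3, 1, 2, 1, 2, 1, 3, 0, 3, 0], 0, false),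
      ([0, 3, 0, 2, 0, 2, 0, 3, 0, 3, 1, 2, 1, 3, 1, 3, 1, 2, 1, 3, 0, 3, 0, 2, 0, 2, 0, 3, 0, 2, 1, 2, 1, 3, 1, 3, 1, 2, 1, 3, 0, 3, 0, 2, 0, 2, 0, 3, 0, 3, 1, 2, 1, 3, 3, 0, 3, 0, 3, 1, 2, 0, 2, 1, 3, 1, 2, 2], 1, false),
      ([0, 3, 0, 2, 0, 2, 0, 3, 0, 3, 1, 2, 1, 3, 1, 3, 1, 2, 1, 3, 0, 3, 0, 2, 0, 2, 0, 3, 0, 2, 1, 2, 1, 3, 1, 3, 1, 2, 1, 3, 0, 3, 0, 2, 0, 2, 0, 3, 0, 3, 1, 2, 1, 3, 3, 0, 3, 0, 3, 1, 2, 0, 2, 1, 3, 1, 2, 2, 0, 2, 1, 2, 2, 2], 1, true),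
      ([0, 3, 0, 2, 0, 2, 0, 3, 0, 3, 1, 2, 1, 3, 1, 3, 1, 2, 1, 3, 0, 3, 0, 2, 0, 2, 0, 3, 0, 2, 1, 2, 1, 3, 1, 3, 1, 2, 1, 3, 0, 3, 0, 2, 0, 2, 0, 3, 0, 3, 1, 2, 1, 3, 3, 0, 3, 0, 3, 1, 2, 0], 0, true),
      ([0, 3, 0, 2, 0, 2, 0, 3, 0, 3, 1, 2, 1, 3, 1, 3, 1, 2, 1, 3, 0, 3, 0, 2, 0, 2, 0, 3, 0, 2, 1, 2, 1, 3, 1, 3, 1, 2, 1, 3, 0, 3, 0, 2, 0, 2, 0, 3, 0, 3, 1, 2, 1, 3, 3, 0, 3, 0, 3, 1, 2, 1, 2, 1, 3, 1, 2, 2, 0, 2, 1, 3, 3, 0, 3], 0, false),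
      ([0, 3, 0, 2, 0, 2, 0, 3, 0, 3, 1, 2, 1, 3, 1, 3, 1, 2, 1, 3, 0, 3, 0, 2, 0, 2, 0, 3, 0, 2, 1, 2, 1, 3, 1, 3, 1, 2, 1, 3, 0, 3, 0, 2, 0, 2, 0, 3, 0, 3, 1, 2, 1, 3, 3, 0, 3, 0, 3, 1, 2, 1, 2, 1, 3, 1, 2, 2, 0, 2, 1, 3, 3, 0, 3, 0, 3, 1, 2, 1, 2, 1, 3, 0, 3, 0, 2, 0, 2, 0, 3, 1, 3, 1, 2, 0], 0, true),
      ([0, 3, 0, 2, 0, 2, 0, 3, 0, 3, 1, 2, 1, 3, 1, 3, 1, 2, 1, 3, 0, 3, 0, 2, 0, 2, 0, 3, 0, 2, 1, 2, 1, 3, 1, 3, 1, 2, 1, 3, 0, 3, 0, 2, 0, 2, 0, 3, 0, 3, 1, 2, 1, 3, 3, 0, 3, 0, 3, 1, 2, 1, 2, 1, 3, 1, 2, 2, 0, 2, 1, 3, 3, 0, 3, 0, 3, 1, 2, 1, 2, 1, 3, 0, 3, 0, 2, 0, 2, 0, 3, 0], 0, false),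
      ([0, 3, 0, 2, 0, 2, 0, 3, 0, 3, 1, 2, 1, 3, 1, 3, 1, 2, 1, 3, 0, 3, 0, 2, 0, 2, 0, 3, 0, 2, 1, 2, 1, 3, 1, 3, 1, 2, 1, 3, 0, 3, 0, 2, 0, 2, 0, 3, 0, 3, 1, 2, 1, 3, 3, 0, 3, 0, 3, 1, 2, 1, 2, 1, 3, 1, 2, 2, 0, 2, 1, 3, 3, 0, 3, 0, 3, 1, 2, 1, 2, 1, 3, 0, 3, 0, 2, 0, 2, 0, 3, 0, 3, 1, 2, 1, 2], 1, true),
      ([0, 3, 0, 2, 0, 2, 0, 3, 0, 3, 1, 2, 1, 3, 1, 3, 1, 2, 1, 3, 0, 3, 0, 2, 0, 2, 0, 3, 0, 2, 1, 2, 1, 3, 1, 3, 1, 2, 1, 3, 0, 3, 0, 2, 0, 2, 0, 3, 0, 3, 1, 2, 1, 3, 3, 0, 3, 0, 3, 1, 2, 1, 2, 1, 3, 1, 2, 2, 0, 2, 1, 3, 3, 0, 3, 0, 3, 1, 2, 2, 0, 2, 0, 3, 0, 3, 1, 2, 1, 3, 1, 3, 1, 2, 1, 2, 0, 3, 0, 2, 0, 2, 0, 3, 0, 2,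 0, 0], 0, false),
      ([0, 3, 0, 2, 0, 2, 0, 3, 0, 3, 1, 2, 1, 3, 1, 3, 1, 2, 1, 3, 0, 3, 0, 2, 0, 2, 0, 3, 0, 2, 1, 2, 1, 3, 1, 3, 1, 2, 1, 3, 0, 3, 0, 2, 0, 2, 0, 3, 0, 3, 1, 2, 1, 3, 3, 0, 3, 0, 3, 1, 2, 1, 2, 1, 3, 1, 2, 2, 0, 2, 1, 3, 3, 0, 3, 0, 3, 1, 2, 2, 0, 2, 0, 3, 0, 3, 0, 0], 0, false),
      ([0, 3, 0, 2, 0, 2, 0, 3, 0, 3, 1, 2, 1, 3, 1, 3, 1, 2, 1, 3, 0, 3, 0, 2, 0, 2, 0, 3, 0, 2, 1, 2, 1, 3, 1, 3, 1, 2, 1, 3, 0, 3, 0, 2, 0, 2, 0, 3, 0, 3, 1, 2, 1, 3, 3, 0, 3, 0, 3, 1, 2, 1, 2, 1, 3, 1, 2, 2, 0, 2, 1, 3, 3, 0, 2, 2, 0, 3, 0, 3, 0, 2, 0, 3, 0, 3, 0, 2, 0, 3, 0, 3], 6, true),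
      ([0, 3, 0, 2, 0, 2, 0, 3, 0, 3, 1, 2, 1, 3, 1, 3, 1, 2, 1, 3, 0, 3, 0, 2, 0, 2, 0, 3, 0, 2, 1, 2, 1, 3, 1, 3, 1, 2, 1, 3, 0, 3, 0, 2, 0, 2, 0, 3, 0, 3, 1, 2, 1, 3, 3, 0, 3, 0, 3, 1, 2, 1, 2, 1, 3, 1, 2, 2, 0, 2, 1, 3, 3, 0, 2, 1, 2, 1, 3, 1, 3, 1, 2, 1, 3, 1, 3, 1, 2, 1, 3], 0, false),
      ([0, 3, 0, 2, 0, 2, 0, 3, 0, 3, 1, 2, 1, 3, 1, 3, 1, 2, 1, 3, 0, 3, 0, 2, 0, 2, 0, 3, 0, 2, 1, 2, 1, 3, 1, 3, 1, 2, 1, 3, 0, 3, 0, 2, 0, 2, 0, 3, 0, 3, 1, 2, 1, 3, 3, 0, 3, 0, 3, 1, 2, 1, 2, 1, 3, 1, 2, 2, 0, 2, 1, 3, 3, 0, 2], 0, false),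
      ([0, 3, 0, 2, 0, 2, 0, 3, 0, 3, 1, 2, 1, 3, 1, 3, 1, 2, 1, 3, 0, 3, 0, 2, 0, 2, 0, 3, 0, 2, 1, 2, 1, 3, 1, 3, 1, 2, 1, 3, 0, 3, 0, 2, 0, 2, 0, 3, 0, 3, 1, 2, 1, 3, 3, 0, 3, 0, 3, 1, 2, 1, 2, 1, 3, 1, 2, 2, 0, 2, 1, 3, 3, 0, 2, 0, 2, 1, 3, 1, 3, 1, 2, 1, 3, 1, 3, 1, 2, 1, 3, 0, 3, 1, 2], 0, false),
      ([0, 3, 0, 2, 0, 2, 0, 3, 0, 3, 1, 2, 1, 3, 1, 3, 1, 2, 1, 3, 0, 3, 0, 2, 0, 2, 0, 3, 0, 2, 1, 2, 1, 3, 1, 3, 1, 2, 1, 3, 0, 3, 0, 2, 0, 2, 0, 3, 0, 3, 1, 2, 1, 3, 3, 0, 3, 0, 3, 1, 2, 1, 2, 1, 3, 1, 2, 2, 0, 2, 1, 3, 3, 0, 2, 0, 2, 1, 3, 1, 3, 1, 2, 1, 3, 1, 3, 1, 2, 1, 3, 0, 3, 0], 0, false),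
      ([0, 3, 0, 2, 0, 2, 0, 3, 0, 3, 1, 2, 1, 3, 1, 3, 1, 2, 1, 3, 0, 3, 0, 2, 0, 2, 0, 3, 0, 2, 1, 2, 1, 3, 1, 3, 1, 2, 1, 3, 0, 3, 0, 2, 0, 2, 0, 3, 0, 3, 1, 2, 1, 3, 3, 0, 3, 0, 3, 1, 2, 1, 2, 1, 3, 1, 2, 2, 0, 2, 1, 3, 3, 0, 2, 0, 2, 1, 3, 1, 3, 1, 2, 1, 3, 1, 3, 1, 2, 1, 3, 0, 3, 0, 2, 0, 2, 1, 3, 1, 2, 1, 2, 1, 3, 1, 2], 1, true),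
      ([0, 3, 0, 2, 0, 2, 0, 3, 0, 3, 1, 2, 1, 3, 1, 3, 1, 2, 1, 3, 0, 3, 0, 2, 0, 2, 0, 3, 0, 2, 1, 2, 1, 3, 1, 3, 1, 2, 1, 3, 0, 3, 0, 2, 0, 2, 0, 3, 0, 3, 1, 2, 1, 3, 3, 0, 3, 0, 3, 1, 2, 1, 2, 1, 3, 1, 2, 2, 0, 2, 1, 3, 3, 0, 2, 0, 2, 1, 3, 1, 3, 1, 2, 1, 3, 1, 3, 1, 2, 1, 3, 0, 3, 0, 2, 0, 2, 1, 3, 1, 2, 1, 2, 1, 3, 1, 3, 3, 1, 2, 1], 1, false),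
      ([0, 3, 0, 2, 0, 2, 0, 3, 0, 3, 1, 2, 1, 3, 1, 3, 1, 2, 1, 3, 0, 3, 0, 2, 0, 2, 0, 3, 0, 2, 1, 2, 1, 3, 1, 3, 1, 2, 1, 3, 0, 3, 0, 2, 0, 2, 0, 3, 0, 3, 1, 2, 1, 3, 3, 0, 3, 0, 3, 1, 2, 1, 2, 1, 3, 1, 2, 2, 0, 2, 1, 3, 3, 0, 2, 0, 2, 1, 3, 1, 3, 1, 2, 1, 3, 1, 3, 1, 2, 1, 3, 0, 3, 0, 2, 0, 2, 1, 3, 1, 2, 1, 2, 1, 3, 1, 3, 3], 0, false),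
      ([0, 3, 0, 2, 0, 2, 0, 3, 0, 3, 1, 2, 1, 3, 1, 3, 1, 2, 1, 3, 0, 3, 0, 2, 0, 2, 0, 3, 0, 2, 1, 2, 1, 3, 1, 3, 1, 2, 1, 3, 0, 3, 0, 2, 0, 2, 0, 3, 0, 3, 1, 2, 1, 3, 3, 0, 3, 0, 3, 1, 2, 1, 2, 1, 3, 1, 2, 2, 0, 2, 1, 3, 3, 0, 2, 0, 2], 0, false),
      ([0, 3, 0, 2, 0, 2, 0, 3, 0, 3, 1, 2, 1, 3, 1, 3, 1, 2, 1, 3, 0, 3, 0, 2, 0, 2, 0, 3, 0, 2, 1, 2, 1, 3, 1, 3, 1, 2, 1, 3, 0, 3, 0, 2, 0, 2, 0, 3, 0, 3, 1, 2, 1, 3, 3, 0, 3, 0, 3, 1, 2, 1, 2, 1, 3, 1, 2, 2, 0, 2, 1, 3, 3, 0, 2, 0, 2, 0, 3, 1, 3, 1, 2, 1, 3, 1, 3, 1, 2, 1, 3, 0, 3, 0, 2, 0, 2], 0, false),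
      ([0, 3, 0, 2, 0, 2, 0, 3, 0, 3, 1, 2, 1, 3, 1, 3, 1, 2, 1, 3, 0, 3, 0, 2, 0, 2, 0, 3, 0, 2, 1, 2, 1, 3, 1, 3, 1, 2, 1, 3, 0, 3, 0, 2, 0, 2, 0, 3, 0, 3, 1, 2, 1, 3, 3, 0, 3, 0, 3, 1, 2, 1, 2, 1, 3, 1, 2, 1, 2, 0, 3, 0, 2, 0, 2, 0, 3, 0, 2, 1, 2, 2, 0, 3, 0, 3, 3, 0, 3, 1, 3, 1, 2], 1, false),
      ([0, 3, 0, 2, 0, 2, 0, 3, 0, 3, 1, 2, 1, 3, 1, 3, 1, 2, 1, 3, 0, 3, 0, 2, 0, 2, 0, 3, 0, 2, 1, 2, 1, 3, 1, 3, 1, 2, 1, 3, 0, 3, 0, 2, 0, 2, 0, 3, 0, 3, 1, 2, 1, 3, 3, 0, 3, 0, 3, 1, 2, 1, 2, 1, 3, 1, 2, 1, 2, 0, 3, 0, 2, 0, 2, 0, 3, 0, 2, 1, 2, 2, 0, 3, 0, 3, 3, 0, 3, 0, 0], 0, false),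
      ([0, 3, 0, 2, 0, 2, 0, 3, 0, 3, 1, 2, 1, 3, 1, 3, 1, 2, 1, 3, 0, 3, 0, 2, 0, 2, 0, 3, 0, 2, 1, 2, 1, 3, 1, 3, 1, 2, 1, 3, 0, 3, 0, 2, 0, 2, 0, 3, 0, 3, 1, 2, 1, 3, 3, 0, 3, 0, 3, 1, 2, 1, 2, 1, 3, 1, 2, 1, 2, 0, 3, 0, 2, 0, 2, 0, 3, 0, 2, 1], 1, true),
      ([0, 3, 0, 2, 0, 2, 0, 3, 0, 3, 1, 2, 1, 3, 1, 3, 1, 2, 1, 3, 0, 3, 0, 2, 0, 2, 0, 3, 0, 2, 1, 2, 1, 3, 1, 3, 1, 2, 1, 3, 0, 3, 0, 2, 0, 2, 0, 3, 0, 3, 1, 2, 1, 3, 3, 0, 3, 0, 3, 1, 2, 1, 2, 1, 3, 1, 2, 1, 2, 0, 3, 0, 2, 0, 2, 0, 3, 0, 2, 0, 0], 0, false),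
      ([0, 3, 0, 2, 0, 2, 0, 3, 0, 3, 1, 2, 1, 3, 1, 3, 1, 2, 1, 3, 0, 3, 0, 2, 0, 2, 0, 3, 0, 2, 1, 2, 1, 3, 1, 3, 1, 2, 1, 3, 0, 3, 0, 2, 0, 2, 0, 3, 0, 3, 1, 2, 1, 3, 3, 0, 3, 0, 3, 1, 2, 1, 2, 1, 3, 1, 2, 1, 2, 0, 3, 0, 2, 0, 2, 0, 3, 0, 2, 0, 3, 0, 3, 0, 3, 3, 0, 3, 0, 3, 0], 0, false),
      ([0, 3, 0, 2, 0, 2, 0, 3, 0, 3, 1, 2, 1, 3, 1, 3, 1, 2, 1, 3, 0, 3, 0, 2, 0, 2, 0, 3, 0, 2, 1, 2, 1, 3, 1, 3, 1, 2, 1, 3, 0, 3, 0, 2, 0, 2, 0, 3, 0, 3, 1, 2, 1, 3, 3, 0, 3, 0, 3, 1, 2, 0], 0, false),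
      ([0, 3, 0, 2, 0, 2, 0, 3, 0, 3, 1, 2, 1, 3, 1, 3, 1, 2, 1, 3, 0, 3, 0, 2, 0, 2, 0, 3, 0, 2, 1, 2, 1, 3, 1, 3, 1, 2, 1, 3, 0, 3, 0, 2, 0, 2, 0, 3, 0, 3, 1, 2, 1, 3, 3, 0, 3, 0, 3, 1, 2, 0, 2, 1, 3, 0, 0], 0, false),
      ([0, 3, 0, 2, 0, 2, 0, 3, 0, 3, 1, 2, 1, 3, 1, 3, 1, 2, 1, 3, 0, 3, 0, 2, 0, 2, 0, 3, 0, 2, 1, 2, 1, 3, 1, 3, 1, 2, 1, 3, 0, 3, 0, 2, 0, 2, 0, 3, 0, 3, 1, 2, 1, 3, 3, 0, 3, 0, 3, 1, 2, 0, 2, 0], 0, false),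
      ([0, 3, 0, 2, 0, 2, 0, 3, 0, 3, 1, 2, 1, 3, 1, 3, 1, 2, 1, 3, 0, 3, 0, 2, 0, 2, 0, 3, 0, 2, 1, 2, 1, 3, 1, 3, 1, 2, 1, 3, 0, 3, 0, 2, 0, 2, 0, 3, 0, 3, 1, 2, 1, 3, 3, 0, 3, 0, 3, 0], 0, false),
      ([0, 3, 0, 2, 0, 2, 0, 3, 0, 3, 1, 2, 1, 3, 1, 3, 1, 2, 1, 3, 0, 3, 0, 2, 0, 2, 0, 3, 0, 2, 1, 2, 1, 3, 1, 3, 1, 2, 1, 3, 0, 3, 0, 2, 0, 2, 0, 3, 0, 3, 1, 2, 1, 3, 3, 0, 3, 0, 3, 0, 2, 0, 2, 0, 3, 0, 2, 0], 0, false),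
      ([0, 3, 0, 2, 0, 2, 0, 3, 0, 3, 1, 2, 1, 3, 1, 3, 1, 2, 1, 3, 0, 3, 0, 2, 0, 2, 0, 3, 0, 2, 1, 2, 1, 3, 1, 3, 1, 2, 1, 3, 0, 3, 0, 2, 0, 2, 0, 3, 0, 3, 1, 2, 1, 3, 3, 0, 3, 0, 3, 0, 2, 0, 2, 0, 3, 0, 2, 0, 2, 0, 3, 0, 2, 0, 2, 0, 3, 0, 2, 0, 3, 0, 3, 0, 2, 2], 1, false),
      ([0, 3, 0, 2, 0, 2, 0, 3, 0, 3, 1, 2, 1, 3, 1, 3, 1, 2, 1, 3, 0, 3, 0, 2, 0, 2, 0, 3, 0, 2, 1, 2, 1, 3, 1, 3, 1, 2, 1, 3, 0, 3, 0, 2, 0, 2, 0, 3, 0, 3, 1, 2, 1, 3, 3, 3, 1, 2, 1, 2, 1, 3, 1, 2, 1, 2, 1, 3, 1, 2, 1, 3, 1, 3, 1, 2, 1, 3, 1, 3, 1, 2, 1, 3, 1, 3, 1], 6, true)]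

/-- The conjugates of relators behind relator 12. -/
def fivePrf12 : List (List ℕ × ℕ × Bool) :=
  [([0, 3, 0, 2, 0, 2, 0, 2, 0, 3, 0, 3, 3, 0, 3, 1, 3, 1, 3, 3, 3, 1, 2, 1, 2, 1, 3, 1, 2, 1, 2, 1, 3, 1, 2, 1, 3, 1, 3, 1, 2, 1, 3, 1, 3, 1, 2, 1, 3, 1, 3, 1], 6, false),
      ([0, 3, 0, 2, 0, 2, 0, 2, 0, 3, 0, 3, 3, 0, 3, 1, 3, 1, 3, 3, 0, 3, 0, 3, 0, 2, 0, 2, 0, 3, 0, 2, 0, 2, 0, 3, 0, 2, 0, 2, 0, 3, 0, 2, 0, 3, 0, 3, 0, 2, 2], 1, true),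
      ([0, 3, 0, 2, 0, 2, 0, 2, 0, 3, 0, 3, 3, 0, 3, 1, 3, 1, 3, 3, 0, 3, 0, 3, 0, 2, 0, 2, 0, 3, 0, 2, 0], 0, true),
      ([0, 3, 0, 2, 0, 2, 0, 2, 0, 3, 0, 3, 3, 0, 3, 1, 3, 1, 3, 3, 0, 3, 0, 3, 0], 0, true),
      ([0, 3, 0, 2, 0, 2, 0, 2, 0, 3, 0, 3, 3, 0, 3, 1, 3, 1, 3, 3, 0, 3, 0, 3, 1, 2, 0, 2, 0], 0, true),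
      ([0, 3, 0, 2, 0, 2, 0, 2, 0, 3, 0, 3, 3, 0, 3, 1, 3, 1, 3, 3, 0, 3, 0, 3, 1, 2, 0, 2, 1, 3, 0, 0], 0, true),
      ([0, 3, 0, 2, 0, 2, 0, 2, 0, 3, 0, 3, 3, 0, 3, 1, 3, 1, 3, 3, 0, 3, 0, 3, 1, 2, 0], 0, true),
      ([0, 3, 0, 2, 0, 2, 0, 2, 0, 3, 0, 3, 3, 0, 3, 1, 3, 1, 3, 3, 0, 3, 0, 3, 1, 2, 1, 2, 1, 3, 1, 2, 1, 2, 0, 3, 0, 2, 0, 2, 0, 3, 0, 2, 0, 3, 0, 3, 0, 3, 3, 0, 3, 0, 3, 0], 0, true),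
      ([0, 3, 0, 2, 0, 2, 0, 2, 0, 3, 0, 3, 3, 0, 3, 1, 3, 1, 3, 3, 0, 3, 0, 3, 1, 2, 1, 2, 1, 3, 1, 2, 1, 2, 0, 3, 0, 2, 0, 2, 0, 3, 0, 2, 0, 0], 0, true),
      ([0, 3, 0, 2, 0, 2, 0, 2, 0, 3, 0, 3, 3, 0, 3, 1, 3, 1, 3, 3, 0, 3, 0, 3, 1, 2, 1, 2, 1, 3, 1, 2, 1, 2, 0, 3, 0, 2, 0, 2, 0, 3, 0, 2, 1], 1, false),
      ([0, 3, 0, 2, 0, 2, 0, 2, 0, 3, 0, 3, 3, 0, 3, 1, 3, 1, 3, 3, 0, 3, 0, 3, 1, 2, 1, 2, 1, 3, 1, 2, 1, 2, 0, 3, 0, 2, 0, 2, 0, 3, 0, 2, 1, 2, 2, 0, 3, 0, 3, 3, 0, 3, 0, 0], 0, true),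
      ([0, 3, 0, 2, 0, 2, 0, 2, 0, 3, 0, 3, 3, 0, 3, 1, 3, 1, 3, 3, 0, 3, 0, 3, 1, 2, 1, 2, 1, 3, 1, 2, 1, 2, 0, 3, 0, 2, 0, 2, 0, 3, 0, 2, 1, 2, 2, 0, 3, 0, 3, 3, 0, 3, 1, 3, 1, 2], 1, true),
      ([0, 3, 0, 2, 0, 2, 0, 2, 0, 3, 0, 3, 3, 0, 3, 1, 3, 1, 3, 3, 0, 3, 0, 3, 1, 2, 1, 2, 2, 0, 3, 0, 2, 1, 2, 2, 0, 3, 0, 3, 3, 0, 3, 3, 0, 3, 1, 3, 3, 0, 2, 1, 2, 2, 0, 2, 0], 0, false),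
      ([0, 3, 0, 2, 0, 2, 0, 2, 0, 3, 0, 3, 3, 0, 3, 1, 3, 1, 3, 3, 0, 3, 0, 3, 1, 2, 1, 2, 2, 0, 3, 0, 2, 1, 2, 2, 0, 3, 0, 3, 3, 0, 3, 3, 0, 3, 1, 3, 3, 0, 2, 1, 2, 2, 0, 2, 0, 2, 1, 3, 1, 2], 1, false),
      ([0, 3, 0, 2, 0, 2, 0, 2, 0, 3, 0, 3, 3, 0, 3, 1, 3, 1, 3, 3, 0, 3, 0, 3, 1, 2, 1], 1, true),
      ([0, 3, 0, 2, 0, 2, 0, 2, 0, 3, 0, 3, 3, 0, 3, 1, 3, 1, 3, 3, 0, 3, 0, 3, 1, 2, 1, 3, 0, 3, 0, 2, 1, 2, 2, 0, 3, 0, 3, 3, 0, 3, 3, 0, 3, 1, 3, 3, 0, 2, 1, 2, 2, 0, 2, 0, 2, 0, 0], 0, false),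
      ([0, 3, 0, 2, 0, 2, 0, 2, 0, 3, 0, 3, 3, 0, 3, 1, 3, 1, 3, 3, 0, 3, 0, 3, 1, 2, 1, 3, 0, 3, 0, 2, 1, 2, 2, 0, 3, 0, 3, 3, 0, 3, 3, 0, 3, 0, 0], 0, false),
      ([0, 3, 0, 2, 0, 2, 0, 2, 0, 3, 0, 3, 3, 0, 3, 1, 3, 1, 3, 3, 0, 3, 0, 3, 1, 2, 1, 3, 0, 3, 0, 2, 1, 2, 2, 0, 3, 0, 3, 3, 0, 3, 3, 0, 3, 0, 3, 3, 0, 2, 1], 1, true),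
      ([0, 3, 0, 2, 0, 2, 0, 2, 0, 3, 0, 3, 3, 0, 3, 1, 3, 1, 3, 3, 0, 3, 0, 3, 1, 2, 1, 3, 0, 3, 0, 2, 1, 2, 2, 0, 3, 0, 3, 3, 0, 3, 3, 0, 3, 0, 2], 1, false),
      ([0, 3, 0, 2, 0, 2, 0, 2, 0, 3, 0, 3, 3, 0, 3, 1, 3, 1, 3, 3, 0, 3, 0, 3, 1, 2, 1, 3, 0, 3, 0, 2, 1], 1, true),
      ([0, 3, 0, 2, 0, 2, 0, 2, 0, 3, 0, 3, 3, 0, 3, 1, 3, 1, 3, 3, 0, 3, 0, 3, 1, 2, 1, 3, 0, 3, 0, 2, 1, 3, 0, 3, 0, 3, 3, 0, 3, 3, 0, 3, 0, 2, 0, 2, 0, 0], 0, false),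
      ([0, 3, 0, 2, 0, 2, 0, 2, 0, 3, 0, 3, 3, 0, 3, 1, 3, 1, 3, 3, 0, 3, 0, 3, 1, 2, 1, 3, 0, 3, 0, 2, 0, 0], 0, false),
      ([0, 3, 0, 2, 0, 2, 0, 2, 0, 3, 0, 3, 3, 0, 3, 1, 3, 1, 3, 3, 0, 3, 0, 3, 1, 2, 1, 3, 0, 3, 0, 2, 0, 3, 0, 3, 0, 3, 3, 0, 3, 3, 0, 3, 0, 2, 0, 2, 0, 3, 0, 2, 0, 2, 0, 3, 0], 0, false),
      ([0, 3, 0, 2, 0, 2, 0, 2, 0, 3, 0, 3, 3, 0, 3, 1, 3, 1, 3, 3, 0, 3, 0, 3, 1, 2, 0], 0, false),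
      ([0, 3, 0, 2, 0, 2, 0, 2, 0, 3, 0, 3, 3, 0, 3, 1, 3, 1, 3, 3, 0, 3, 0, 3, 0], 0, false),
      ([0, 3, 0, 2, 0, 2, 0, 2, 0, 3, 0, 3, 3, 0, 3, 1, 3, 1, 3, 3, 0, 3, 0, 3, 0, 2, 0, 3, 0, 3, 0, 2, 0, 3, 0, 3, 0, 3, 3, 0, 2, 2], 1, false),
      ([0, 3, 0, 2, 0, 2, 0, 2, 0, 3, 0, 3, 3, 0, 3, 1, 3, 1, 3, 3, 0, 3, 0, 3, 0, 2, 0, 3, 0, 3, 0, 2, 0, 3, 0, 3, 0, 2, 2], 1, false),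
      ([0, 3, 0, 2, 0, 2, 0, 2, 0, 3, 0, 3, 3, 0, 3, 1, 3, 1, 3, 3, 3, 1, 2, 1, 3, 1, 3, 1, 2, 1, 3, 1, 3, 1, 2, 1, 3, 1, 3, 1], 6, true)]

/-- The conjugates of relators behind relator 13. -/
def fivePrf13 : List (List ℕ × ℕ × Bool) :=
  [([3, 0, 2, 0, 3, 1, 3, 1, 2, 0, 3, 0, 2, 0, 2, 0, 3, 0, 3, 1, 2, 1, 3, 1, 3, 1, 2, 1, 2, 0, 3, 0, 2, 0, 2, 0, 3, 0, 2, 1, 1, 3, 1, 2, 1, 3, 1, 3, 1, 2, 1, 3, 0, 3, 0, 2, 0, 2], 0, true),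
      ([3, 0, 2, 0, 3, 1, 3, 1, 2, 0, 3, 0, 2, 0, 2, 0, 3, 0, 3, 1, 2, 1, 3, 1, 3, 1, 2, 1, 2, 0, 3, 0, 2, 0, 2, 0, 3, 0, 2, 1, 2, 1], 0, true),
      ([3, 0, 2, 0, 3, 1, 3, 1, 2, 0, 3, 0, 2, 0, 2, 0, 3, 0, 3, 1, 2, 1, 3, 1, 3, 1, 2, 1, 2, 0, 3, 0, 2, 0, 2, 0, 3, 0, 2, 1, 2, 1, 1, 3, 1, 3, 1, 2, 1, 3, 1, 3, 1, 2, 1, 3, 0, 3, 0, 2, 0, 2, 1, 3, 1, 2, 1, 2, 1, 3, 1, 3, 3], 0, true),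
      ([3, 0, 2, 0, 3, 1, 3, 1, 2, 0, 3, 0, 2, 0, 2, 0, 3, 0, 3, 1, 2, 1, 3, 1, 3, 1, 2, 1, 2, 0, 3, 0, 2, 0, 2, 0, 3, 0, 2, 1, 2, 1, 1, 3, 1, 3, 1, 2, 1, 3, 1, 3, 1, 2, 1, 3, 0, 3, 0, 2, 0, 2, 1, 3, 1, 2, 1, 2, 1, 3, 1, 3, 3, 1, 2, 1], 1, true),
      ([3, 0, 2, 0, 3, 1, 3, 1, 2, 0, 3, 0, 2, 0, 2, 0, 3, 0, 3, 1, 2, 1, 3, 1, 3, 1, 2, 1, 2, 0, 3, 0, 2, 0, 2, 0, 3, 0, 2, 1, 2, 1, 1, 3, 1, 3, 1, 2, 1, 3, 1, 3, 1, 2, 1, 3, 0, 3, 0, 2, 0, 2, 1, 3, 1, 2, 1, 2, 1, 3, 1, 2], 1, false),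
      ([3, 0, 2, 0, 3, 1, 3, 1, 2, 0, 3, 0, 2, 0, 2, 0, 3, 0, 3, 1, 2, 1, 3, 1, 3, 1, 2, 1, 2, 0, 3, 0, 2, 0, 2, 0, 3, 0, 2, 1, 2, 1, 1, 3, 1, 3, 1, 2, 1, 3, 1, 3, 1, 2, 1, 3, 0, 3, 0], 0, true),
      ([3, 0, 2, 0, 3, 1, 3, 1, 2, 0, 3, 0, 2, 0, 2, 0, 3, 0, 3, 1, 2, 1, 3, 1, 3, 1, 2, 1, 2, 0, 3, 0, 2, 0, 2, 0, 3, 0, 2, 1, 2, 1, 1, 3, 1, 3, 1, 2, 1, 3, 1, 3, 1, 2, 1, 3, 0, 3, 1, 2], 0, true),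
      ([3, 0, 2, 0, 3, 1, 3, 1, 2, 0, 3, 0, 2, 0, 2, 0, 3, 0, 3, 1, 2, 1, 3, 1, 3, 1, 2, 1, 2, 0, 3, 0, 2, 0, 2, 0, 3, 0, 2, 1, 2, 1, 3, 1], 0, true),
      ([3, 0, 2, 0, 3, 1, 3, 1, 2, 0, 3, 0, 2, 0, 2, 0, 3, 0, 3, 1, 2, 1, 3, 1, 3, 1, 2, 1, 2, 0, 3, 0, 2, 0, 2, 0, 3, 0, 2, 1, 2, 1, 3, 1, 1, 2, 1, 3, 1, 3, 1, 2, 1, 3, 1, 3, 1, 2, 1, 3], 0, true),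
      ([3, 0, 2, 0, 3, 1, 3, 1, 2, 0, 3, 0, 2, 0, 2, 0, 3, 0, 3, 1, 2, 1, 3, 1, 3, 1, 2, 1, 2, 0, 3, 0, 2, 0, 2, 0, 3, 0, 2, 1, 2, 1, 3, 1, 2, 0, 3, 0, 3, 0, 2, 0, 3, 0, 3, 0, 2, 0, 3, 0, 3], 6, false),
      ([3, 0, 2, 0, 3, 1, 3, 1, 2, 0, 3, 0, 2, 0, 2, 0, 3, 0, 3, 1, 2, 1, 3, 1, 3, 1, 2, 1, 2, 0, 3, 0, 2, 0, 2, 0, 3, 0, 2, 1, 2, 1, 3, 1, 3, 3, 0, 3, 1, 2, 2, 0, 2, 0, 3, 0, 3, 0, 0], 0, true),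
      ([3, 0, 2, 0, 3, 1, 3, 1, 2, 0, 3, 0, 2, 0, 2, 0, 3, 0, 3, 1, 2, 1, 3, 1, 3, 1, 2, 1, 2, 0, 3, 0, 2, 0, 2, 0, 3, 0, 2, 1, 2, 1, 3, 1, 3, 3, 0, 3, 1, 2, 2, 0, 2, 0, 3, 0, 3, 1, 2, 1, 3, 1, 3, 1, 2, 1, 2, 0, 3, 0, 2, 0, 2, 0, 3, 0, 2, 0, 0], 0, true),
      ([3, 0, 2, 0, 3, 1, 3, 1, 2, 0, 3, 0, 2, 0, 2, 0, 3, 0, 3, 1, 2, 1, 3, 1, 3, 1, 2, 1, 2, 0, 3, 0, 2, 0, 2, 0, 3, 0, 2, 1, 2, 1, 3, 1, 3, 1, 2, 2, 0, 2, 1, 3, 3, 0, 2, 0, 2, 0, 3, 0, 3, 1, 2, 1, 3, 1, 3, 1, 2, 1, 2, 0, 3, 0, 2, 0, 2, 0, 3, 0, 2, 1, 1, 3, 1, 2, 1, 3, 1, 3, 1, 2, 1, 3, 0, 3, 0, 2, 0, 2], 0, true),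
      ([3, 0, 2, 0, 3, 1, 3, 1, 2, 0, 3, 0, 2, 0, 2, 0, 3, 0, 3, 1, 2, 1, 3, 1, 3, 1, 2, 1, 2, 0, 3, 0, 2, 0, 2, 0, 3, 0, 2, 1, 2, 1, 3, 1, 3, 1, 2, 2, 0, 2, 1, 3, 3, 0, 2, 0, 2, 0, 3, 0, 3, 1, 2, 1, 3, 1, 3, 1, 2, 1, 2, 0, 3, 0, 2, 0, 2, 0, 3, 0, 2, 1, 2, 1], 0, true),
      ([3, 0, 2, 0, 3, 1, 3, 1, 2, 0, 3, 0, 2, 0, 2, 0, 3, 0, 3, 1, 2, 1, 3, 1, 3, 1, 2, 1, 2, 0, 3, 0, 2, 0, 2, 0, 3, 0, 2, 1, 2, 1, 3, 1, 3, 1, 2, 2, 0, 2, 1, 3, 3, 0, 2, 0, 2, 0, 3, 0, 3, 1, 2, 1, 3, 1, 3, 1, 2, 1, 2, 0, 3, 0, 2, 0, 2, 0, 3, 0, 2, 1, 2, 1, 1, 3, 1, 3, 1, 2, 1, 3, 1, 3, 1, 2, 1, 3, 0, 3, 0, 2, 0, 2, 1, 3, 1, 2, 1, 2, 1, 3, 1, 3, 3], 0, true),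
      ([3, 0, 2, 0, 3, 1, 3, 1, 2, 0, 3, 0, 2, 0, 2, 0, 3, 0, 3, 1, 2, 1, 3, 1, 3, 1, 2, 1, 2, 0, 3, 0, 2, 0, 2, 0, 3, 0, 2, 1, 2, 1, 3, 1, 3, 1, 2, 2, 0, 2, 1, 3, 3, 0, 2, 0, 2, 0, 3, 0, 3, 1, 2, 1, 3, 1, 3, 1, 2, 1, 2, 0, 3, 0, 2, 0, 2, 0, 3, 0, 2, 1, 2, 1, 1, 3, 1, 3, 1, 2, 1, 3, 1, 3, 1, 2, 1, 3, 0, 3, 0, 2, 0, 2, 1, 3, 1, 2, 1, 2, 1, 3, 1, 3, 3, 1, 2, 1], 1, true),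
      ([3, 0, 2, 0, 3, 1, 3, 1, 2, 0, 3, 0, 2, 0, 2, 0, 3, 0, 3, 1, 2, 1, 3, 1, 3, 1, 2, 1, 2, 0, 3, 0, 2, 0, 2, 0, 3, 0, 2, 1, 2, 1, 3, 1, 3, 1, 2, 2, 0, 2, 1, 3, 3, 0, 2, 0, 2, 0, 3, 0, 3, 1, 2, 1, 3, 1, 3, 1, 2, 1, 2, 0, 3, 0, 2, 0, 2, 0, 3, 0, 2, 1, 2, 1, 1, 3, 1, 3, 1, 2, 1, 3, 1, 3, 1, 2, 1, 3, 0, 3, 0, 2, 0, 2, 1, 3, 1, 2, 1, 2, 1, 3, 1, 2], 1, false),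
      ([3, 0, 2, 0, 3, 1, 3, 1, 2, 0, 3, 0, 2, 0, 2, 0, 3, 0, 3, 1, 2, 1, 3, 1, 3, 1, 2, 1, 2, 0, 3, 0, 2, 0, 2, 0, 3, 0, 2, 1, 2, 1, 3, 1, 3, 1, 2, 2, 0, 2, 1, 3, 3, 0, 2, 0, 2, 0, 3, 0, 3, 1, 2, 1, 3, 1, 3, 1, 2, 1, 2, 0, 3, 0, 2, 0, 2, 0, 3, 0, 2, 1, 2, 1, 1, 3, 1, 3, 1, 2, 1, 3, 1, 3, 1, 2, 1, 3, 0, 3, 0], 0, true),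
      ([3, 0, 2, 0, 3, 1, 3, 1, 2, 0, 3, 0, 2, 0, 2, 0, 3, 0, 3, 1, 2, 1, 3, 1, 3, 1, 2, 1, 2, 0, 3, 0, 2, 0, 2, 0, 3, 0, 2, 1, 2, 1, 3, 1, 3, 1, 2, 2, 0, 2, 1, 3, 3, 0, 2, 0, 2, 0, 3, 0, 3, 1, 2, 1, 3, 1, 3, 1, 2, 1, 2, 0, 3, 0, 2, 0, 2, 0, 3, 0, 2, 1, 2, 1, 1, 3, 1, 3, 1, 2, 1, 3, 1, 3, 1, 2, 1, 3, 0, 3, 1, 2], 0, true),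
      ([3, 0, 2, 0, 3, 1, 3, 1, 2, 0, 3, 0, 2, 0, 2, 0, 3, 0, 3, 1, 2, 1, 3, 1, 3, 1, 2, 1, 2, 0, 3, 0, 2, 0, 2, 0, 3, 0, 2, 1, 2, 1, 3, 1, 3, 1, 2, 2, 0, 2, 1, 3, 3, 0, 2, 0, 2, 0, 3, 0, 3, 1, 2, 1, 3, 1, 3, 1, 2, 1, 2, 0, 3, 0, 2, 0, 2, 0, 3, 0, 2, 1, 2, 1, 3, 1], 0, true),
      ([3, 0, 2, 0, 3, 1, 3, 1, 2, 0, 3, 0, 2, 0, 2, 0, 3, 0, 3, 1, 2, 1, 3, 1, 3, 1, 2, 1, 2, 0, 3, 0, 2, 0, 2, 0, 3, 0, 2, 1, 2, 1, 3, 1, 3, 1, 2, 2, 0, 2, 1, 3, 3, 0, 2, 0, 2, 0, 3, 0, 3, 1, 2, 1, 3, 1, 3, 1, 2, 1, 2, 0, 3, 0, 2, 0, 2, 0, 3, 0, 2, 1, 2, 1, 3, 1, 1, 2, 1, 3, 1, 3, 1, 2, 1, 3, 1, 3, 1, 2, 1, 3], 0, true),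
      ([3, 0, 2, 0, 3, 1, 3, 1, 2, 0, 3, 0, 2, 0, 2, 0, 3, 0, 3, 1, 2, 1, 3, 1, 3, 1, 2, 1, 2, 0, 3, 0, 2, 0, 2, 0, 3, 0, 2, 1, 2, 1, 3, 1, 3, 1, 2, 2, 0, 2, 1, 3, 3, 0, 2, 0, 2, 0, 3, 0, 3, 1, 2, 1, 3, 1, 3, 1, 2, 1, 2, 0, 3, 0, 2, 0, 2, 0, 3, 0, 2, 1, 2, 1, 3, 1, 2, 0, 3, 0, 3, 0, 2, 0, 3, 0, 3, 0, 2, 0, 3, 0, 3], 6, false),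
      ([3, 0, 2, 0, 3, 1, 3, 1, 2, 0, 3, 0, 2, 0, 2, 0, 3, 0, 3, 1, 2, 1, 3, 1, 3, 1, 2, 1, 2, 0, 3, 0, 2, 0, 2, 0, 3, 0, 2, 1, 2, 1, 3, 1, 3, 1, 2, 2, 0, 2, 1, 3, 3, 0, 2, 0, 2, 0, 3, 0, 3, 1, 2, 1, 3, 1, 3, 1, 2, 1, 2, 0, 3, 0, 2, 0, 2, 0, 3, 0, 2, 1, 2, 1, 3, 1, 3, 3, 0, 3, 1, 2, 2, 0, 2, 0, 3, 0, 3, 0, 0], 0, true),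
      ([3, 0, 2, 0, 3, 1, 3, 1, 2, 0, 3, 0, 2, 0, 2, 0, 3, 0, 3, 1, 2, 1, 3, 1, 3, 1, 2, 1, 2, 0, 3, 0, 2, 0, 2, 0, 3, 0, 2, 1, 2, 1, 3, 1, 3, 1, 2, 2, 0, 2, 1, 3, 3, 0, 2, 0, 2, 0, 3, 0, 3, 1, 2, 1, 3, 1, 3, 1, 2, 1, 2, 0, 3, 0, 2, 0, 2, 0, 3, 0, 2, 1, 2, 1, 3, 1, 3, 3, 0, 3, 1, 2, 2, 0, 2, 0, 3, 0, 3, 1, 2, 1, 3, 1, 3, 1, 2, 1, 2, 0, 3, 0, 2, 0, 2, 0, 3, 0, 2, 0, 0], 0, true),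
      ([3, 0, 2, 0, 3, 1, 3, 1, 2, 0, 3, 0, 2, 0, 2, 0, 3, 0, 3, 1, 2, 1, 3, 1, 3, 1, 2, 1, 2, 0, 3, 0, 2, 0, 2, 0, 3, 0, 2, 1, 2, 1, 3, 1, 3, 1, 2, 2, 0, 2, 1, 3, 3, 0, 2, 0, 2, 0, 3, 0, 3, 1, 2, 1, 3, 1, 3, 1, 2, 1, 2, 0, 3, 0, 2, 0, 2, 0, 3, 0, 2, 1, 2, 1, 3, 1, 3, 3, 0, 3, 1, 2, 1, 2, 2, 0, 3, 1, 3, 3, 0, 3, 0, 3, 1, 2, 1, 2, 1, 3, 0, 2, 0, 2, 1, 3, 1, 2, 0, 2, 0, 3, 1, 3, 3, 0, 3], 0, true),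
      ([3, 0, 2, 0, 3, 1, 3, 1, 2, 0, 3, 0, 2, 0, 2, 0, 3, 0, 3, 1, 2, 1, 3, 1, 3, 1, 2, 1, 2, 0, 3, 0, 2, 0, 2, 0, 3, 0, 2, 1, 2, 1, 3, 1, 3, 1, 2, 2, 0, 2, 1, 3, 3, 0, 2, 0, 2, 0, 3, 0, 3, 1, 2, 1, 3, 1, 3, 1, 2, 1, 2, 0, 3, 0, 2, 0, 2, 0, 3, 0, 2, 1, 2, 1, 3, 1, 3, 3, 0, 3, 1, 2, 1, 2, 2, 0, 3, 1, 3, 3, 0, 3], 0, true),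
      ([3, 0, 2, 0, 3, 1, 3, 1, 2, 0, 3, 0, 2, 0, 2, 0, 3, 0, 3, 1, 2, 1, 3, 1, 3, 1, 2, 1, 2, 0, 3, 0, 2, 0, 2, 0, 3, 0, 2, 1, 2, 1, 3, 1, 3, 1, 2, 2, 0, 2, 1, 3, 3, 0, 2, 0, 2, 0, 3, 0, 3, 1, 2, 1, 3, 1, 3, 1, 2, 1, 2, 0, 3, 0, 2, 0, 2, 0, 3, 0, 2, 1, 2, 1, 3, 1, 3, 3, 0, 3, 1, 2, 1, 2, 2, 0, 3, 1, 3, 3, 0, 3, 1, 3, 1, 2, 1, 2, 1, 3, 0, 2, 0, 2, 1, 3, 1, 2, 0, 2, 0, 3, 1, 2, 2, 2], 1, false),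
      ([3, 0, 2, 0, 3, 1, 3, 1, 2, 0, 3, 0, 2, 0, 2, 0, 3, 0, 3, 1, 2, 1, 3, 1, 3, 1, 2, 1, 2, 0, 3, 0, 2, 0, 2, 0, 3, 0, 2, 1, 2, 1, 3, 1, 3, 1, 2, 2, 0, 2, 1, 3, 3, 0, 2, 0, 2, 0, 3, 0, 3, 1, 2, 1, 3, 1, 3, 1, 2, 1, 2, 0, 3, 0, 2, 0, 2, 0, 3, 0, 2, 1, 2, 1, 3, 1, 3, 3, 0, 3, 1, 2, 1, 2, 2, 0, 3, 1, 2, 2, 2], 1, false),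
      ([3, 0, 2, 0, 3, 1, 3, 1, 2, 0, 3, 0, 2, 0, 2, 0, 3, 0, 3, 1, 2, 1, 3, 1, 3, 1, 2, 1, 2, 0, 3, 0, 2, 0, 2, 0, 3, 0, 2, 1, 2, 1, 3, 1, 3, 1, 2, 2, 0, 2, 1, 3, 3, 0, 2, 0, 2, 0, 3, 0, 3, 1, 2, 1, 3, 1, 3, 1, 2, 1, 2, 0, 3, 0, 2, 0, 2, 0, 3, 0, 2, 1, 2, 1, 3, 1, 3, 3, 0, 3, 1, 2, 1, 2, 2], 1, true),
      ([3, 0, 2, 0, 3, 1, 3, 1, 2, 0, 3, 0, 2, 0, 2, 0, 3, 0, 3, 1, 2, 1, 3, 1, 3, 1, 2, 1, 2, 0, 3, 0, 2, 0, 2, 0, 3, 0, 2, 1, 2, 1, 3, 1, 3, 1, 2, 2, 0, 2, 1, 3, 3, 0, 2, 0, 2, 0, 3, 0, 3, 1, 2, 1, 3, 1, 3, 1, 2, 1, 2, 0, 3, 0, 2, 0, 2, 0, 3, 0, 2, 1, 2, 1, 3, 1, 3, 3, 0, 3, 1, 2, 1, 3, 0, 3, 1, 2, 0], 0, true),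
      ([3, 0, 2, 0, 3, 1, 3, 1, 2, 0, 3, 0, 2, 0, 2, 0, 3, 0, 3, 1, 2, 1, 3, 1, 3, 1, 2, 1, 2, 0, 3, 0, 2, 0, 2, 0, 3, 0, 2, 1, 2, 1, 3, 1, 3, 1, 2, 2, 0, 2, 1, 3, 3, 0, 2, 0, 2, 0, 3, 0, 3, 1, 2, 1, 3, 1, 3, 1, 2, 1, 2, 0, 3, 0, 2, 0, 2, 0, 3, 0, 2, 1, 2, 1, 3, 1, 3, 3, 0, 0, 2], 0, true),
      ([3, 0, 2, 0, 3, 1, 3, 1, 2, 0, 3, 0, 2, 0, 2, 0, 3, 0, 3, 1, 2, 1, 3, 1, 3, 1, 2, 1, 2, 0, 3, 0, 2, 0, 2, 0, 3, 0, 2, 1, 2, 1, 3, 1, 3, 1, 2, 2, 0, 2, 1, 3, 3, 0, 2, 0, 2, 0, 3, 0, 3, 1, 2, 1, 3, 1, 3, 1, 2, 1, 2, 0, 3, 0, 2, 0, 2, 0, 3, 0, 2, 1, 2, 1, 3, 1, 3, 3, 0, 0, 2, 1, 1, 3, 1, 3, 1, 2, 1, 3, 0, 3, 1, 2, 1, 3, 1, 3, 1, 2, 1, 2,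 1, 3, 0, 2, 0, 2, 1, 3, 1, 2, 0, 2, 0], 0, true),
      ([3, 0, 2, 0, 3, 1, 3, 1, 2, 0, 3, 0, 2, 0, 2, 0, 3, 0, 3, 1, 2, 1, 3, 1, 3, 1, 2, 1, 2, 0, 3, 0, 2, 0, 2, 0, 3, 0, 2, 1, 2, 1, 3, 1, 3, 1, 2, 2, 0, 2, 1, 3, 3, 0, 2, 0, 2, 0, 3, 0, 3, 1, 2, 1, 3, 1, 3, 1, 2, 1, 2, 0, 3, 0, 2, 0, 2, 0, 3, 0, 2, 1, 2, 1, 3, 1, 3, 3, 0, 0, 2, 1, 1, 3, 1, 3, 1, 2, 1, 3, 0, 3, 1, 2, 1, 3, 1, 3, 1, 2, 1, 2, 1, 3, 0, 2, 0], 0, true),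
      ([3, 0, 2, 0, 3, 1, 3, 1, 2, 0, 3, 0, 2, 0, 2, 0, 3, 0, 3, 1, 2, 1, 3, 1, 3, 1, 2, 1, 2, 0, 3, 0, 2, 0, 2, 0, 3, 0, 2, 1, 2, 1, 3, 1, 3, 1, 2, 2, 0, 2, 1, 3, 3, 0, 2, 0, 2, 0, 3, 0, 3, 1, 2, 1, 3, 1, 3, 1, 2, 1, 2, 0, 3, 0, 2, 0, 2, 0, 3, 0, 2, 1, 2, 1, 3, 1, 3, 3, 0, 0, 2, 1, 1, 3, 1, 3, 1, 2, 1, 3, 0], 0, true),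
      ([3, 0, 2, 0, 3, 1, 3, 1, 2, 0, 3, 0, 2, 0, 2, 0, 3, 0, 3, 1, 2, 1, 3, 1, 3, 1, 2, 1, 2, 0, 3, 0, 2, 0, 2, 0, 3, 0, 2, 1, 2, 1, 3, 1, 3, 1, 2, 2, 0, 2, 1, 3, 3, 0, 2, 0, 2, 0, 3, 0, 3, 1, 2, 1, 3, 1, 3, 1, 2, 1, 2, 0, 3, 0, 2, 0, 2, 0, 3, 0, 2, 1, 2, 1, 3, 1, 3, 3, 0, 0, 2, 1, 1, 3, 1, 3, 1, 2, 1, 3, 1, 3, 1, 2, 1, 3, 1, 3, 1, 2, 1, 2, 1, 3, 0, 2, 1, 2, 1, 3, 1, 2], 0, true),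
      ([3, 0, 2, 0, 3, 1, 3, 1, 2, 0, 3, 0, 2, 0, 2, 0, 3, 0, 3, 1, 2, 1, 3, 1, 3, 1, 2, 1, 2, 0, 3, 0, 2, 0, 2, 0, 3, 0, 2, 1, 2, 1, 3, 1, 3, 1, 2, 2, 0, 2, 1, 3, 3, 0, 2, 0, 2, 0, 3, 0, 3, 1, 2, 1, 3, 1, 3, 1, 2, 1, 2, 0, 3, 0, 2, 0, 2, 0, 3, 0, 2, 1, 2, 1, 3, 1, 3, 3, 0, 0, 2, 1, 1, 3, 1, 3, 1, 2, 1, 3, 1, 3, 1, 2, 1, 3, 1, 3, 1, 2, 1, 2, 1, 3], 0, true),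
      ([3, 0, 2, 0, 3, 1, 3, 1, 2, 0, 3, 0, 2, 0, 2, 0, 3, 0, 3, 1, 2, 1, 3, 1, 3, 1, 2, 1, 2, 0, 3, 0, 2, 0, 2, 0, 3, 0, 2, 1, 2, 1, 3, 1, 3, 1, 2, 2, 0, 2, 1, 3, 3, 0, 2, 0, 2, 0, 3, 0, 3, 1, 2, 1, 3, 1, 3, 1, 2, 1, 2, 0, 3, 0, 2, 0, 2, 0, 3, 0, 2, 1, 2, 1, 3, 1, 3, 3, 0, 0, 2, 1, 3, 0, 2, 0, 3, 0, 3, 0, 2, 0, 3, 0, 3, 0, 2, 0, 3, 0, 3], 6, false)]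

/-- The conjugates of relators behind relator 14. -/
def fivePrf14 : List (List ℕ × ℕ × Bool) :=
  [([2, 0, 3, 0, 2, 0, 2, 0, 3, 0, 2, 1, 2, 2, 0, 3, 0, 3, 3, 0, 3, 1, 3, 1, 3, 3, 3, 1, 2, 1, 2, 1, 3, 1, 2, 1, 2, 1, 3, 1, 2, 1, 3, 1, 3, 1, 2, 1, 3, 1, 3, 1, 2, 1, 3, 1, 3, 1], 6, false),
      ([2, 0, 3, 0, 2, 0, 2, 0, 3, 0, 2, 1, 2, 2, 0, 3, 0, 3, 3, 0, 3, 1, 3, 1, 3, 3, 0, 3, 0, 3, 0, 2, 0, 2, 0, 3, 0, 2, 0, 2, 0, 3, 0, 2, 0, 2, 0, 3, 0, 2, 0, 3, 0, 3, 0, 2, 2], 1, true),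
      ([2, 0, 3, 0, 2, 0, 2, 0, 3, 0, 2, 1, 2, 2, 0, 3, 0, 3, 3, 0, 3, 1, 3, 1, 3, 3, 0, 3, 0, 3, 0, 2, 0, 2, 0, 3, 0, 2, 0], 0, true),
      ([2, 0, 3, 0, 2, 0, 2, 0, 3, 0, 2, 1, 2, 2, 0, 3, 0, 3, 3, 0, 3, 1, 3, 1, 3, 3, 0, 3, 0, 3, 0], 0, true),
      ([2, 0, 3, 0, 2, 0, 2, 0, 3, 0, 2, 1, 2, 2, 0, 3, 0, 3, 3, 0, 3, 1, 3, 1, 3, 3, 0, 3, 0, 3, 1, 2, 0, 2, 0], 0, true),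
      ([2, 0, 3, 0, 2, 0, 2, 0, 3, 0, 2, 1, 2, 2, 0, 3, 0, 3, 3, 0, 3, 1, 3, 1, 3, 3, 0, 3, 0, 3, 1, 2, 0, 2, 1, 3, 0, 0], 0, true),
      ([2, 0, 3, 0, 2, 0, 2, 0, 3, 0, 2, 1, 2, 2, 0, 3, 0, 3, 3, 0, 3, 1, 3, 1, 3, 3, 0, 3, 0, 3, 1, 2, 0], 0, true),
      ([2, 0, 3, 0, 2, 0, 2, 0, 3, 0, 2, 1, 2, 2, 0, 3, 0, 3, 3, 0, 3, 1, 3, 1, 3, 3, 0, 3, 0, 3, 1, 2, 1, 2, 1, 3, 1, 2, 1, 2, 0, 3, 0, 2, 0, 2, 0, 3, 0, 2, 0, 3, 0, 3, 0, 3, 3, 0, 3, 0, 3, 0], 0, true),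
      ([2, 0, 3, 0, 2, 0, 2, 0, 3, 0, 2, 1, 2, 2, 0, 3, 0, 3, 3, 0, 3, 1, 3, 1, 3, 3, 0, 3, 0, 3, 1, 2, 1, 2, 1, 3, 1, 2, 1, 2, 0, 3, 0, 2, 0, 2, 0, 3, 0, 2, 0, 0], 0, true),
      ([2, 0, 3, 0, 2, 0, 2, 0, 3, 0, 2, 1, 2, 2, 0, 3, 0, 3, 3, 0, 3, 1, 3, 1, 3, 3, 0, 3, 0, 3, 1, 2, 1, 2, 1, 3, 1, 2, 1, 2, 0, 3, 0, 2, 0, 2, 0, 3, 0, 2, 1], 1, false),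
      ([2, 0, 3, 0, 2, 0, 2, 0, 3, 0, 2, 1, 2, 2, 0, 3, 0, 3, 3, 0, 3, 1, 3, 1, 3, 3, 0, 3, 0, 3, 1, 2, 1, 2, 1, 3, 1, 2, 1, 2, 0, 3, 0, 2, 0, 2, 0, 3, 0, 2, 1, 2, 2, 0, 3, 0, 3, 3, 0, 3, 0, 0], 0, true),
      ([2, 0, 3, 0, 2, 0, 2, 0, 3, 0, 2, 1, 2, 2, 0, 3, 0, 3, 3, 0, 3, 1, 3, 1, 3, 3, 0, 3, 0, 3, 1, 2, 1, 2, 1, 3, 1, 2, 1, 2, 0, 3, 0, 2, 0, 2, 0, 3, 0, 2, 1, 2, 2, 0, 3, 0, 3, 3, 0, 3, 1, 3, 1, 2], 1, true),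
      ([2, 0, 3, 0, 2, 0, 2, 0, 3, 0, 2, 1, 2, 2, 0, 3, 0, 3, 3, 0, 3, 1, 3, 1, 3, 3, 0, 3, 0, 3, 1, 2, 2, 0, 3, 1, 3, 1, 2, 2, 0, 3, 0, 3, 1, 2, 2, 0, 3, 0, 3, 1, 3, 1, 3, 1, 3, 1, 2, 2, 0, 3, 1, 3, 1, 3, 0, 3, 0, 2, 0, 2, 0, 3, 1, 3, 1, 2, 1, 3, 1, 3, 1, 2, 1, 3, 0, 3, 0, 2, 0, 2], 0, true),
      ([2, 0, 3, 0, 2, 0, 2, 0, 3, 0, 2, 1, 2, 2, 0, 3, 0, 3, 3, 0, 3, 1, 3, 1, 3, 3, 0, 3, 0, 3, 1, 2, 2, 0, 3, 1, 3, 1, 2, 2, 0, 3, 0, 3, 1, 2, 2, 0, 3, 0, 3, 1, 3, 1, 3, 1, 3, 1, 2, 2, 0, 3, 1, 3, 1, 3, 0, 3, 0, 2, 0, 2], 0, true),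
      ([2, 0, 3, 0, 2, 0, 2, 0, 3, 0, 2, 1, 2, 2, 0, 3, 0, 3, 3, 0, 3, 1, 3, 1, 3, 3, 0, 3, 0, 3, 1, 2, 2, 0, 3, 1, 3, 1, 2, 2, 0, 3, 0, 3, 1, 2, 2, 0, 3, 0, 3, 1, 3, 1, 3, 1, 3, 1, 2, 2, 0, 3, 1, 3, 1, 3, 0, 3, 0, 2, 0, 2, 1, 3, 1, 3, 1, 2, 1, 3, 1, 3, 1, 2, 1, 3, 0, 3, 0, 2, 0, 2, 1, 3, 1, 2, 1, 2, 1, 3, 1, 3, 3], 0, true),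
      ([2, 0, 3, 0, 2, 0, 2, 0, 3, 0, 2, 1, 2, 2, 0, 3, 0, 3, 3, 0, 3, 1, 3, 1, 3, 3, 0, 3, 0, 3, 1, 2, 2, 0, 3, 1, 3, 1, 2, 2, 0, 3, 0, 3, 1, 2, 2, 0, 3, 0, 3, 1, 3, 1, 3, 1, 3, 1, 2, 2, 0, 3, 1, 3, 1, 3, 0, 3, 0, 2, 0, 2, 1, 3, 1, 3, 1, 2, 1, 3, 1, 3, 1, 2, 1, 3, 0, 3, 0, 2, 0, 2, 1, 3, 1, 2, 1, 2, 1, 3, 1, 3, 3, 1, 2, 1], 1, true),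
      ([2, 0, 3, 0, 2, 0, 2, 0, 3, 0, 2, 1, 2, 2, 0, 3, 0, 3, 3, 0, 3, 1, 3, 1, 3, 3, 0, 3, 0, 3, 1, 2, 2, 0, 3, 1, 3, 1, 2, 2, 0, 3, 0, 3, 1, 2, 2, 0, 3, 0, 3, 1, 3, 1, 3, 1, 3, 1, 2, 2, 0, 3, 1, 3, 1, 3, 0, 3, 0, 2, 0, 2, 1, 3, 1, 3, 1, 2, 1, 3, 1, 3, 1, 2, 1, 3, 0, 3, 0, 2, 0, 2, 1, 3, 1, 2, 1, 2, 1, 3, 1, 2], 1, false),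
      ([2, 0, 3, 0, 2, 0, 2, 0, 3, 0, 2, 1, 2, 2, 0, 3, 0, 3, 3, 0, 3, 1, 3, 1, 3, 3, 0, 3, 0, 3, 1, 2, 2, 0, 3, 1, 3, 1, 2, 2, 0, 3, 0, 3, 1, 2, 2, 0, 3, 0, 3, 1, 3, 1, 3, 1, 3, 1, 2, 2, 0, 3, 1, 3, 1, 3, 0, 3, 0, 2, 0, 2, 1, 3, 1, 3, 1, 2, 1, 3, 1, 3, 1, 2, 1, 3, 0, 3, 0], 0, true),
      ([2, 0, 3, 0, 2, 0, 2, 0, 3, 0, 2, 1, 2, 2, 0, 3, 0, 3, 3, 0, 3, 1, 3, 1, 3, 3, 0, 3, 0, 3, 1, 2, 2, 0, 3, 1, 3, 1, 2, 2, 0, 3, 0, 3, 1, 2, 2, 0, 3, 0, 3, 1, 3, 1, 3, 1, 3, 1, 2, 2, 0, 3, 1, 3, 1, 3, 0, 3, 0, 2, 0, 2, 1, 3, 1, 3, 1, 2, 1, 3, 1, 3, 1, 2, 1, 3, 0, 3, 1, 2], 0, true),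
      ([2, 0, 3, 0, 2, 0, 2, 0, 3, 0, 2, 1, 2, 2, 0, 3, 0, 3, 3, 0, 3, 1, 3, 1, 3, 3, 0, 3, 0, 3, 1, 2, 2, 0, 3, 1, 3, 1, 2, 2, 0, 3, 0, 3, 1, 2, 2, 0, 3, 0, 3, 1, 3, 1, 3, 1, 3, 1, 2, 2, 0, 3, 1, 3, 1, 3, 0, 3, 0, 2], 0, true),
      ([2, 0, 3, 0, 2, 0, 2, 0, 3, 0, 2, 1, 2, 2, 0, 3, 0, 3, 3, 0, 3, 1, 3, 1, 3, 3, 0, 3, 0, 3, 1, 2, 2, 0, 3, 1, 3, 1, 2, 2, 0, 3, 0, 3, 1, 2, 2, 0, 3, 0, 3, 1, 3, 1, 3, 1, 3, 1, 2, 2, 0, 3, 1, 3, 1, 3, 0, 3, 0, 2, 1, 2, 1, 3, 1, 3, 1, 2, 1, 3, 1, 3, 1, 2, 1, 3], 0, true),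
      ([2, 0, 3, 0, 2, 0, 2, 0, 3, 0, 2, 1, 2, 2, 0, 3, 0, 3, 3, 0, 3, 1, 3, 1, 3, 3, 0, 3, 0, 3, 1, 2, 2, 0, 3, 1, 3, 1, 2, 2, 0, 3, 0, 3, 1, 2, 2, 0, 3, 0, 3, 1, 3, 1, 3, 1, 3, 1, 2, 2, 0, 3, 1, 3, 1, 3, 0, 3, 0, 2, 2, 0, 3, 0, 3, 0, 2, 0, 3, 0, 3, 0, 2, 0, 3, 0, 3], 6, false),
      ([2, 0, 3, 0, 2, 0, 2, 0, 3, 0, 2, 1, 2, 2, 0, 3, 0, 3, 3, 0, 3, 1, 3, 1, 3, 3, 0, 3, 0, 3, 1, 2, 2, 0, 3, 1, 3, 1, 2, 2, 0, 3, 0, 3, 1, 2, 2, 0, 3, 0, 3, 1, 3, 1, 3, 1, 3, 1, 2, 2, 0, 3, 1, 3, 1, 3, 0, 3, 0, 3, 0, 3, 1, 2, 2, 0, 2, 0, 3, 0, 3, 0, 0], 0, true),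
      ([2, 0, 3, 0, 2, 0, 2, 0, 3, 0, 2, 1, 2, 2, 0, 3, 0, 3, 3, 0, 3, 1, 3, 1, 3, 3, 0, 3, 0, 3, 1, 2, 2, 0, 3, 1, 3, 1, 2, 2, 0, 3, 0, 3, 1, 2, 2, 0, 3, 0, 3, 1, 3, 1, 3, 1, 3, 1, 2, 2, 0, 3, 1, 3, 1, 3, 0, 3, 0, 3, 0, 3, 1, 2, 2, 0, 2, 0, 3, 0, 3, 1, 2, 1, 3, 1, 3, 1, 2, 1, 2, 0, 3, 0, 2, 0, 2, 0, 3, 0, 2, 0, 0], 0, true),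
      ([2, 0, 3, 0, 2, 0, 2, 0, 3, 0, 2, 1, 2, 2, 0, 3, 0, 3, 3, 0, 3, 1, 3, 1, 3, 3, 0, 3, 0, 3, 1, 2, 2, 0, 3, 1, 3, 1, 2, 2, 0, 3, 0, 3, 1, 2, 2, 0, 3], 0, true),
      ([2, 0, 3, 0, 2, 0, 2, 0, 3, 0, 2, 1, 2, 2, 0, 3, 0, 3, 3, 0, 3, 1, 3, 1, 3, 3, 0, 3, 0, 3, 1, 2, 2, 0, 3, 1, 3, 1], 1, true),
      ([2, 0, 3, 0, 2, 0, 2, 0, 3, 0, 2, 1, 2, 2, 0, 3, 0, 3, 3, 0, 3, 1, 3, 1, 3, 3, 0, 3, 0, 3, 1, 2, 2, 0, 3, 1, 3, 1, 3, 0, 3, 0, 3, 1, 2, 2, 0], 0, true),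
      ([2, 0, 3, 0, 2, 0, 2, 0, 3, 0, 2, 1, 2, 2, 0, 3, 0, 3, 3, 0, 3, 1, 3, 1, 3, 3, 0, 3, 0, 3, 1, 2, 2, 0, 3, 1, 3, 1, 3, 0, 3, 0, 3, 1], 1, true),
      ([2, 0, 3, 0, 2, 0, 2, 0, 3, 0, 2, 1, 2, 2, 0, 3, 0, 3, 3, 0, 3, 1, 3, 1, 3, 3, 0, 3, 0, 3, 1, 2, 2, 0, 3, 1, 3, 1, 3, 0, 3, 0], 0, true),
      ([2, 0, 3, 0, 2, 0, 2, 0, 3, 0, 2, 1, 2, 2, 0, 3, 0, 3, 3, 0, 3, 1, 3, 1, 3, 3, 0, 3, 0, 3, 1, 2, 2, 0, 3, 1, 3, 1, 3], 0, true),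
      ([2, 0, 3, 0, 2, 0, 2, 0, 3, 0, 2, 1, 2, 2, 0, 3, 0, 3, 3, 0, 3, 1, 3, 1, 3, 3, 0, 3, 0, 3, 1, 2, 2, 0, 3, 1, 3, 1, 3, 1, 3, 1, 3, 1, 3, 1, 3, 1, 3, 1, 3, 1, 3, 1, 3, 1, 2, 2, 0, 3, 1, 3, 1, 3, 0, 3, 0, 3], 0, true),
      ([2, 0, 3, 0, 2, 0, 2, 0, 3, 0, 2, 1, 2, 2, 0, 3, 0, 3, 3, 0, 3, 1, 3, 1, 3, 3, 0, 3, 0, 3, 1, 2, 2, 0, 3, 1, 3, 1, 3, 1, 3, 1, 3, 1, 3, 1, 3, 1, 3, 1, 3, 1, 3, 1, 3, 1, 2, 2, 0, 3, 1, 3, 1, 3, 0, 3, 0, 3, 1, 3, 1], 1, true),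
      ([2, 0, 3, 0, 2, 0, 2, 0, 3, 0, 2, 1, 2, 2, 0, 3, 0, 3, 3, 0, 3, 1, 3, 1, 3, 3, 0, 3, 0, 3, 1, 2, 2, 0, 3, 1, 3, 1, 3, 1, 3, 1, 3, 1, 3, 1, 3, 1, 3, 1, 3, 1, 3, 1, 3, 1, 2, 2, 0, 3, 1, 3, 1, 3, 0, 3, 0, 3, 1, 3, 1, 3, 0, 3], 0, true),
      ([2, 0, 3, 0, 2, 0, 2, 0, 3, 0, 2, 1, 2, 2, 0, 3, 0, 3, 3, 0, 3, 1, 3, 1, 3, 3, 0, 3, 0, 3, 1, 2, 2, 0, 3, 1, 3, 1, 3, 1, 3, 1, 3, 1, 3, 1, 3, 1, 3, 1, 3, 1, 3, 1, 3, 1, 2, 2], 1, true),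
      ([2, 0, 3, 0, 2, 0, 2, 0, 3, 0, 2, 1, 2, 2, 0, 3, 0, 3, 3, 0, 3, 1, 3, 1, 3, 3, 0, 3, 0, 3, 1, 2, 2, 0, 3, 1, 3, 1, 3, 1, 3, 1, 3, 1, 3, 1, 3, 1, 3, 1, 3, 1, 3, 1, 3, 1, 3, 0, 3, 1, 3, 1, 3, 0, 3, 0], 0, true),
      ([2, 0, 3, 0, 2, 0, 2, 0, 3, 0, 2, 1, 2, 2, 0, 3, 0, 3, 3, 0, 3, 1, 3, 1, 3, 3, 0, 3, 0, 3, 1, 2, 2, 0, 3, 1, 3, 1, 3, 1, 3, 1, 3, 1, 3, 1, 3, 1, 3, 1, 3, 1, 3, 1, 3, 1, 3, 0, 3, 1, 3, 1, 3, 0, 3, 1, 3, 1, 3, 1, 3], 0, true),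
      ([2, 0, 3, 0, 2, 0, 2, 0, 3, 0, 2, 1, 2, 2, 0, 3, 0, 3, 3, 0, 3, 1, 3, 1, 3, 3, 0, 3, 0, 3, 1, 2, 2, 0, 3, 1, 3, 1, 3, 1, 3, 1, 3, 1, 3, 1, 3, 1, 3, 1, 3, 1, 3, 1, 3, 1, 3, 0, 3, 1, 3, 1, 3, 0, 3, 1, 3, 1, 3, 1, 3, 1, 3, 1, 3], 0, true),
      ([2, 0, 3, 0, 2, 0, 2, 0, 3, 0, 2, 1, 2, 2, 0, 3, 0, 3, 3, 0, 3, 1, 3, 1, 3, 3, 0, 3, 0, 3, 1, 2, 2, 0, 3, 1, 3, 1, 3, 1, 3, 1, 3, 1, 3, 1, 3, 1, 3, 1, 3, 1, 3, 1, 3, 1, 3, 0], 0, true),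
      ([2, 0, 3, 0, 2, 0, 2, 0, 3, 0, 2, 1, 2, 2, 0, 3, 0, 3, 3, 0, 3, 1, 3, 1, 3, 3, 0, 3, 0, 3, 1, 2, 2, 0, 3, 1, 3, 1, 3, 1, 3, 1, 3, 1, 3, 1, 3, 1, 3, 1, 3, 1, 3, 1, 3, 1, 3, 1, 3, 1, 3, 1, 3], 0, true),
      ([2, 0, 3, 0, 2, 0, 2, 0, 3, 0, 2, 1, 2, 2, 0, 3, 0, 3, 3, 0, 3, 1, 3, 1, 3, 3, 0, 3, 0, 3, 1, 2, 2], 0, true),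
      ([2, 0, 3, 0, 2, 0, 2, 0, 3, 0, 2, 1, 2, 2, 0, 3, 0, 3, 3, 0, 3, 1, 3, 1, 3, 3, 0, 3, 0, 3, 1, 2, 2], 1, true),
      ([2, 0, 3, 0, 2, 0, 2, 0, 3, 0, 2, 1, 2, 2, 0, 3, 0, 3, 3, 0, 3, 1, 3, 1, 3, 3, 0, 3, 0, 0, 2, 0, 2, 0, 2, 0, 2, 0, 2, 0, 2, 0, 2, 0, 2, 0, 2, 0, 2, 0, 2, 0, 2, 0, 2, 0, 2, 0, 2, 0, 2, 0, 2, 0, 2, 0, 2], 2, false)]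

/-- The conjugates of relators behind relator 15. -/
def fivePrf15 : List (List ℕ × ℕ × Bool) :=
  [([0, 2, 0, 3, 1, 3, 3, 0, 2, 0, 2, 0, 3, 0, 3, 1, 2, 1, 3, 1, 3, 1, 2, 1, 2, 0, 3, 0, 2, 0, 2, 0, 3, 0, 3, 1, 2, 1, 3, 1, 3, 1, 2, 1, 3, 0, 3, 0, 2, 0, 2, 0, 3, 0, 2, 1, 2, 1, 3, 1, 3, 1, 2, 2, 0, 3, 1, 3, 3, 0, 2, 0, 2, 0, 3, 0, 3, 1, 2, 1, 3, 1, 3, 1, 2, 1, 2, 0, 3, 0, 2, 0, 2, 0, 3, 0, 2, 0, 0], 0, false),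
      ([0, 2, 0, 3, 1, 3, 3, 0, 2, 0, 2, 0, 3, 0, 3, 1, 2, 1, 3, 1, 3, 1, 2, 1, 2, 0, 3, 0, 2, 0, 2, 0, 3, 0, 3, 1, 2, 1, 3, 1, 3, 1, 2, 1, 3, 0, 3, 0, 2, 0, 2, 0, 3, 0, 2, 1, 2, 1, 3, 1, 3, 1, 2, 2, 0, 3, 1, 3, 3, 0, 2, 0, 2, 0, 3, 0, 3, 0, 0], 0, false),
      ([0, 2, 0, 3, 1, 3, 3, 0, 2, 0, 2, 0, 3, 0, 3, 1, 2, 1, 3, 1, 3, 1, 2, 1, 2, 0, 3, 0, 2, 0, 2, 0, 3, 0, 3, 1, 2, 1, 3, 1, 3, 1, 2, 1, 3, 0, 3, 0, 2, 0, 2, 0, 3, 0, 2, 1, 2, 1, 3, 1, 3, 1, 2, 2, 0, 3, 1, 3, 3, 0, 3, 0, 2, 1, 2, 2, 2, 0, 3, 0, 3, 0, 2, 0, 3, 0, 3, 0, 2, 0, 3, 0, 3], 6, true),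
      ([0, 2, 0, 3, 1, 3, 3, 0, 2, 0, 2, 0, 3, 0, 3, 1, 2, 1, 3, 1, 3, 1, 2, 1, 2, 0, 3, 0, 2, 0, 2, 0, 3, 0, 3, 1, 2, 1, 3, 1, 3, 1, 2, 1, 3, 0, 3, 0, 2, 0, 2, 0, 3, 0, 2, 1, 2, 1, 3, 1, 3, 1, 2, 2, 0, 3, 1, 3, 3, 0, 3, 0, 2, 1, 2, 2, 1, 2, 1, 3, 1, 3, 1, 2, 1, 3, 1, 3, 1, 2, 1, 3], 0, false),
      ([0, 2, 0, 3, 1, 3, 3, 0, 2, 0, 2, 0, 3, 0, 3, 1, 2, 1, 3, 1, 3, 1, 2, 1, 2, 0, 3, 0, 2, 0, 2, 0, 3, 0, 3, 1, 2, 1, 3, 1, 3, 1, 2, 1, 3, 0, 3, 0, 2, 0, 2, 0, 3, 0, 2, 1, 2, 1, 3, 1, 3, 1, 2, 2, 0, 3, 1, 3, 3, 0, 3, 0, 2, 1, 2, 2], 0, false),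
      ([0, 2, 0, 3, 1, 3, 3, 0, 2, 0, 2, 0, 3, 0, 3, 1, 2, 1, 3, 1, 3, 1, 2, 1, 2, 0, 3, 0, 2, 0, 2, 0, 3, 0, 3, 1, 2, 1, 3, 1, 3, 1, 2, 1, 3, 0, 3, 0, 2, 0, 2, 0, 3, 0, 2, 1, 2, 1, 3, 1, 3, 1, 2, 2, 0, 3, 1, 3, 3, 0, 3, 0, 2, 1, 2, 2, 0, 2, 1, 3, 1, 3, 1, 2, 1, 3, 1, 3, 1, 2, 1, 3, 0, 3, 1, 2], 0, false),
      ([0, 2, 0, 3, 1, 3, 3, 0, 2, 0, 2, 0, 3, 0, 3, 1, 2, 1, 3, 1, 3, 1, 2, 1, 2, 0, 3, 0, 2, 0, 2, 0, 3, 0, 3, 1, 2, 1, 3, 1, 3, 1, 2, 1, 3, 0, 3, 0, 2, 0, 2, 0, 3, 0, 2, 1, 2, 1, 3, 1, 3, 1, 2, 2, 0, 3, 1, 3, 3, 0, 3, 0, 2, 1, 2, 2, 0, 2, 1, 3, 1, 3, 1, 2, 1, 3, 1, 3, 1, 2, 1, 3, 0, 3, 0], 0, false),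
      ([0, 2, 0, 3, 1, 3, 3, 0, 2, 0, 2, 0, 3, 0, 3, 1, 2, 1, 3, 1, 3, 1, 2, 1, 2, 0, 3, 0, 2, 0, 2, 0, 3, 0, 3, 1, 2, 1, 3, 1, 3, 1, 2, 1, 3, 0, 3, 0, 2, 0, 2, 0, 3, 0, 2, 1, 2, 1, 3, 1, 3, 1, 2, 2, 0, 3, 1, 3, 3, 0, 3, 0, 2, 1, 2, 2, 0, 2, 1, 3, 1, 3, 1, 2, 1, 3, 1, 3, 1, 2, 1, 3, 0, 3, 0, 2, 0, 2, 1, 3, 1, 2, 1, 2, 1, 3, 1, 2], 1, true),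
      ([0, 2, 0, 3, 1, 3, 3, 0, 2, 0, 2, 0, 3, 0, 3, 1, 2, 1, 3, 1, 3, 1, 2, 1, 2, 0, 3, 0, 2, 0, 2, 0, 3, 0, 3, 1, 2, 1, 3, 1, 3, 1, 2, 1, 3, 0, 3, 0, 2, 0, 2, 0, 3, 0, 2, 1, 2, 1, 3, 1, 3, 1, 2, 2, 0, 3, 1, 3, 3, 0, 3, 0, 2, 1, 2, 2, 0, 2, 1, 3, 1, 3, 1, 2, 1, 3, 1, 3, 1, 2, 1, 3, 0, 3, 0, 2, 0, 2, 1, 3, 1, 2, 1, 2, 1, 3, 1, 3, 3, 1, 2, 1], 1, false),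
      ([0, 2, 0, 3, 1, 3, 3, 0, 2, 0, 2, 0, 3, 0, 3, 1, 2, 1, 3, 1, 3, 1, 2, 1, 2, 0, 3, 0, 2, 0, 2, 0, 3, 0, 3, 1, 2, 1, 3, 1, 3, 1, 2, 1, 3, 0, 3, 0, 2, 0, 2, 0, 3, 0, 2, 1, 2, 1, 3, 1, 3, 1, 2, 2, 0, 3, 1, 3, 3, 0, 3, 0, 2, 1, 2, 2, 0, 2, 1, 3, 1, 3, 1, 2, 1, 3, 1, 3, 1, 2, 1, 3, 0, 3, 0, 2, 0, 2, 1, 3, 1, 2, 1, 2, 1, 3, 1, 3, 3], 0, false),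
      ([0, 2, 0, 3, 1, 3, 3, 0, 2, 0, 2, 0, 3, 0, 3, 1, 2, 1, 3, 1, 3, 1, 2, 1, 2, 0, 3, 0, 2, 0, 2, 0, 3, 0, 3, 1, 2, 1, 3, 1, 3, 1, 2, 1, 3, 0, 3, 0, 2, 0, 2, 0, 3, 0, 2, 1, 2, 1, 3, 1, 3, 1, 2, 2, 0, 3, 1, 3, 3, 0, 3, 0, 2, 1, 2, 2, 0, 2], 0, false),
      ([0, 2, 0, 3, 1, 3, 3, 0, 2, 0, 2, 0, 3, 0, 3, 1, 2, 1, 3, 1, 3, 1, 2, 1, 2, 0, 3, 0, 2, 0, 2, 0, 3, 0, 3, 1, 2, 1, 3, 1, 3, 1, 2, 1, 3, 0, 3, 0, 2, 0, 2, 0, 3, 0, 2, 1, 2, 1, 3, 1, 3, 1, 2, 2, 0, 3, 1, 3, 3, 0, 3, 0, 2, 1, 2, 2, 0, 2, 0, 3, 1, 3, 1, 2, 1, 3, 1, 3, 1, 2, 1, 3, 0, 3, 0, 2, 0, 2], 0, false),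
      ([0, 2, 0, 3, 1, 3, 3, 0, 2, 0, 2, 0, 3, 0, 3, 1, 2, 1, 3, 1, 3, 1, 2, 1, 2, 0, 3, 0, 2, 0, 2, 0, 3, 1, 3, 1, 2, 1, 3, 1, 3, 1, 2, 1, 3, 0, 3, 0, 2, 0, 2], 0, true),
      ([0, 2, 0, 3, 1, 3, 3, 0, 2, 0, 2, 0, 3, 0, 3, 1, 2, 1, 3, 1, 3, 1, 2, 1, 2, 0, 3, 0, 2, 0, 2], 0, true),
      ([0, 2, 0, 3, 1, 3, 3, 0, 2, 0, 2, 0, 3, 0, 3, 1, 2, 1, 3, 1, 3, 1, 2, 1, 2, 0, 3, 0, 2, 0, 2, 1, 3, 1, 3, 1, 2, 1, 3, 1, 3, 1, 2, 1, 3, 0, 3, 0, 2, 0, 2, 1, 3, 1, 2, 1, 2, 1, 3, 1, 3, 3], 0, true),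
      ([0, 2, 0, 3, 1, 3, 3, 0, 2, 0, 2, 0, 3, 0, 3, 1, 2, 1, 3, 1, 3, 1, 2, 1, 2, 0, 3, 0, 2, 0, 2, 1, 3, 1, 3, 1, 2, 1, 3, 1, 3, 1, 2, 1, 3, 0, 3, 0, 2, 0, 2, 1, 3, 1, 2, 1, 2, 1, 3, 1, 3, 3, 1, 2, 1], 1, true),
      ([0, 2, 0, 3, 1, 3, 3, 0, 2, 0, 2, 0, 3, 0, 3, 1, 2, 1, 3, 1, 3, 1, 2, 1, 2, 0, 3, 0, 2, 0, 2, 1, 3, 1, 3, 1, 2, 1, 3, 1, 3, 1, 2, 1, 3, 0, 3, 0, 2, 0, 2, 1, 3, 1, 2, 1, 2, 1, 3, 1, 2], 1, false),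
      ([0, 2, 0, 3, 1, 3, 3, 0, 2, 0, 2, 0, 3, 0, 3, 1, 2, 1, 3, 1, 3, 1, 2, 1, 2, 0, 3, 0, 2, 0, 2, 1, 3, 1, 3, 1, 2, 1, 3, 1, 3, 1, 2, 1, 3, 0, 3, 0], 0, true),
      ([0, 2, 0, 3, 1, 3, 3, 0, 2, 0, 2, 0, 3, 0, 3, 1, 2, 1, 3, 1, 3, 1, 2, 1, 2, 0, 3, 0, 2, 0, 2, 1, 3, 1, 3, 1, 2, 1, 3, 1, 3, 1, 2, 1, 3, 0, 3, 1, 2], 0, true),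
      ([0, 2, 0, 3, 1, 3, 3, 0, 2, 0, 2, 0, 3, 0, 3, 1, 2, 1, 3, 1, 3, 1, 2, 1, 2, 0, 3, 0, 2], 0, true),
      ([0, 2, 0, 3, 1, 3, 3, 0, 2, 0, 2, 0, 3, 0, 3, 1, 2, 1, 3, 1, 3, 1, 2, 1, 2, 0, 3, 0, 2, 1, 2, 1, 3, 1, 3, 1, 2, 1, 3, 1, 3, 1, 2, 1, 3], 0, true),
      ([0, 2, 0, 3, 1, 3, 3, 0, 2, 0, 2, 0, 3, 0, 3, 1, 2, 1, 3, 1, 3, 1, 2, 1, 2, 0, 3, 0, 2, 2, 0, 3, 0, 3, 0, 2, 0, 3, 0, 3, 0, 2, 0, 3, 0, 3], 6, false),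
      ([0, 2, 0, 3, 1, 3, 3, 0, 2, 0, 2, 0, 3, 0, 3, 1, 2, 1, 3, 1, 3, 1, 2, 1, 2, 0, 3, 0, 3, 0, 3, 1, 2, 2, 0, 2, 0, 3, 0, 3, 0, 0], 0, true),
      ([0, 2, 0, 3, 1, 3, 3, 0, 2, 0, 2, 0, 3, 0, 3, 1, 2, 1, 3, 1, 3, 1, 2, 1, 2, 0, 3, 0, 3, 0, 3, 1, 2, 2, 0, 2, 0, 3, 0, 3, 1, 2, 1, 3, 1, 3, 1, 2, 1, 2, 0, 3, 0, 2, 0, 2, 0, 3, 0, 2, 0, 0], 0, true),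
      ([0, 2, 0, 3, 1, 3, 3, 0, 2, 0, 2, 0, 3, 0, 3, 1, 2, 1, 3, 1, 3, 1, 2, 1, 2, 0, 3, 0, 2, 0, 2, 0, 3, 0, 2, 0, 0], 0, false),
      ([0, 2, 0, 3, 1, 3, 3, 0, 2, 0, 2, 0, 3, 0, 3, 0, 0], 0, false),
      ([0, 2, 0, 3, 1, 3, 3, 0, 3, 0, 2, 1, 2, 2, 2, 0, 3, 0, 3, 0, 2, 0, 3, 0, 3, 0, 2, 0, 3, 0, 3], 6, true),
      ([0, 2, 0, 3, 1, 3, 3, 0, 3, 0, 2, 1, 2, 2, 1, 2, 1, 3, 1, 3, 1, 2, 1, 3, 1, 3, 1, 2, 1, 3], 0, false),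
      ([0, 2, 0, 3, 1, 3, 3, 0, 3, 0, 2, 1, 2, 2], 0, false),
      ([0, 2, 0, 3, 1, 3, 3, 0, 3, 0, 2, 1, 2, 2, 0, 2, 1, 3, 1, 3, 1, 2, 1, 3, 1, 3, 1, 2, 1, 3, 0, 3, 1, 2], 0, false),
      ([0, 2, 0, 3, 1, 3, 3, 0, 3, 0, 2, 1, 2, 2, 0, 2, 1, 3, 1, 3, 1, 2, 1, 3, 1, 3, 1, 2, 1, 3, 0, 3, 0], 0, false),
      ([0, 2, 0, 3, 1, 3, 3, 0, 3, 0, 2, 1, 2, 2, 0, 2, 1, 3, 1, 3, 1, 2, 1, 3, 1, 3, 1, 2, 1, 3, 0, 3, 0, 2, 0, 2, 1, 3, 1, 2, 1, 2, 1, 3, 1, 2], 1, true),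
      ([0, 2, 0, 3, 1, 3, 3, 0, 3, 0, 2, 1, 2, 2, 0, 2, 1, 3, 1, 3, 1, 2, 1, 3, 1, 3, 1, 2, 1, 3, 0, 3, 0, 2, 0, 2, 1, 3, 1, 2, 1, 2, 1, 3, 1, 3, 3, 1, 2, 1], 1, false),
      ([0, 2, 0, 3, 1, 3, 3, 0, 3, 0, 2, 1, 2, 2, 0, 2, 1, 3, 1, 3, 1, 2, 1, 3, 1, 3, 1, 2, 1, 3, 0, 3, 0, 2, 0, 2, 1, 3, 1, 2, 1, 2, 1, 3, 1, 3, 3], 0, false),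
      ([0, 2, 0, 3, 1, 3, 3, 0, 3, 0, 2, 1, 2, 2, 0, 2], 0, false),
      ([0, 2, 0, 3, 1, 3, 3, 0, 3, 0, 2, 1, 2, 2, 0, 2, 0, 3, 1, 3, 1, 2, 1, 3, 1, 3, 1, 2, 1, 3, 0, 3, 0, 2, 0, 2], 0, false),
      ([0, 3, 0, 2, 0, 2, 0, 3, 0, 3, 1, 2, 1, 3, 1, 3, 1, 2, 1, 2, 0, 3, 0, 2, 0, 2, 0, 3, 0, 2, 1, 1, 3, 1, 2, 1, 3, 1, 3, 1, 2, 1, 3, 0, 3, 0, 2, 0, 2], 0, true),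
      ([0, 3, 0, 2, 0, 2, 0, 3, 0, 3, 1, 2, 1, 3, 1, 3, 1, 2, 1, 2, 0, 3, 0, 2, 0, 2, 0, 3, 0, 2, 1, 2, 1], 0, true),
      ([0, 3, 0, 2, 0, 2, 0, 3, 0, 3, 1, 2, 1, 3, 1, 3, 1, 2, 1, 2, 0, 3, 0, 2, 0, 2, 0, 3, 0, 2, 1, 2, 1, 1, 3, 1, 3, 1, 2, 1, 3, 1, 3, 1, 2, 1, 3, 0, 3, 0, 2, 0, 2, 1, 3, 1, 2, 1, 2, 1, 3, 1, 3, 3], 0, true),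
      ([0, 3, 0, 2, 0, 2, 0, 3, 0, 3, 1, 2, 1, 3, 1, 3, 1, 2, 1, 2, 0, 3, 0, 2, 0, 2, 0, 3, 0, 2, 1, 2, 1, 1, 3, 1, 3, 1, 2, 1, 3, 1, 3, 1, 2, 1, 3, 0, 3, 0, 2, 0, 2, 1, 3, 1, 2, 1, 2, 1, 3, 1, 3, 3, 1, 2, 1], 1, true),
      ([0, 3, 0, 2, 0, 2, 0, 3, 0, 3, 1, 2, 1, 3, 1, 3, 1, 2, 1, 2, 0, 3, 0, 2, 0, 2, 0, 3, 0, 2, 1, 2, 1, 1, 3, 1, 3, 1, 2, 1, 3, 1, 3, 1, 2, 1, 3, 0, 3, 0, 2, 0, 2, 1, 3, 1, 2, 1, 2, 1, 3, 1, 2], 1, false),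
      ([0, 3, 0, 2, 0, 2, 0, 3, 0, 3, 1, 2, 1, 3, 1, 3, 1, 2, 1, 2, 0, 3, 0, 2, 0, 2, 0, 3, 0, 2, 1, 2, 1, 1, 3, 1, 3, 1, 2, 1, 3, 1, 3, 1, 2, 1, 3, 0, 3, 0], 0, true),
      ([0, 3, 0, 2, 0, 2, 0, 3, 0, 3, 1, 2, 1, 3, 1, 3, 1, 2, 1, 2, 0, 3, 0, 2, 0, 2, 0, 3, 0, 2, 1, 2, 1, 1, 3, 1, 3, 1, 2, 1, 3, 1, 3, 1, 2, 1, 3, 0, 3, 1, 2], 0, true),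
      ([0, 3, 0, 2, 0, 2, 0, 3, 0, 3, 1, 2, 1, 3, 1, 3, 1, 2, 1, 2, 0, 3, 0, 2, 0, 2, 0, 3, 0, 2, 1, 2, 1, 3, 1], 0, true),
      ([0, 3, 0, 2, 0, 2, 0, 3, 0, 3, 1, 2, 1, 3, 1, 3, 1, 2, 1, 2, 0, 3, 0, 2, 0, 2, 0, 3, 0, 2, 1, 2, 1, 3, 1, 1, 2, 1, 3, 1, 3, 1, 2, 1, 3, 1, 3, 1, 2, 1, 3], 0, true),
      ([0, 3, 0, 2, 0, 2, 0, 3, 0, 3, 1, 2, 1, 3, 1, 3, 1, 2, 1, 2, 0, 3, 0, 2, 0, 2, 0, 3, 0, 2, 1, 2, 1, 3, 1, 2, 0, 3, 0, 3, 0, 2, 0, 3, 0, 3, 0, 2, 0, 3, 0, 3], 6, false),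
      ([0, 3, 0, 2, 0, 2, 0, 3, 0, 3, 1, 2, 1, 3, 1, 3, 1, 2, 1, 2, 0, 3, 0, 2, 0, 2, 0, 3, 0, 2, 1, 2, 1, 3, 1, 3, 3, 0, 3, 1, 2, 2, 0, 2, 0, 3, 0, 3, 0, 0], 0, true),
      ([0, 3, 0, 2, 0, 2, 0, 3, 0, 3, 1, 2, 1, 3, 1, 3, 1, 2, 1, 2, 0, 3, 0, 2, 0, 2, 0, 3, 0, 2, 1, 2, 1, 3, 1, 3, 3, 0, 3, 1, 2, 2, 0, 2, 0, 3, 0, 3, 1, 2, 1, 3, 1, 3, 1, 2, 1, 2, 0, 3, 0, 2, 0, 2, 0, 3, 0, 2, 0, 0], 0, true),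
      ([0, 3, 0, 2, 0, 2, 0, 3, 0, 3, 1, 2, 1, 3, 1, 3, 1, 2, 1, 2, 0, 3, 0, 2, 0, 2, 0, 3, 0, 2, 1, 2, 1, 3, 1, 3, 3, 0, 3, 1, 2, 1, 2, 2, 0, 3, 1, 3, 3, 0, 3, 0, 2, 1, 2, 2, 0, 2, 0, 3, 0, 3, 1, 2, 1, 3, 1, 3, 3, 0, 3, 1, 2, 1, 2, 2, 0, 3, 1, 3, 3, 0, 3, 0, 2, 1, 2, 2, 0, 2, 0, 3, 0], 0, true),
      ([0, 3, 0, 2, 0, 2, 0, 3, 0, 3, 1, 2, 1, 3, 1, 3, 1, 2, 1, 2, 0, 3, 0, 2, 0, 2, 0, 3, 0, 2, 1, 2, 1, 3, 1, 3, 3, 0, 3, 1, 2, 1, 2, 2, 0, 3, 1, 3, 3, 0, 3, 0, 2, 1, 2, 2, 0, 2, 0, 3, 0], 0, true),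
      ([0, 3, 0, 2, 0, 2, 0, 3, 0, 3, 1, 2, 1, 3, 1, 3, 1, 2, 1, 2, 0, 3, 0, 2, 0, 2, 0, 3, 0, 2, 1, 2, 1, 3, 1, 3, 3, 0, 3, 1, 2, 1, 2, 2, 0, 3, 1, 3, 3, 0, 3, 0, 2, 1, 2, 2, 0, 2], 0, true),
      ([0, 3, 0, 2, 0, 2, 0, 3, 0, 3, 1, 2, 1, 3, 1, 3, 1, 2, 1, 2, 0, 3, 0, 2, 0, 2, 0, 3, 0, 2, 2, 0, 2, 1], 0, true),
      ([0, 3, 0, 2, 0, 2, 0, 3, 0, 3, 1, 2, 1, 3, 1, 3, 1, 2, 1, 2, 0, 3, 0, 2, 0, 2, 0, 3, 0, 2, 2, 0, 2, 1, 1, 3, 1, 3, 1, 2, 1, 3, 1, 3, 3, 0, 3, 1, 2, 1, 2, 2, 0, 3, 1, 3, 3, 0, 3, 0, 2, 1, 2, 2, 0, 2, 1, 3, 1, 3, 1, 2, 1, 3, 1, 3, 3, 0, 3, 1, 2, 1, 2, 2, 0, 3, 1, 3, 3, 0, 3], 0, true),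
      ([0, 3, 0, 2, 0, 2, 0, 3, 0, 3, 1, 2, 1, 3, 1, 3, 1, 2, 1, 2, 0, 3, 0, 2, 0, 2, 0, 3, 0, 2, 2, 0, 2, 1, 1, 3, 1, 3, 1, 2, 1, 3, 1, 3, 3, 0, 3, 1, 2, 1, 2, 2, 0, 3, 1, 3, 3, 0, 3, 0, 2, 1, 2, 2, 0, 2, 1, 3, 1, 3, 1, 2, 1, 3, 1, 3, 3], 0, true),
      ([0, 3, 0, 2, 0, 2, 0, 3, 0, 3, 1, 2, 1, 3, 1, 3, 1, 2, 1, 2, 0, 3, 0, 2, 0, 2, 0, 3, 0, 2, 2, 0, 2, 1, 1, 3, 1, 3, 1, 2, 1, 3, 1, 3, 3, 0, 3, 1, 2, 1, 2, 2, 0, 3, 1, 3, 3, 0, 3], 0, true),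
      ([0, 3, 0, 2, 0, 2, 0, 3, 0, 3, 1, 2, 1, 3, 1, 3, 1, 2, 1, 2, 0, 3, 0, 2, 0, 2, 0, 3, 0, 2, 2, 0, 2, 1, 1, 3, 1, 3, 1, 2, 1, 3, 1, 3, 3], 0, true),
      ([0, 3, 0, 2, 0, 2, 0, 3, 0, 3, 1, 2, 1, 3, 1, 3, 1, 2, 1, 2, 0, 3, 0, 2, 0, 2, 0, 3, 0, 2, 2, 0, 2, 1, 1, 3, 1, 3, 1, 2, 1, 3, 1, 3, 3, 1, 3, 1, 2, 1, 2, 2, 0, 3, 1, 3, 3, 0, 3, 1, 2, 1, 2, 2, 0, 2, 1, 3, 1, 3, 1, 2, 1, 3, 1, 3, 3, 1, 3, 1, 2, 1, 2, 2, 0, 3, 1, 3, 3, 0, 3, 1, 2, 1], 1, true),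
      ([0, 3, 0, 2, 0, 2, 0, 3, 0, 3, 1, 2, 1, 3, 1, 3, 1, 2, 1, 2, 0, 3, 0, 2, 0, 2, 0, 3, 0, 2, 2, 0, 2, 1, 1, 3, 1, 3, 1, 2, 1, 3, 1, 3, 3, 1, 3, 1, 2, 1, 2, 2, 0, 3, 1, 3, 3, 0, 3, 1, 2, 1, 2, 2, 0, 2, 1, 3, 1, 3, 1, 2, 1, 3, 1, 2], 1, false),
      ([0, 3, 0, 2, 0, 2, 0, 3, 0, 3, 1, 2, 1, 3, 1, 3, 1, 2, 1, 2, 0, 3, 0, 2, 0, 2, 0, 3, 0, 2, 2, 0, 2, 1, 1, 3, 1, 3, 1, 2, 1, 3, 1, 3, 3, 1, 3, 1, 2, 1, 2, 2, 0, 3, 1, 3, 3, 0, 3, 1, 2, 1], 1, true),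
      ([0, 3, 0, 2, 0, 2, 0, 3, 0, 3, 1, 2, 1, 3, 1, 3, 1, 2, 1, 2, 0, 3, 0, 2, 0, 2, 0, 3, 0, 2, 2, 0, 2, 1, 1, 3, 1, 3, 1, 2, 1, 3, 1, 2], 1, false),
      ([0, 3, 0, 2, 0, 2, 0, 3, 0, 3, 1, 2, 1, 3, 1, 3, 1, 2, 1, 2, 0, 3, 0, 2, 0, 2, 0, 3, 0, 2, 2, 0, 2, 1, 1, 3, 1, 3, 1, 2, 1, 3, 1, 2, 1, 3, 1, 2, 1, 2, 2, 0, 3, 1, 3, 3, 0, 3, 1, 2, 1, 3, 0, 2, 1, 3, 1, 3, 1, 2, 1, 3, 1, 2, 1, 3, 1, 2, 1, 2, 2, 0, 3, 1, 2, 2, 2], 1, false),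
      ([0, 3, 0, 2, 0, 2, 0, 3, 0, 3, 1, 2, 1, 3, 1, 3, 1, 2, 1, 2, 0, 3, 0, 2, 0, 2, 0, 3, 0, 2, 2, 0, 2, 1, 1, 3, 1, 3, 1, 2, 1, 3, 1, 2, 1, 3, 1, 2, 1, 2, 2, 0, 3, 1, 3, 3, 0, 3, 1, 2, 1, 3, 0, 2, 1, 3, 1, 3, 1, 2, 1, 3, 1, 2, 1, 3, 1, 2, 1, 2, 2], 1, true),
      ([0, 3, 0, 2, 0, 2, 0, 3, 0, 3, 1, 2, 1, 3, 1, 3, 1, 2, 1, 2, 0, 3, 0, 2, 0, 2, 0, 3, 0, 2, 2, 0, 2, 1, 1, 3, 1, 3, 1, 2, 1, 3, 1, 2, 1, 3, 1, 2, 1, 2, 2, 0, 3, 1, 2, 2, 2], 1, false),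
      ([0, 3, 0, 2, 0, 2, 0, 3, 0, 3, 1, 2, 1, 3, 1, 3, 1, 2, 1, 2, 0, 3, 0, 2, 0, 2, 0, 3, 0, 2, 2, 0, 2, 1, 1, 3, 1, 3, 1, 2, 1, 3, 1, 2, 1, 3, 1, 2, 1, 2, 2], 1, true),
      ([0, 3, 0, 2, 0, 2, 0, 3, 0, 3, 1, 2, 1, 3, 1, 3, 1, 2, 1, 2, 0, 3, 0, 2, 0, 2, 0, 3, 0, 2, 2, 0, 2, 1, 1, 3, 1, 3, 1, 2, 1, 3, 1, 2, 1, 3, 1, 2, 1, 3, 0, 3, 1, 2, 0, 3, 1, 2, 1, 3, 0, 2, 1, 3, 1, 3, 1, 2, 1, 3, 1, 2, 1, 3, 1, 2, 1, 3, 0, 3, 1, 2, 0], 0, true),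
      ([0, 3, 0, 2, 0, 2, 0, 3, 0, 3, 1, 2, 1, 3, 1, 3, 1, 2, 1, 2, 0, 3, 0, 2, 0, 2, 0, 3, 0, 2, 2, 0, 2, 1, 1, 3, 1, 3, 1, 2, 1, 3, 1, 2, 1, 3, 1, 2, 1, 3, 0, 3, 1, 2, 0], 0, true),
      ([0, 3, 0, 2, 0, 2, 0, 3, 0, 3, 1, 2, 1, 3, 1, 3, 1, 2, 1, 2, 0, 3, 0, 2, 0, 2, 0, 3, 0, 2, 2, 0, 2, 1, 1, 3, 1, 3, 1, 2, 1, 3, 1, 2, 1, 3, 1, 2, 1, 3, 0, 3, 1, 2, 1, 3, 1, 2, 1, 3], 0, true),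
      ([0, 3, 0, 2, 0, 2, 0, 3, 0, 3, 1, 2, 1, 3, 1, 3, 1, 2, 1, 2, 0, 3, 0, 2, 0, 2, 0, 3, 0, 2, 2, 0, 2, 1, 3, 1], 0, true),
      ([0, 3, 0, 2, 0, 2, 0, 3, 0, 3, 1, 2, 1, 3, 1, 3, 1, 2, 1, 2, 0, 3, 0, 2, 0, 2, 0, 3, 0, 2, 2, 0, 2, 1, 3, 1, 1, 2, 1, 3, 1, 3, 1, 2, 1, 3, 1, 2, 1, 3, 1, 2, 1, 3, 0, 3, 1, 2, 1, 3, 1, 2, 1, 3, 1, 2, 1, 3, 1, 3, 1, 2, 1, 3, 1, 2, 1, 3, 1, 2, 1, 3, 0], 0, true),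
      ([0, 3, 0, 2, 0, 2, 0, 3, 0, 3, 1, 2, 1, 3, 1, 3, 1, 2, 1, 2, 0, 3, 0, 2, 0, 2, 0, 3, 0, 2, 2, 0, 2, 1, 3, 1, 1, 2, 1, 3, 1, 3, 1, 2, 1, 3, 1, 2, 1, 3, 1, 2, 1, 3, 0], 0, true),
      ([0, 3, 0, 2, 0, 2, 0, 3, 0, 3, 1, 2, 1, 3, 1, 3, 1, 2, 1, 2, 0, 3, 0, 2, 0, 2, 0, 3, 0, 2, 2, 0, 2, 1, 3, 1, 2, 0, 3, 0, 2, 0, 3], 5, false)]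

/-- The conjugates of relators behind relator 16. -/
def fivePrf16 : List (List ℕ × ℕ × Bool) :=
  [([0, 3, 0, 2, 0, 2, 0, 3, 0, 3, 1, 2, 1, 3, 1, 3, 1, 2, 1, 3, 0, 3, 0, 2, 0, 2, 0, 2, 0, 2, 1, 2, 2, 1, 2, 1, 3, 3, 0, 3, 1, 2, 1, 3, 1, 3, 1, 2, 1, 3, 0, 3, 0, 2, 0, 3, 3, 1, 2, 1, 2, 1, 3, 1, 2, 1, 2, 1, 3, 1, 2, 1, 3, 1, 3, 1, 2, 1, 3, 1, 3, 1, 2, 1, 3, 1, 3, 1], 6, false),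
      ([0, 3, 0, 2, 0, 2, 0, 3, 0, 3, 1, 2, 1, 3, 1, 3, 1, 2, 1, 3, 0, 3, 0, 2, 0, 2, 0, 2, 0, 2, 1, 2, 2, 1, 2, 1, 3, 3, 0, 3, 1, 2, 1, 3, 1, 3, 1, 2, 1, 3, 0, 3, 0, 2, 0, 3, 0, 3, 0, 3, 0, 2, 0, 2, 0, 3, 0, 2, 0, 2, 0, 3, 0, 2, 0, 2, 0, 3, 0, 2, 0, 3, 0, 3, 0, 2, 2], 1, true),
      ([0, 3, 0, 2, 0, 2, 0, 3, 0, 3, 1, 2, 1, 3, 1, 3, 1, 2, 1, 3, 0, 3, 0, 2, 0, 2, 0, 2, 0, 2, 1, 2, 2, 1, 2, 1, 3, 3, 0, 3, 1, 2, 1, 3, 1, 3, 1, 2, 1, 3, 0, 3, 0, 2, 0, 3, 0, 3, 0, 3, 0, 2, 0, 2, 0, 3, 0, 2, 0], 0, true),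
      ([0, 3, 0, 2, 0, 2, 0, 3, 0, 3, 1, 2, 1, 3, 1, 3, 1, 2, 1, 3, 0, 3, 0, 2, 0, 2, 0, 2, 0, 2, 1, 2, 2, 1, 2, 1, 3, 3, 0, 3, 1, 2, 1, 3, 1, 3, 1, 2, 1, 3, 0, 3, 0, 2, 0, 3, 0, 3, 0, 3, 0], 0, true),
      ([0, 3, 0, 2, 0, 2, 0, 3, 0, 3, 1, 2, 1, 3, 1, 3, 1, 2, 1, 3, 0, 3, 0, 2, 0, 2, 0, 2, 0, 2, 1, 2, 2, 1, 2, 1, 3, 3, 0, 3, 1, 2, 1, 3, 1, 3, 1, 2, 1, 3, 0, 3, 0, 2, 0, 3, 0, 3, 0, 3, 1, 2, 0, 2, 0], 0, true),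
      ([0, 3, 0, 2, 0, 2, 0, 3, 0, 3, 1, 2, 1, 3, 1, 3, 1, 2, 1, 3, 0, 3, 0, 2, 0, 2, 0, 2, 0, 2, 1, 2, 2, 1, 2, 1, 3, 3, 0, 3, 1, 2, 1, 3, 1, 3, 1, 2, 1, 3, 0, 3, 0, 2, 0, 3, 0, 3, 0, 3, 1, 2, 0, 2, 1, 3, 0, 0], 0, true),
      ([0, 3, 0, 2, 0, 2, 0, 3, 0, 3, 1, 2, 1, 3, 1, 3, 1, 2, 1, 3, 0, 3, 0, 2, 0, 2, 0, 2, 0, 2, 1, 2, 2, 1, 2, 1, 3, 3, 0, 3, 1, 2, 1, 3, 1, 3, 1, 2, 1, 3, 0, 3, 0, 2, 0, 3, 0, 3, 0, 3, 1, 2, 0], 0, true),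
      ([0, 3, 0, 2, 0, 2, 0, 3, 0, 3, 1, 2, 1, 3, 1, 3, 1, 2, 1, 3, 0, 3, 0, 2, 0, 2, 0, 2, 0, 2, 1, 2, 2, 1, 2, 1, 3, 3, 0, 3, 1, 2, 1, 3, 1, 3, 1, 2, 1, 3, 0, 3, 0, 2, 0, 3, 0, 3, 0, 3, 1, 2, 1, 2, 1, 3, 1, 2, 1, 2, 0, 3, 0, 2, 0, 2, 0, 3, 0, 2, 0, 3, 0, 3, 0, 3, 3, 0, 3, 0, 3, 0], 0, true),
      ([0, 3, 0, 2, 0, 2, 0, 3, 0, 3, 1, 2, 1, 3, 1, 3, 1, 2, 1, 3, 0, 3, 0, 2, 0, 2, 0, 2, 0, 2, 1, 2, 2, 1, 2, 1, 3, 3, 0, 3, 1, 2, 1, 3, 1, 3, 1, 2, 1, 3, 0, 3, 0, 2, 0, 3, 0, 3, 0, 3, 1, 2, 1, 2, 1, 3, 1, 2, 1, 2, 0, 3, 0, 2, 0, 2, 0, 3, 0, 2, 0, 0], 0, true),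
      ([0, 3, 0, 2, 0, 2, 0, 3, 0, 3, 1, 2, 1, 3, 1, 3, 1, 2, 1, 3, 0, 3, 0, 2, 0, 2, 0, 2, 0, 2, 1, 2, 2, 1, 2, 1, 3, 3, 0, 3, 1, 2, 1, 3, 1, 3, 1, 2, 1, 3, 0, 3, 0, 2, 0, 3, 0, 3, 0, 3, 1, 2, 1, 2, 1, 3, 1, 2, 1, 2, 0, 3, 0, 2, 0, 2, 0, 3, 0, 2, 1], 1, false),
      ([0, 3, 0, 2, 0, 2, 0, 3, 0, 3, 1, 2, 1, 3, 1, 3, 1, 2, 1, 3, 0, 3, 0, 2, 0, 2, 0, 2, 0, 2, 1, 2, 2, 1, 2, 1, 3, 3, 0, 3, 1, 2, 1, 3, 1, 3, 1, 2, 1, 3, 0, 3, 0, 2, 0, 3, 0, 3, 0, 3, 1, 2, 1, 2, 1, 3, 1, 2, 1, 2, 0, 3, 0, 2, 0, 2, 0, 3, 0, 2, 1, 2, 2, 0, 3, 0, 3, 3, 0, 3, 0, 0], 0, true),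
      ([0, 3, 0, 2, 0, 2, 0, 3, 0, 3, 1, 2, 1, 3, 1, 3, 1, 2, 1, 3, 0, 3, 0, 2, 0, 2, 0, 2, 0, 2, 1, 2, 2, 1, 2, 1, 3, 3, 0, 3, 1, 2, 1, 3, 1, 3, 1, 2, 1, 3, 0, 3, 0, 2, 0, 3, 0, 3, 0, 3, 1, 2, 1, 2, 1, 3, 1, 2, 1, 2, 0, 3, 0, 2, 0, 2, 0, 3, 0, 2, 1, 2, 2, 0, 3, 0, 3, 3, 0, 3, 1, 3, 1, 2], 1, true),
      ([0, 3, 0, 2, 0, 2, 0, 3, 0, 3, 1, 2, 1, 3, 1, 3, 1, 2, 1, 3, 0, 3, 0, 2, 0, 3, 3, 1, 2, 1, 2, 1, 3, 1, 2, 1, 2, 1, 3, 1, 2, 1, 3, 1, 3, 1, 2, 1, 3, 1, 3, 1, 2, 1, 3, 1, 3, 1], 6, false),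
      ([0, 3, 0, 2, 0, 2, 0, 3, 0, 3, 1, 2, 1, 3, 1, 3, 1, 2, 1, 3, 0, 3, 0, 2, 0, 3, 0, 3, 0, 3, 0, 2, 0, 2, 0, 3, 0, 2, 0, 2, 0, 3, 0, 2, 0, 2, 0, 3, 0, 2, 0, 3, 0, 3, 0, 2, 2], 1, true),
      ([0, 3, 0, 2, 0, 2, 0, 3, 0, 3, 1, 2, 1, 3, 1, 3, 1, 2, 1, 3, 0, 3, 0, 2, 0, 3, 0, 3, 0, 3, 0, 2, 0, 2, 0, 3, 0, 2, 0], 0, true),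
      ([0, 3, 0, 2, 0, 2, 0, 3, 0, 3, 1, 2, 1, 3, 1, 3, 1, 2, 1, 3, 0, 3, 0, 2, 0, 3, 0, 3, 0, 3, 0], 0, true),
      ([0, 3, 0, 2, 0, 2, 0, 3, 0, 3, 1, 2, 1, 3, 1, 3, 1, 2, 1, 3, 0, 3, 0, 2, 0, 3, 0, 3, 0, 3, 1, 2, 0, 2, 0], 0, true),
      ([0, 3, 0, 2, 0, 2, 0, 3, 0, 3, 1, 2, 1, 3, 1, 3, 1, 2, 1, 3, 0, 3, 0, 2, 0, 3, 0, 3, 0, 3, 1, 2, 0, 2, 1, 3, 0, 0], 0, true),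
      ([0, 3, 0, 2, 0, 2, 0, 3, 0, 3, 1, 2, 1, 3, 1, 3, 1, 2, 1, 3, 0, 3, 0, 2, 0, 3, 0, 3, 0, 3, 1, 2, 0], 0, true),
      ([0, 3, 0, 2, 0, 2, 0, 3, 0, 3, 1, 2, 1, 3, 1, 3, 1, 2, 1, 3, 0, 3, 0, 2, 0, 3, 0, 3, 0, 3, 1, 2, 1, 2, 1, 3, 1, 2, 1, 2, 0, 3, 0, 2, 0, 2, 0, 3, 0, 2, 0, 3, 0, 3, 0, 3, 3, 0, 3, 0, 3, 0], 0, true),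
      ([0, 3, 0, 2, 0, 2, 0, 3, 0, 3, 1, 2, 1, 3, 1, 3, 1, 2, 1, 3, 0, 3, 0, 2, 0, 3, 0, 3, 0, 3, 1, 2, 1, 2, 1, 3, 1, 2, 1, 2, 0, 3, 0, 2, 0, 2, 0, 3, 0, 2, 0, 0], 0, true),
      ([0, 3, 0, 2, 0, 2, 0, 3, 0, 3, 1, 2, 1, 3, 1, 3, 1, 2, 1, 3, 0, 3, 0, 2, 0, 3, 0, 3, 0, 3, 1, 2, 1, 2, 1, 3, 1, 2, 1, 2, 0, 3, 0, 2, 0, 2, 0, 3, 0, 2, 1], 1, false),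
      ([0, 3, 0, 2, 0, 2, 0, 3, 0, 3, 1, 2, 1, 3, 1, 3, 1, 2, 1, 3, 0, 3, 0, 2, 0, 3, 0, 3, 0, 3, 1, 2, 1, 2, 1, 3, 1, 2, 1, 2, 0, 3, 0, 2, 0, 2, 0, 3, 0, 2, 1, 2, 2, 0, 3, 0, 3, 3, 0, 3, 0, 0], 0, true),
      ([0, 3, 0, 2, 0, 2, 0, 3, 0, 3, 1, 2, 1, 3, 1, 3, 1, 2, 1, 3, 0, 3, 0, 2, 0, 3, 0, 3, 0, 3, 1, 2, 1, 2, 1, 3, 1, 2, 1, 2, 0, 3, 0, 2, 0, 2, 0, 3, 0, 2, 1, 2, 2, 0, 3, 0, 3, 3, 0, 3, 1, 3, 1, 2], 1, true),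
      ([0, 3, 0, 2, 0, 2, 0, 2, 0, 3, 0, 3, 3, 0, 3, 1, 3, 1, 3, 3, 3, 1, 2, 1, 2, 1, 3, 1, 2, 1, 2, 1, 3, 1, 2, 1, 3, 1, 3, 1, 2, 1, 3, 1, 3, 1, 2, 1, 3, 1, 3, 1], 6, false),
      ([0, 3, 0, 2, 0, 2, 0, 2, 0, 3, 0, 3, 3, 0, 3, 1, 3, 1, 3, 3, 0, 3, 0, 3, 0, 2, 0, 2, 0, 3, 0, 2, 0, 2, 0, 3, 0, 2, 0, 2, 0, 3, 0, 2, 0, 3, 0, 3, 0, 2, 2], 1, true),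
      ([0, 3, 0, 2, 0, 2, 0, 2, 0, 3, 0, 3, 3, 0, 3, 1, 3, 1, 3, 3, 0, 3, 0, 3, 0, 2, 0, 2, 0, 3, 0, 2, 0], 0, true),
      ([0, 3, 0, 2, 0, 2, 0, 2, 0, 3, 0, 3, 3, 0, 3, 1, 3, 1, 3, 3, 0, 3, 0, 3, 0], 0, true),
      ([0, 3, 0, 2, 0, 2, 0, 2, 0, 3, 0, 3, 3, 0, 3, 1, 3, 1, 3, 3, 0, 3, 0, 3, 1, 2, 0, 2, 0], 0, true),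
      ([0, 3, 0, 2, 0, 2, 0, 2, 0, 3, 0, 3, 3, 0, 3, 1, 3, 1, 3, 3, 0, 3, 0, 3, 1, 2, 0, 2, 1, 3, 0, 0], 0, true),
      ([0, 3, 0, 2, 0, 2, 0, 2, 0, 3, 0, 3, 3, 0, 3, 1, 3, 1, 3, 3, 0, 3, 0, 3, 1, 2, 0], 0, true),
      ([0, 3, 0, 2, 0, 2, 0, 2, 0, 3, 0, 3, 3, 0, 3, 1, 3, 1, 3, 3, 0, 3, 0, 3, 1, 2, 1, 2, 1, 3, 1, 2, 1, 2, 0, 3, 0, 2, 0, 2, 0, 3, 0, 2, 0, 3, 0, 3, 0, 3, 3, 0, 3, 0, 3, 0], 0, true),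
      ([0, 3, 0, 2, 0, 2, 0, 2, 0, 3, 0, 3, 3, 0, 3, 1, 3, 1, 3, 3, 0, 3, 0, 3, 1, 2, 1, 2, 1, 3, 1, 2, 1, 2, 0, 3, 0, 2, 0, 2, 0, 3, 0, 2, 0, 0], 0, true),
      ([0, 3, 0, 2, 0, 2, 0, 2, 0, 3, 0, 3, 3, 0, 3, 1, 3, 1, 3, 3, 0, 3, 0, 3, 1, 2, 1, 2, 1, 3, 1, 2, 1, 2, 0, 3, 0, 2, 0, 2, 0, 3, 0, 2, 1], 1, false),
      ([0, 3, 0, 2, 0, 2, 0, 2, 0, 3, 0, 3, 3, 0, 3, 1, 3, 1, 3, 3, 0, 3, 0, 3, 1, 2, 1, 2, 1, 3, 1, 2, 1, 2, 0, 3, 0, 2, 0, 2, 0, 3, 0, 2, 1, 2, 2, 0, 3, 0, 3, 3, 0, 3, 0, 0], 0, true),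
      ([0, 3, 0, 2, 0, 2, 0, 2, 0, 3, 0, 3, 3, 0, 3, 1, 3, 1, 3, 3, 0, 3, 0, 3, 1, 2, 1, 2, 1, 3, 1, 2, 1, 2, 0, 3, 0, 2, 0, 2, 0, 3, 0, 2, 1, 2, 2, 0, 3, 0, 3, 3, 0, 3, 1, 3, 1, 2], 1, true),
      ([0, 3, 0, 2, 0, 2, 0, 2, 0, 3, 0, 3, 3, 0, 3, 1, 3, 1, 3, 3, 0, 3, 0], 1, false)]

/-- The conjugates of relators behind relator 17. -/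
def fivePrf17 : List (List ℕ × ℕ × Bool) :=
  [([3, 0, 2, 0, 3, 1, 3, 3, 0, 2, 0, 2, 0, 3, 0, 3, 1, 2, 1, 3, 1, 3, 1, 2, 1, 2, 0, 3, 0, 2, 0, 2, 0, 3, 0, 2, 2, 1, 2, 2, 0, 2, 1, 2, 2, 1, 2, 1, 3, 1, 3, 1, 3, 1, 2, 1, 2, 0, 3, 0, 2, 0, 2, 0, 3, 0, 2, 1, 2, 2, 0, 3, 0, 3, 3, 0, 3, 1, 3, 1, 3, 3, 3, 1, 2, 1, 2, 1, 3, 1, 2, 1, 2, 1, 3, 1, 2, 1, 3, 1, 3, 1, 2, 1, 3, 1, 3, 1, 2, 1, 3, 1, 3, 1], 6, false),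
      ([3, 0, 2, 0, 3, 1, 3, 3, 0, 2, 0, 2, 0, 3, 0, 3, 1, 2, 1, 3, 1, 3, 1, 2, 1, 2, 0, 3, 0, 2, 0, 2, 0, 3, 0, 2, 2, 1, 2, 2, 0, 2, 1, 2, 2, 1, 2, 1, 3, 1, 3, 1, 3, 1, 2, 1, 2, 0, 3, 0, 2, 0, 2, 0, 3, 0, 2, 1, 2, 2, 0, 3, 0, 3, 3, 0, 3, 1, 3, 1, 3, 3, 0, 3, 0, 3, 0, 2, 0, 2, 0, 3, 0, 2, 0, 2, 0, 3, 0, 2, 0, 2, 0, 3, 0, 2, 0, 3, 0, 3, 0, 2, 2], 1, true),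
      ([3, 0, 2, 0, 3, 1, 3, 3, 0, 2, 0, 2, 0, 3, 0, 3, 1, 2, 1, 3, 1, 3, 1, 2, 1, 2, 0, 3, 0, 2, 0, 2, 0, 3, 0, 2, 2, 1, 2, 2, 0, 2, 1, 2, 2, 1, 2, 1, 3, 1, 3, 1, 3, 1, 2, 1, 2, 0, 3, 0, 2, 0, 2, 0, 3, 0, 2, 1, 2, 2, 0, 3, 0, 3, 3, 0, 3, 1, 3, 1, 3, 3, 0, 3, 0, 3, 0, 2, 0, 2, 0, 3, 0, 2, 0], 0, true),
      ([3, 0, 2, 0, 3, 1, 3, 3, 0, 2, 0, 2, 0, 3, 0, 3, 1, 2, 1, 3, 1, 3, 1, 2, 1, 2, 0, 3, 0, 2, 0, 2, 0, 3, 0, 2, 2, 1, 2, 2, 0, 2, 1, 2, 2, 1, 2, 1, 3, 1, 3, 1, 3, 1, 2, 1, 2, 0, 3, 0, 2, 0, 2, 0, 3, 0, 2, 1, 2, 2, 0, 3, 0, 3, 3, 0, 3, 1, 3, 1, 3, 3, 0, 3, 0, 3, 0], 0, true),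
      ([3, 0, 2, 0, 3, 1, 3, 3, 0, 2, 0, 2, 0, 3, 0, 3, 1, 2, 1, 3, 1, 3, 1, 2, 1, 2, 0, 3, 0, 2, 0, 2, 0, 3, 0, 2, 2, 1, 2, 2, 0, 2, 1, 2, 2, 1, 2, 1, 3, 1, 3, 1, 3, 1, 2, 1, 2, 0, 3, 0, 2, 0, 2, 0, 3, 0, 2, 1, 2, 2, 0, 3, 0, 3, 3, 0, 3, 1, 3, 1, 3, 3, 0, 3, 0, 3, 1, 2, 0, 2, 0], 0, true),
      ([3, 0, 2, 0, 3, 1, 3, 3, 0, 2, 0, 2, 0, 3, 0, 3, 1, 2, 1, 3, 1, 3, 1, 2, 1, 2, 0, 3, 0, 2, 0, 2, 0, 3, 0, 2, 2, 1, 2, 2, 0, 2, 1, 2, 2, 1, 2, 1, 3, 1, 3, 1, 3, 1, 2, 1, 2, 0, 3, 0, 2, 0, 2, 0, 3, 0, 2, 1, 2, 2, 0, 3, 0, 3, 3, 0, 3, 1, 3, 1, 3, 3, 0, 3, 0, 3, 1, 2, 0, 2, 1, 3, 0, 0], 0, true),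
      ([3, 0, 2, 0, 3, 1, 3, 3, 0, 2, 0, 2, 0, 3, 0, 3, 1, 2, 1, 3, 1, 3, 1, 2, 1, 2, 0, 3, 0, 2, 0, 2, 0, 3, 0, 2, 2, 1, 2, 2, 0, 2, 1, 2, 2, 1, 2, 1, 3, 1, 3, 1, 3, 1, 2, 1, 2, 0, 3, 0, 2, 0, 2, 0, 3, 0, 2, 1, 2, 2, 0, 3, 0, 3, 3, 0, 3, 1, 3, 1, 3, 3, 0, 3, 0, 3, 1, 2, 0], 0, true),
      ([3, 0, 2, 0, 3, 1, 3, 3, 0, 2, 0, 2, 0, 3, 0, 3, 1, 2, 1, 3, 1, 3, 1, 2, 1, 2, 0, 3, 0, 2, 0, 2, 0, 3, 0, 2, 2, 1, 2, 2, 0, 2, 1, 2, 2, 1, 2, 1, 3, 1, 3, 1, 3, 1, 2, 1, 2, 0, 3, 0, 2, 0, 2, 0, 3, 0, 2, 1, 2, 2, 0, 3, 0, 3, 3, 0, 3, 1, 3, 1, 3, 3, 0, 3, 0, 3, 1, 2, 1, 2, 1, 3, 1, 2, 1, 2, 0, 3, 0, 2, 0, 2, 0, 3, 0, 2, 0, 3, 0, 3, 0, 3, 3, 0,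 3, 0, 3, 0], 0, true),
      ([3, 0, 2, 0, 3, 1, 3, 3, 0, 2, 0, 2, 0, 3, 0, 3, 1, 2, 1, 3, 1, 3, 1, 2, 1, 2, 0, 3, 0, 2, 0, 2, 0, 3, 0, 2, 2, 1, 2, 2, 0, 2, 1, 2, 2, 1, 2, 1, 3, 1, 3, 1, 3, 1, 2, 1, 2, 0, 3, 0, 2, 0, 2, 0, 3, 0, 2, 1, 2, 2, 0, 3, 0, 3, 3, 0, 3, 1, 3, 1, 3, 3, 0, 3, 0, 3, 1, 2, 1, 2, 1, 3, 1, 2, 1, 2, 0, 3, 0, 2, 0, 2, 0, 3, 0, 2, 0, 0], 0, true),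
      ([3, 0, 2, 0, 3, 1, 3, 3, 0, 2, 0, 2, 0, 3, 0, 3, 1, 2, 1, 3, 1, 3, 1, 2, 1, 2, 0, 3, 0, 2, 0, 2, 0, 3, 0, 2, 2, 1, 2, 2, 0, 2, 1, 2, 2, 1, 2, 1, 3, 1, 3, 1, 3, 1, 2, 1, 2, 0, 3, 0, 2, 0, 2, 0, 3, 0, 2, 1, 2, 2, 0, 3, 0, 3, 3, 0, 3, 1, 3, 1, 3, 3, 0, 3, 0, 3, 1, 2, 1, 2, 1, 3, 1, 2, 1, 2, 0, 3, 0, 2, 0, 2, 0, 3, 0, 2, 1], 1, false),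
      ([3, 0, 2, 0, 3, 1, 3, 3, 0, 2, 0, 2, 0, 3, 0, 3, 1, 2, 1, 3, 1, 3, 1, 2, 1, 2, 0, 3, 0, 2, 0, 2, 0, 3, 0, 2, 2, 1, 2, 2, 0, 2, 1, 2, 2, 1, 2, 1, 3, 1, 3, 1, 3, 1, 2, 1, 2, 0, 3, 0, 2, 0, 2, 0, 3, 0, 2, 1, 2, 2, 0, 3, 0, 3, 3, 0, 3, 1, 3, 1, 3, 3, 0, 3, 0, 3, 1, 2, 1, 2, 1, 3, 1, 2, 1, 2, 0, 3, 0, 2, 0, 2, 0, 3, 0, 2, 1, 2, 2, 0, 3, 0, 3, 3, 0, 3, 0, 0], 0, true),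
      ([3, 0, 2, 0, 3, 1, 3, 3, 0, 2, 0, 2, 0, 3, 0, 3, 1, 2, 1, 3, 1, 3, 1, 2, 1, 2, 0, 3, 0, 2, 0, 2, 0, 3, 0, 2, 2, 1, 2, 2, 0, 2, 1, 2, 2, 1, 2, 1, 3, 1, 3, 1, 3, 1, 2, 1, 2, 0, 3, 0, 2, 0, 2, 0, 3, 0, 2, 1, 2, 2, 0, 3, 0, 3, 3, 0, 3, 1, 3, 1, 3, 3, 0, 3, 0, 3, 1, 2, 1, 2, 1, 3, 1, 2, 1, 2, 0, 3, 0, 2, 0, 2, 0, 3, 0, 2, 1, 2, 2, 0, 3, 0, 3, 3, 0, 3, 1, 3, 1, 2], 1, true),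
      ([3, 0, 2, 0, 3, 1, 3, 3, 0, 2, 0, 2, 0, 3, 0, 3, 1, 2, 1, 3, 1, 3, 1, 2, 1, 2, 0, 3, 0, 2, 0, 2, 0, 3, 0, 2, 2, 1, 2, 2, 0, 2, 1, 2, 2, 1, 2, 1, 3, 1, 3, 1, 3, 1, 2, 1, 2, 0, 3, 0, 2, 0, 2, 0, 3, 0, 2, 1, 2, 2, 0, 3, 0, 3, 3, 0, 3, 1, 3, 1, 3, 3, 0, 3, 0, 3, 1, 2, 1, 2, 2, 0, 2, 0, 3, 0, 3, 3, 0, 3, 1, 3, 3, 0, 3, 1, 1, 3, 1, 2, 1, 3, 1, 3, 1, 2, 1, 3, 0, 3, 0, 2, 0, 2], 0, true),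
      ([3, 0, 2, 0, 3, 1, 3, 3, 0, 2, 0, 2, 0, 3, 0, 3, 1, 2, 1, 3, 1, 3, 1, 2, 1, 2, 0, 3, 0, 2, 0, 2, 0, 3, 0, 2, 2, 1, 2, 2, 0, 2, 1, 2, 2, 1, 2, 1, 3, 1, 3, 1, 3, 1, 2, 1, 2, 0, 3, 0, 2, 0, 2, 0, 3, 0, 2, 1, 2, 2, 0, 3, 0, 3, 3, 0, 3, 1, 3, 1, 3, 3, 0, 3, 0, 3, 1, 2, 1, 2, 2, 0, 2, 0, 3, 0, 3, 3, 0, 3, 1, 3, 3, 0, 3, 1, 2, 1], 0, true),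
      ([3, 0, 2, 0, 3, 1, 3, 3, 0, 2, 0, 2, 0, 3, 0, 3, 1, 2, 1, 3, 1, 3, 1, 2, 1, 2, 0, 3, 0, 2, 0, 2, 0, 3, 0, 2, 2, 1, 2, 2, 0, 2, 1, 2, 2, 1, 2, 1, 3, 1, 3, 1, 3, 1, 2, 1, 2, 0, 3, 0, 2, 0, 2, 0, 3, 0, 2, 1, 2, 2, 0, 3, 0, 3, 3, 0, 3, 1, 3, 1, 3, 3, 0, 3, 0, 3, 1, 2, 1, 2, 2, 0, 2, 0, 3, 0, 3, 3, 0, 3, 1, 3, 3, 0, 3, 1, 2, 1, 1, 3, 1, 3, 1, 2, 1, 3, 1, 3, 1, 2, 1, 3, 0, 3, 0, 2, 0, 2, 1, 3, 1, 2, 1, 2, 1, 3, 1, 3, 3], 0, true),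
      ([3, 0, 2, 0, 3, 1, 3, 3, 0, 2, 0, 2, 0, 3, 0, 3, 1, 2, 1, 3, 1, 3, 1, 2, 1, 2, 0, 3, 0, 2, 0, 2, 0, 3, 0, 2, 2, 1, 2, 2, 0, 2, 1, 2, 2, 1, 2, 1, 3, 1, 3, 1, 3, 1, 2, 1, 2, 0, 3, 0, 2, 0, 2, 0, 3, 0, 2, 1, 2, 2, 0, 3, 0, 3, 3, 0, 3, 1, 3, 1, 3, 3, 0, 3, 0, 3, 1, 2, 1, 2, 2, 0, 2, 0, 3, 0, 3, 3, 0, 3, 1, 3, 3, 0, 3, 1, 2, 1, 1, 3, 1, 3, 1, 2, 1, 3, 1, 3, 1, 2, 1, 3, 0, 3, 0, 2, 0, 2, 1, 3, 1, 2, 1, 2, 1, 3, 1, 3, 3, 1, 2, 1], 1, true),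
      ([3, 0, 2, 0, 3, 1, 3, 3, 0, 2, 0, 2, 0, 3, 0, 3, 1, 2, 1, 3, 1, 3, 1, 2, 1, 2, 0, 3, 0, 2, 0, 2, 0, 3, 0, 2, 2, 1, 2, 2, 0, 2, 1, 2, 2, 1, 2, 1, 3, 1, 3, 1, 3, 1, 2, 1, 2, 0, 3, 0, 2, 0, 2, 0, 3, 0, 2, 1, 2, 2, 0, 3, 0, 3, 3, 0, 3, 1, 3, 1, 3, 3, 0, 3, 0, 3, 1, 2, 1, 2, 2, 0, 2, 0, 3, 0, 3, 3, 0, 3, 1, 3, 3, 0, 3, 1, 2, 1, 1, 3, 1, 3, 1, 2, 1, 3, 1, 3, 1, 2, 1, 3, 0, 3, 0, 2, 0, 2, 1, 3, 1, 2, 1, 2, 1, 3, 1, 2], 1, false),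
      ([3, 0, 2, 0, 3, 1, 3, 3, 0, 2, 0, 2, 0, 3, 0, 3, 1, 2, 1, 3, 1, 3, 1, 2, 1, 2, 0, 3, 0, 2, 0, 2, 0, 3, 0, 2, 2, 1, 2, 2, 0, 2, 1, 2, 2, 1, 2, 1, 3, 1, 3, 1, 3, 1, 2, 1, 2, 0, 3, 0, 2, 0, 2, 0, 3, 0, 2, 1, 2, 2, 0, 3, 0, 3, 3, 0, 3, 1, 3, 1, 3, 3, 0, 3, 0, 3, 1, 2, 1, 2, 2, 0, 2, 0, 3, 0, 3, 3, 0, 3, 1, 3, 3, 0, 3, 1, 2, 1, 1, 3, 1, 3, 1, 2, 1, 3, 1, 3, 1, 2, 1, 3, 0, 3, 0], 0, true),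
      ([3, 0, 2, 0, 3, 1, 3, 3, 0, 2, 0, 2, 0, 3, 0, 3, 1, 2, 1, 3, 1, 3, 1, 2, 1, 2, 0, 3, 0, 2, 0, 2, 0, 3, 0, 2, 2, 1, 2, 2, 0, 2, 1, 2, 2, 1, 2, 1, 3, 1, 3, 1, 3, 1, 2, 1, 2, 0, 3, 0, 2, 0, 2, 0, 3, 0, 2, 1, 2, 2, 0, 3, 0, 3, 3, 0, 3, 1, 3, 1, 3, 3, 0, 3, 0, 3, 1, 2, 1, 2, 2, 0, 2, 0, 3, 0, 3, 3, 0, 3, 1, 3, 3, 0, 3, 1, 2, 1, 1, 3, 1, 3, 1, 2, 1, 3, 1, 3, 1, 2, 1, 3, 0, 3, 1, 2], 0, true),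
      ([3, 0, 2, 0, 3, 1, 3, 3, 0, 2, 0, 2, 0, 3, 0, 3, 1, 2, 1, 3, 1, 3, 1, 2, 1, 2, 0, 3, 0, 2, 0, 2, 0, 3, 0, 2, 2, 1, 2, 2, 0, 2, 1, 2, 2, 1, 2, 1, 3, 1, 3, 1, 3, 1, 2, 1, 2, 0, 3, 0, 2, 0, 2, 0, 3, 0, 2, 1, 2, 2, 0, 3, 0, 3, 3, 0, 3, 1, 3, 1, 3, 3, 0, 3, 0, 3, 1, 2, 1, 2, 2, 0, 2, 0, 3, 0, 3, 3, 0, 3, 1, 3, 3, 0, 3, 1, 2, 1, 3, 1], 0, true),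
      ([3, 0, 2, 0, 3, 1, 3, 3, 0, 2, 0, 2, 0, 3, 0, 3, 1, 2, 1, 3, 1, 3, 1, 2, 1, 2, 0, 3, 0, 2, 0, 2, 0, 3, 0, 2, 2, 1, 2, 2, 0, 2, 1, 2, 2, 1, 2, 1, 3, 1, 3, 1, 3, 1, 2, 1, 2, 0, 3, 0, 2, 0, 2, 0, 3, 0, 2, 1, 2, 2, 0, 3, 0, 3, 3, 0, 3, 1, 3, 1, 3, 3, 0, 3, 0, 3, 1, 2, 1, 2, 2, 0, 2, 0, 3, 0, 3, 3, 0, 3, 1, 3, 3, 0, 3, 1, 2, 1, 3, 1, 1, 2, 1, 3, 1, 3, 1, 2, 1, 3, 1, 3, 1, 2, 1, 3], 0, true),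
      ([3, 0, 2, 0, 3, 1, 3, 3, 0, 2, 0, 2, 0, 3, 0, 3, 1, 2, 1, 3, 1, 3, 1, 2, 1, 2, 0, 3, 0, 2, 0, 2, 0, 3, 0, 2, 2, 1, 2, 2, 0, 2, 1, 2, 2, 1, 2, 1, 3, 1, 3, 1, 3, 1, 2, 1, 2, 0, 3, 0, 2, 0, 2, 0, 3, 0, 2, 1, 2, 2, 0, 3, 0, 3, 3, 0, 3, 1, 3, 1, 3, 3, 0, 3, 0, 3, 1, 2, 1, 2, 2, 0, 2, 0, 3, 0, 3, 3, 0, 3, 1, 3, 3, 0, 3, 1, 2, 1, 3, 1, 2, 0, 3, 0, 3, 0, 2, 0, 3, 0, 3, 0, 2, 0, 3, 0, 3], 6, false),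
      ([3, 0, 2, 0, 3, 1, 3, 3, 0, 2, 0, 2, 0, 3, 0, 3, 1, 2, 1, 3, 1, 3, 1, 2, 1, 2, 0, 3, 0, 2, 0, 2, 0, 3, 0, 2, 2, 1, 2, 2, 0, 2, 1, 2, 2, 1, 2, 1, 3, 1, 3, 1, 3, 1, 2, 1, 2, 0, 3, 0, 2, 0, 2, 0, 3, 0, 2, 1, 2, 2, 0, 3, 0, 3, 3, 0, 3, 1, 3, 1, 3, 3, 0, 3, 0, 3, 1, 2, 1, 2, 2, 0, 2, 0, 3, 0, 3, 3, 0, 3, 1, 3, 3, 0, 3, 1, 2, 1, 3, 1, 3, 3, 0, 3, 1, 2, 2, 0, 2, 0, 3, 0, 3, 0, 0], 0, true),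
      ([3, 0, 2, 0, 3, 1, 3, 3, 0, 2, 0, 2, 0, 3, 0, 3, 1, 2, 1, 3, 1, 3, 1, 2, 1, 2, 0, 3, 0, 2, 0, 2, 0, 3, 0, 2, 2, 1, 2, 2, 0, 2, 1, 2, 2, 1, 2, 1, 3, 1, 3, 1, 3, 1, 2, 1, 2, 0, 3, 0, 2, 0, 2, 0, 3, 0, 2, 1, 2, 2, 0, 3, 0, 3, 3, 0, 3, 1, 3, 1, 3, 3, 0, 3, 0, 3, 1, 2, 1, 2, 2, 0, 2, 0, 3, 0, 3, 3, 0, 3, 1, 3, 3, 0, 3, 1, 2, 1, 3, 1, 3, 3, 0, 3, 1, 2, 2, 0, 2, 0, 3, 0, 3, 1, 2, 1, 3, 1, 3, 1, 2, 1, 2, 0, 3, 0, 2, 0, 2, 0, 3, 0, 2, 0, 0], 0, true),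
      ([3, 0, 2, 0, 3, 1, 3, 3, 0, 2, 0, 2, 0, 3, 0, 3, 1, 2, 1, 3, 1, 3, 1, 2, 1, 2, 0, 3, 0, 2, 0, 2, 0, 3, 0, 2, 2, 1, 2, 2, 0, 2, 1, 2, 2, 1, 2, 1, 3, 1, 3, 1, 3, 1, 2, 1, 2, 0, 3, 0, 2, 0, 2, 0, 3, 0, 2, 1, 2, 2, 0, 3, 0, 3, 3, 0, 3, 1, 3, 1, 3, 3, 0, 3, 0, 3, 1, 2, 1, 2, 2, 0, 2, 0, 3], 0, true),
      ([3, 0, 2, 0, 3, 1, 3, 3, 0, 2, 0, 2, 0, 3, 0, 3, 1, 2, 1, 3, 1, 3, 1, 2, 1, 2, 0, 3, 0, 2, 0, 2, 0, 3, 0, 2, 2, 1, 2, 2, 0, 2, 1, 2, 2, 1, 2, 1, 3, 1, 3, 1, 3, 1, 2, 1, 2, 0, 3, 0, 2, 0, 2, 0, 3, 0, 2, 1, 2, 2, 0, 3, 0, 3, 3, 0, 3, 1, 3, 1, 3, 3, 0, 3, 0, 3, 1, 2, 1], 1, true),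
      ([3, 0, 2, 0, 3, 1, 3, 3, 0, 2, 0, 2, 0, 3, 0, 3, 1, 2, 1, 3, 1, 3, 1, 2, 1, 2, 0, 3, 0, 2, 0, 2, 0, 3, 0, 2, 2, 1, 2, 2, 0, 2, 1, 2, 2, 1, 2, 1, 3, 1, 3, 1, 3, 1, 2, 1, 2, 0, 3, 0, 2, 0, 2, 0, 3, 0, 2, 1, 2, 2, 0, 3, 0, 3, 3, 0, 3, 1, 3, 1, 3, 3, 0, 3, 0, 3, 1, 2, 1, 3, 0, 2, 0, 3, 1, 3, 3, 0, 3, 1, 2], 1, false),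
      ([3, 0, 2, 0, 3, 1, 3, 3, 0, 2, 0, 2, 0, 3, 0, 3, 1, 2, 1, 3, 1, 3, 1, 2, 1, 2, 0, 3, 0, 2, 0, 2, 0, 3, 0, 2, 2, 1, 2, 2, 0, 2, 1, 2, 2, 1, 2, 1, 3, 1, 3, 1, 3, 1, 2, 1, 2, 0, 3, 0, 2, 0, 2, 0, 3, 0, 2, 1, 2, 2, 0, 3, 0, 3, 3, 0, 3, 1, 3, 1, 3, 3, 0, 3, 0, 3, 1, 2, 1, 3, 0, 2, 0, 3, 1, 3, 3, 0, 3, 1, 2, 0, 3, 1, 2, 0], 0, false),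
      ([3, 0, 2, 0, 3, 1, 3, 3, 0, 2, 0, 2, 0, 3, 0, 3, 1, 2, 1, 3, 1, 3, 1, 2, 1, 2, 0, 3, 0, 2, 0, 2, 0, 3, 0, 2, 2, 1, 2, 2, 0, 2, 1, 2, 2, 1, 2, 1, 3, 1, 3, 1, 3, 1, 2, 1, 2, 0, 3, 0, 2, 0, 2, 0, 3, 0, 2, 1, 2, 2, 0, 3, 0, 3, 3, 0, 3, 1, 3, 1, 3, 3, 0, 3, 0, 3, 1, 2, 1, 3], 0, true),
      ([3, 0, 2, 0, 3, 1, 3, 3, 0, 2, 0, 2, 0, 3, 0, 3, 1, 2, 1, 3, 1, 3, 1, 2, 1, 2, 0, 3, 0, 2, 0, 2, 0, 3, 0, 2, 2, 1, 2, 2, 0, 2, 1, 2, 2, 1, 2, 1, 3, 1, 3, 1, 3, 1, 2, 1, 2, 0, 3, 0, 2, 0, 2, 0, 3, 0, 2, 1, 2, 2, 0, 3, 0, 3, 3, 0, 3, 1, 3, 1, 3, 3, 0, 3, 0, 3, 1, 2, 1, 3, 1, 2, 0, 3, 1, 3, 3, 0, 3, 1, 2, 0, 3, 1, 2, 0, 3, 1, 2], 1, false),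
      ([3, 0, 2, 0, 3, 1, 3, 3, 0, 2, 0, 2, 0, 3, 0, 3, 1, 2, 1, 3, 1, 3, 1, 2, 1, 2, 0, 3, 0, 2, 0, 2, 0, 3, 0, 2, 2, 1, 2, 2, 0, 2, 1, 2, 2, 1, 2, 1, 3, 1, 3, 1, 3, 1, 2, 1, 2, 0, 3, 0, 2, 0, 2, 0, 3, 0, 2, 1, 2, 2, 0, 3, 0, 3, 3, 0, 3, 1, 3, 1, 3, 3, 0, 3, 0, 3, 1, 2, 1, 3, 1, 2, 0, 3, 1, 3, 3, 0, 3, 1, 2, 0, 3, 1, 2, 0, 3, 1, 2, 0, 3, 1, 2, 1, 2, 2, 0, 2, 1, 3, 1, 2, 0, 3, 0, 2, 0, 3], 0, true),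
      ([3, 0, 2, 0, 3, 1, 3, 3, 0, 2, 0, 2, 0, 3, 0, 3, 1, 2, 1, 3, 1, 3, 1, 2, 1, 2, 0, 3, 0, 2, 0, 2, 0, 3, 0, 2, 2, 1, 2, 2, 0, 2, 1, 2, 2, 1, 2, 1, 3, 1, 3, 1, 3, 1, 2, 1, 2, 0, 3, 0, 2, 0, 2, 0, 3, 0, 2, 1, 2, 2, 0, 3, 0, 3, 3, 0, 3, 1, 3, 1, 3, 3, 0, 3, 0, 3, 1, 2, 0], 0, false),
      ([3, 0, 2, 0, 3, 1, 3, 3, 0, 2, 0, 2, 0, 3, 0, 3, 1, 2, 1, 3, 1, 3, 1, 2, 1, 2, 0, 3, 0, 2, 0, 2, 0, 3, 0, 2, 2, 1, 2, 2, 0, 2, 1, 2, 2, 1, 2, 1, 3, 1, 3, 1, 3, 1, 2, 1, 2, 0, 3, 0, 2, 0, 2, 0, 3, 0, 2, 1, 2, 2, 0, 3, 0, 3, 3, 0, 3, 1, 3, 1, 3, 3, 0, 3, 0, 3, 1, 2, 0, 3, 1, 2, 0, 3, 1, 3, 3, 0, 3, 1, 2, 0, 3, 1, 2, 0, 3, 1, 2, 0, 3, 1, 2,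 1, 2, 2], 1, true),
      ([3, 0, 2, 0, 3, 1, 3, 3, 0, 2, 0, 2, 0, 3, 0, 3, 1, 2, 1, 3, 1, 3, 1, 2, 1, 2, 0, 3, 0, 2, 0, 2, 0, 3, 0, 2, 2, 1, 2, 2, 0, 2, 1, 2, 2, 1, 2, 1, 3, 1, 3, 1, 3, 1, 2, 1, 2, 0, 3, 0, 2, 0, 2, 0, 3, 0, 2, 1, 2, 2, 0, 3, 0, 3, 3, 0, 3, 1, 3, 1, 3, 3, 0, 3, 0, 3, 1, 2, 0, 3, 1, 2, 0, 3, 1, 3, 3, 0, 3, 1, 2, 0, 3, 1, 2, 0, 3, 1, 2, 0, 3, 1, 2, 1, 3, 0, 2, 1, 3, 1, 2, 0, 3, 0], 0, true),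
      ([3, 0, 2, 0, 3, 1, 3, 3, 0, 2, 0, 2, 0, 3, 0, 3, 1, 2, 1, 3, 1, 3, 1, 2, 1, 2, 0, 3, 0, 2, 0, 2, 0, 3, 0, 2, 2, 1, 2, 2, 0, 2, 1, 2, 2, 1, 2, 1, 3, 1, 3, 1, 3, 1, 2, 1, 2, 0, 3, 0, 2, 0, 2, 0, 3, 0, 2, 1, 2, 2, 0, 3, 0, 3, 3, 0, 3, 1, 3, 1, 3, 3, 0, 3, 0, 3, 1, 2, 0, 3, 1, 2, 0, 3, 1, 3, 3, 0, 3, 1, 2, 0, 3, 1, 2, 0, 3, 1, 2, 0, 3, 1, 2, 0, 0], 0, false),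
      ([3, 0, 2, 0, 3, 1, 3, 3, 0, 2, 0, 2, 0, 3, 0, 3, 1, 2, 1, 3, 1, 3, 1, 2, 1, 2, 0, 3, 0, 2, 0, 2, 0, 3, 0, 2, 2, 1, 2, 2, 0, 2, 1, 2, 2, 1, 2, 1, 3, 1, 3, 1, 3, 1, 2, 1, 2, 0, 3, 0, 2, 0, 2, 0, 3, 0, 2, 1, 2, 2, 0, 3, 0, 3, 3, 0, 3, 1, 3, 1, 3, 3, 0, 3, 0, 3, 1, 2, 0, 3, 1, 2, 0, 3, 1, 3, 3, 0, 3, 1, 2, 0, 3, 1, 2, 0, 3, 1, 2, 0, 3, 1, 2, 0, 3, 0, 2, 0, 0], 0, false),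
      ([3, 0, 2, 0, 3, 1, 3, 3, 0, 2, 0, 2, 0, 3, 0, 3, 1, 2, 1, 3, 1, 3, 1, 2, 1, 2, 0, 3, 0, 2, 0, 2, 0, 3, 0, 2, 2, 1, 2, 2, 0, 2, 1, 2, 2, 1, 2, 1, 3, 1, 3, 1, 3, 1, 2, 1, 2, 0, 3, 0, 2, 0, 2, 0, 3, 0, 2, 1, 2, 2, 0, 3, 0, 3, 3, 0, 3, 1, 3, 1, 3, 3, 0, 3, 0, 3, 1, 2, 0, 3, 1, 2, 0, 3, 1, 3, 3, 0, 3, 1, 2, 0, 3, 1, 2, 0, 3, 1, 2, 0, 3, 1, 2, 0, 3, 0], 0, true),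
      ([3, 0, 2, 0, 3, 1, 3, 3, 0, 2, 0, 2, 0, 3, 0, 3, 1, 2, 1, 3, 1, 3, 1, 2, 1, 2, 0, 3, 0, 2, 0, 2, 0, 3, 0, 2, 2, 1, 2, 2, 0, 2, 1, 2, 2, 1, 2, 1, 3, 1, 3, 1, 3, 1, 2, 1, 2, 0, 3, 0, 2, 0, 2, 0, 3, 0, 2, 1, 2, 2, 0, 3, 0, 3, 3, 0, 3, 1, 3, 1, 3, 3, 0, 3, 0, 3, 1, 2, 0, 3, 1, 2, 0, 3, 1, 3, 3, 0, 3, 1, 2, 0, 3, 1, 2, 0, 3, 1, 2, 0, 3, 1, 2, 0, 3, 1, 2, 0, 3, 1, 2, 0, 3, 1, 2, 0, 3, 1, 2, 0, 3, 1, 2, 2, 2], 1, false),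
      ([3, 0, 2, 0, 3, 1, 3, 3, 0, 2, 0, 2, 0, 3, 0, 3, 1, 2, 1, 3, 1, 3, 1, 2, 1, 2, 0, 3, 0, 2, 0, 2, 0, 3, 0, 2, 2, 1, 2, 2, 0, 2, 1, 2, 2, 1, 2, 1, 3, 1, 3, 1, 3, 1, 2, 1, 2, 0, 3, 0, 2, 0, 2, 0, 3, 0, 2, 1, 2, 2, 0, 3, 0, 3, 3, 0, 3, 1, 3, 1, 3, 3, 0, 3, 0, 3, 1, 2, 0, 3, 1, 2, 0, 3, 1, 2, 2], 1, false),
      ([3, 0, 2, 0, 3, 1, 3, 3, 0, 2, 0, 2, 0, 3, 0, 3, 1, 2, 1, 3, 1, 3, 1, 2, 1, 2, 0, 3, 0, 2, 0, 2, 0, 3, 0, 2, 2, 1, 2, 2, 0, 2, 1, 2, 2, 1, 2, 1, 3, 1, 3, 1, 3, 1, 2, 1, 2, 0, 3, 0, 2, 0, 2, 0, 3, 0, 2, 1, 2, 2, 0, 3, 0, 3, 3, 0, 3, 1, 3, 1, 3, 3, 0, 3, 3, 0, 2, 1, 3, 0, 2, 1, 3, 0, 2, 1, 3, 0, 2, 1, 3, 0, 2, 1, 3,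 0, 2, 1, 3, 0, 2, 1, 3, 0, 2, 1, 3, 0, 2, 1, 3, 0, 2, 1, 3, 0, 2], 3, false)]

/-- The conjugates of relators behind relator 18. -/
def fivePrf18 : List (List ℕ × ℕ × Bool) :=
  [([0, 3, 0, 2, 0, 3, 0, 2, 0, 3, 1, 3, 3, 0, 3, 1, 2, 2, 0, 2, 1, 3, 1, 3, 1, 2, 1, 2, 1, 2, 2, 1, 2, 1, 2, 1, 3, 1, 2, 1, 2, 1, 3, 0, 2, 1, 2, 2, 0, 3, 1, 3, 3], 0, true),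
      ([0, 3, 0, 2, 0, 3, 0, 2, 0, 3, 1, 3, 3, 0, 3, 1, 2, 2, 0, 2, 1, 3, 1, 3, 1, 2, 1, 2, 1, 2, 2, 1, 2, 1, 2, 1, 3, 1, 2, 1, 2, 1, 3], 0, true),
      ([0, 3, 0, 2, 0, 3, 0, 2, 0, 3, 1, 3, 3, 0, 3, 1, 2, 2, 0, 2, 1, 3, 1, 3, 1, 2, 1, 2, 1, 2, 2, 1, 2, 1, 2, 1, 3, 1, 2, 1, 2, 1, 3, 1, 2, 1, 2, 2], 0, true),
      ([0, 3, 0, 2, 0, 3, 0, 2, 0, 3, 1, 3, 3, 0, 3, 1, 2, 2], 0, true),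
      ([0, 3, 0, 2, 0, 3, 0, 2, 0, 3, 1, 3, 3, 0, 3, 1, 2, 2, 1, 2, 1, 3, 1, 3, 1, 2, 1, 2, 1, 2, 2, 1, 2, 1, 2, 1, 3, 1, 2, 1, 2, 1, 3, 1, 2, 1, 2, 2, 1, 3, 1, 2, 2, 2], 1, false),
      ([0, 3, 0, 2, 0, 3, 0, 2, 0, 3, 1, 3, 3, 0, 3, 1, 2, 2, 1, 2, 1, 3, 1, 3, 1, 2, 1, 2, 1, 2, 2, 1, 2, 1, 2, 1, 3, 1, 2, 1, 2, 1, 3, 1, 2, 1, 2, 2], 1, true),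
      ([0, 3, 0, 2, 0, 3, 0, 2, 0, 3, 1, 3, 3, 0, 3, 1, 2, 2], 1, true),
      ([0, 3, 0, 2, 0, 3, 0, 2, 0, 3, 1, 3, 3, 0, 3, 1, 3, 1, 2, 1, 3, 1, 3, 1, 2, 1, 2, 1, 2], 1, true),
      ([0, 3, 0, 2, 0, 3, 0, 2, 0, 3, 1, 3, 3, 0, 0, 3, 0, 2, 0, 2, 0, 3, 0, 2, 0, 3, 0, 3, 0, 2, 0, 3, 0, 3, 0, 2, 0, 3, 0, 3], 6, false),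
      ([0, 3, 0, 2, 0, 3, 0, 3, 0, 3, 1, 2, 0], 0, true),
      ([0, 3, 0, 2, 0, 3, 0, 3, 0, 3, 1, 2, 1, 3, 0, 3, 0, 2, 0, 3, 0, 3, 0, 3, 3, 0, 3, 0, 3, 0], 0, true),
      ([0, 3, 0, 2, 0, 3, 0, 3, 0, 3, 1, 2, 1, 3, 0, 3, 0, 2, 0, 0], 0, true),
      ([0, 3, 0, 2, 0, 3, 0, 3, 0, 3, 1, 2, 1, 3, 0, 3, 0, 2, 1], 1, false),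
      ([0, 3, 0, 2, 0, 3, 0, 3, 0, 3, 1, 2, 1, 3, 0, 3, 0, 2, 1, 2, 2, 0, 3, 0, 3, 3, 0, 3, 0, 0], 0, true),
      ([0, 3, 0, 2, 0, 3, 0, 3, 0, 3, 1, 2, 1], 1, false),
      ([0, 3, 0, 2, 0, 3, 0, 3, 0, 3, 1, 2, 1, 2, 2, 0, 3, 0, 2, 1, 2, 2, 0, 3, 0, 3, 3, 0, 3, 1, 3, 1, 2], 1, true),
      ([0, 3, 0, 2, 0, 3, 0, 3, 0, 3, 1, 2, 1, 2, 1, 3, 1, 2, 1, 2, 0, 3, 0, 2, 0, 2, 0, 3, 0, 2, 1, 2, 2, 0, 3, 0, 3, 3, 0, 3, 1, 3, 1, 2], 1, false),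
      ([0, 3, 0, 2, 0, 3, 0, 3, 0, 3, 1, 2, 1, 2, 1, 3, 1, 2, 1, 2, 0, 3, 0, 2, 0, 2, 0, 3, 0, 2, 1, 2, 2, 0, 3, 0, 3, 3, 0, 3, 0, 0], 0, false),
      ([0, 3, 0, 2, 0, 3, 0, 3, 0, 3, 1, 2, 1, 2, 1, 3, 1, 2, 1, 2, 0, 3, 0, 2, 0, 2, 0, 3, 0, 2, 1], 1, true),
      ([0, 3, 0, 2, 0, 3, 0, 3, 0, 3, 1, 2, 1, 2, 1, 3, 1, 2, 1, 2, 0, 3, 0, 2, 0, 2, 0, 3, 0, 2, 0, 0], 0, false),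
      ([0, 3, 0, 2, 0, 3, 0, 3, 0, 3, 1, 2, 1, 2, 1, 3, 1, 2, 1, 2, 0, 3, 0, 2, 0, 2, 0, 3, 0, 2, 0, 3, 0, 3, 0, 3, 3, 0, 3, 0, 3, 0], 0, false),
      ([0, 3, 0, 2, 0, 3, 0, 3, 0, 3, 1, 2, 0], 0, false),
      ([0, 3, 0, 2, 0, 3, 0, 3, 0, 3, 1, 2, 0, 2, 1, 3, 0, 0], 0, false),
      ([0, 3, 0, 2, 0, 3, 0, 3, 0, 3, 1, 2, 0, 2, 0], 0, false),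
      ([0, 3, 0, 2, 0, 3, 0, 3, 0, 3, 0], 0, false),
      ([0, 3, 0, 2, 0, 3, 0, 3, 0, 3, 0, 2, 0, 2, 0, 3, 0, 2, 0], 0, false),
      ([0, 3, 0, 2, 0, 3, 0, 3, 0, 3, 0, 2, 0, 2, 0, 3, 0, 2, 0, 2, 0, 3, 0, 2, 0, 2, 0, 3, 0, 2, 0, 3, 0, 3, 0, 2, 2], 1, false),
      ([0, 3, 0, 2, 0, 3, 3, 1, 2, 1, 2, 1, 3, 1, 2, 1, 2, 1, 3, 1, 2, 1, 3, 1, 3, 1, 2, 1, 3, 1, 3, 1, 2, 1, 3, 1, 3, 1], 6, true),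
      ([0, 3, 0, 2, 0, 2, 0, 2, 0, 2, 1, 2, 2, 1, 2, 1, 3, 3, 0, 3, 1, 2, 1, 3, 1, 3, 1, 2, 1, 3, 0, 3, 0, 2, 0, 2, 0, 3, 0, 2, 1, 2, 2, 0, 3, 0, 3, 3, 0, 3, 1, 3, 1, 3, 3, 0, 2, 0, 3, 1, 3, 3, 0, 2, 1, 2, 1, 3, 1, 2, 1, 2, 1, 3, 1, 2, 1, 2, 1, 3, 1, 2, 1, 3, 1, 3, 1, 2, 1, 3, 1, 3, 1, 2, 1, 3, 1, 3, 1], 6, false),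
      ([0, 3, 0, 2, 0, 2, 0, 2, 0, 2, 1, 2, 2, 1, 2, 1, 3, 3, 0, 3, 1, 2, 1, 3, 1, 3, 1, 2, 1, 3, 0, 3, 0, 2, 0, 2, 0, 3, 0, 2, 1, 2, 2, 0, 3, 0, 3, 3, 0, 3, 1, 3, 1, 3, 3, 0, 2, 0, 3, 1, 3, 3, 0, 0, 2, 0, 2, 0, 3, 0, 2, 0, 2, 0, 3, 0, 2, 0, 2, 0, 3, 0, 2, 0, 3, 0, 3, 0, 2, 2], 1, true),
      ([0, 3, 0, 2, 0, 2, 0, 2, 0, 2, 1, 2, 2, 1, 2, 1, 3, 3, 0, 3, 1, 2, 1, 3, 1, 3, 1, 2, 1, 3, 0, 3, 0, 2, 0, 2, 0, 3, 0, 2, 1, 2, 2, 0, 3, 0, 3, 3, 0, 3, 1, 3, 1, 3, 3, 0, 2, 0, 3, 1, 3, 3, 0, 0, 2, 0, 2, 0, 3, 0, 2, 0], 0, true),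
      ([0, 3, 0, 2, 0, 2, 0, 2, 0, 2, 1, 2, 2, 1, 2, 1, 3, 3, 0, 3, 1, 2, 1, 3, 1, 3, 1, 2, 1, 3, 0, 3, 0, 2, 0, 2, 0, 3, 0, 2, 1, 2, 2, 0, 3, 0, 3, 3, 0, 3, 1, 3, 1, 3, 3, 0, 2, 0, 3, 1, 3, 3, 0, 0], 0, true),
      ([0, 3, 0, 2, 0, 2, 0, 2, 0, 2, 1, 2, 2, 1, 2, 1, 3, 3, 0, 3, 1, 2, 1, 3, 1, 3, 1, 2, 1, 3, 0, 3, 0, 2, 0, 2, 0, 3, 0, 2, 1, 2, 2, 0, 3, 0, 3, 3, 0, 3, 1, 3, 1, 3, 3, 0, 2, 0, 3, 1, 3, 0, 2, 0], 0, true),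
      ([0, 3, 0, 2, 0, 2, 0, 2, 0, 2, 1, 2, 2, 1, 2, 1, 3, 3, 0, 3, 1, 2, 1, 3, 1, 3, 1, 2, 1, 3, 0, 3, 0, 2, 0, 2, 0, 3, 0, 2, 1, 2, 2, 0, 3, 0, 3, 3, 0, 3, 1, 3, 1, 3, 3, 0, 2, 0, 3, 1, 3, 0, 2, 1, 3, 0, 0], 0, true),
      ([0, 3, 0, 2, 0, 2, 0, 2, 0, 2, 1, 2, 2, 1, 2, 1, 3, 3, 0, 3, 1, 2, 1, 3, 1, 3, 1, 2, 1, 3, 0, 3, 0, 2, 0, 2, 0, 3, 0, 2, 1, 2, 2, 0, 3, 0, 3, 3, 0, 3, 1, 3, 1, 3, 3, 0, 2, 0, 3, 1, 3, 0], 0, true),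
      ([0, 3, 0, 2, 0, 2, 0, 2, 0, 2, 1, 2, 2, 1, 2, 1, 3, 3, 0, 3, 1, 2, 1, 3, 1, 3, 1, 2, 1, 3, 0, 3, 0, 2, 0, 2, 0, 3, 0, 2, 1, 2, 2, 0, 3, 0, 3, 3, 0, 3, 1, 3, 1, 3, 3, 0, 2, 0, 3, 1, 3, 1, 2, 1, 3, 1, 2, 1, 2, 0, 3, 0, 2, 0, 2, 0, 3, 0, 2, 0, 3, 0, 3, 0, 3, 3, 0, 3, 0, 3, 0], 0, true),
      ([0, 3, 0, 2, 0, 2, 0, 2, 0, 2, 1, 2, 2, 1, 2, 1, 3, 3, 0, 3, 1, 2, 1, 3, 1, 3, 1, 2, 1, 3, 0, 3, 0, 2, 0, 2, 0, 3, 0, 2, 1, 2, 2, 0, 3, 0, 3, 3, 0, 3, 1, 3, 1, 3, 3, 0, 2, 0, 3, 1, 3, 1, 2, 1, 3, 1, 2, 1, 2, 0, 3, 0, 2, 0, 2, 0, 3, 0, 2, 0, 0], 0, true),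
      ([0, 3, 0, 2, 0, 2, 0, 2, 0, 2, 1, 2, 2, 1, 2, 1, 3, 3, 0, 3, 1, 2, 1, 3, 1, 3, 1, 2, 1, 3, 0, 3, 0, 2, 0, 2, 0, 3, 0, 2, 1, 2, 2, 0, 3, 0, 3, 3, 0, 3, 1, 3, 1, 3, 3, 0, 2, 0, 3, 1, 3, 1, 2, 1, 3, 1, 2, 1, 2, 0, 3, 0, 2, 0, 2, 0, 3, 0, 2, 1], 1, false),
      ([0, 3, 0, 2, 0, 2, 0, 2, 0, 2, 1, 2, 2, 1, 2, 1, 3, 3, 0, 3, 1, 2, 1, 3, 1, 3, 1, 2, 1, 3, 0, 3, 0, 2, 0, 2, 0, 3, 0, 2, 1, 2, 2, 0, 3, 0, 3, 3, 0, 3, 1, 3, 1, 3, 3, 0, 2, 0, 3, 1, 3, 1, 2, 1, 3, 1, 2, 1, 2, 0, 3, 0, 2, 0, 2, 0, 3, 0, 2, 1, 2, 2, 0, 3, 0, 3, 3, 0, 3, 0, 0], 0, true),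
      ([0, 3, 0, 2, 0, 2, 0, 2, 0, 2, 1, 2, 2, 1, 2, 1, 3, 3, 0, 3, 1, 2, 1, 3, 1, 3, 1, 2, 1, 3, 0, 3, 0, 2, 0, 2, 0, 3, 0, 2, 1, 2, 2, 0, 3, 0, 3, 3, 0, 3, 1, 3, 1, 3, 3, 0, 2, 0, 3, 1, 3, 1, 2, 1, 3, 1, 2, 1, 2, 0, 3, 0, 2, 0, 2, 0, 3, 0, 2, 1, 2, 2, 0, 3, 0, 3, 3, 0, 3, 1, 3, 1, 2], 1, true)]

/-- The conjugates of relators behind relator 19. -/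
def fivePrf19 : List (List ℕ × ℕ × Bool) :=
  [([0, 3, 0, 2, 0, 3, 0, 2, 0, 3, 1, 3, 1, 3, 1, 2, 1, 2, 1, 3, 1, 2, 1, 2, 1, 3, 1, 2, 1, 3, 1, 3, 1, 2, 1, 3, 1, 3, 1, 2, 1, 3, 1, 3, 1], 6, false),
      ([0, 3, 0, 2, 0, 3, 0, 2, 0, 3, 1, 3, 3, 0, 3, 0, 2, 0, 2, 0, 3, 0, 2, 0, 2, 0, 3, 0, 2, 0, 2, 0, 3, 0, 2, 0, 3, 0, 3, 0, 2, 2], 1, true),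
      ([0, 3, 0, 2, 0, 3, 0, 2, 0, 3, 1, 3, 3, 0, 3, 0, 2, 0, 2, 0, 3, 0, 2, 0], 0, true),
      ([0, 3, 0, 2, 0, 3, 0, 2, 0, 3, 1, 3, 3, 0, 3, 0], 0, true),
      ([0, 3, 0, 2, 0, 3, 0, 2, 0, 3, 1, 3, 3, 0, 3, 1, 2, 0, 2, 0], 0, true),
      ([0, 3, 0, 2, 0, 3, 0, 2, 0, 3, 1, 3, 3, 0, 3, 1, 2, 0, 2, 1, 3, 0, 0], 0, true),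
      ([0, 3, 0, 2, 0, 3, 0, 2, 0, 3, 1, 3, 3, 0, 3, 1, 2, 0], 0, true),
      ([0, 3, 0, 2, 0, 3, 0, 2, 0, 3, 1, 3, 3, 0, 3, 1, 2, 1, 2, 1, 3, 1, 2, 1, 2, 0, 3, 0, 2, 0, 2, 0, 3, 0, 2, 0, 3, 0, 3, 0, 3, 3, 0, 3, 0, 3, 0], 0, true),
      ([0, 3, 0, 2, 0, 3, 0, 2, 0, 3, 1, 3, 3, 0, 3, 1, 2, 1, 2, 1, 3, 1, 2, 1, 2, 0, 3, 0, 2, 0, 2, 0, 3, 0, 2, 0, 0], 0, true),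
      ([0, 3, 0, 2, 0, 3, 0, 2, 0, 3, 1, 3, 3, 0, 3, 1, 2, 1, 2, 1, 3, 1, 2, 1, 2, 0, 3, 0, 2, 0, 2, 0, 3, 0, 2, 1], 1, false),
      ([0, 3, 0, 2, 0, 3, 0, 2, 0, 3, 1, 3, 3, 0, 3, 1, 2, 1, 2, 1, 3, 1, 2, 1, 2, 0, 3, 0, 2, 0, 2, 0, 3, 0, 2, 1, 2, 2, 0, 3, 0, 3, 3, 0, 3, 0, 0], 0, true),
      ([0, 3, 0, 2, 0, 3, 0, 2, 0, 3, 1, 3, 3, 0, 3, 1, 2, 1, 2, 1, 3, 1, 2, 1, 2, 0, 3, 0, 2, 0, 2, 0, 3, 0, 2, 1, 2, 2, 0, 3, 0, 3, 3, 0, 3, 1, 3, 1, 2], 1, true),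
      ([0, 2, 0, 2, 1, 3, 1, 2, 2, 0, 3, 0, 2, 0, 2, 0, 3, 0, 2, 1, 2, 2, 0, 3, 0, 3, 3, 0, 3, 1, 3, 1, 3, 3, 3, 1, 2, 1, 2, 1, 3, 1, 2, 1, 2, 1, 3, 1, 2, 1, 3, 1, 3, 1, 2, 1, 3, 1, 3, 1, 2, 1, 3, 1, 3, 1], 6, false),
      ([0, 2, 0, 2, 1, 3, 1, 2, 2, 0, 3, 0, 2, 0, 2, 0, 3, 0, 2, 1, 2, 2, 0, 3, 0, 3, 3, 0, 3, 1, 3, 1, 3, 3, 0, 3, 0, 3, 0, 2, 0, 2, 0, 3, 0, 2, 0, 2, 0, 3, 0, 2, 0, 2, 0, 3, 0, 2, 0, 3, 0, 3, 0, 2, 2], 1, true),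
      ([0, 2, 0, 2, 1, 3, 1, 2, 2, 0, 3, 0, 2, 0, 2, 0, 3, 0, 2, 1, 2, 2, 0, 3, 0, 3, 3, 0, 3, 1, 3, 1, 3, 3, 0, 3, 0, 3, 0, 2, 0, 2, 0, 3, 0, 2, 0], 0, true),
      ([0, 2, 0, 2, 1, 3, 1, 2, 2, 0, 3, 0, 2, 0, 2, 0, 3, 0, 2, 1, 2, 2, 0, 3, 0, 3, 3, 0, 3, 1, 3, 1, 3, 3, 0, 3, 0, 3, 0], 0, true),
      ([0, 2, 0, 2, 1, 3, 1, 2, 2, 0, 3, 0, 2, 0, 2, 0, 3, 0, 2, 1, 2, 2, 0, 3, 0, 3, 3, 0, 3, 1, 3, 1, 3, 3, 0, 3, 0, 3, 1, 2, 0, 2, 0], 0, true),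
      ([0, 2, 0, 2, 1, 3, 1, 2, 2, 0, 3, 0, 2, 0, 2, 0, 3, 0, 2, 1, 2, 2, 0, 3, 0, 3, 3, 0, 3, 1, 3, 1, 3, 3, 0, 3, 0, 3, 1, 2, 0, 2, 1, 3, 0, 0], 0, true),
      ([0, 2, 0, 2, 1, 3, 1, 2, 2, 0, 3, 0, 2, 0, 2, 0, 3, 0, 2, 1, 2, 2, 0, 3, 0, 3, 3, 0, 3, 1, 3, 1, 3, 3, 0, 3, 0, 3, 1, 2, 0], 0, true),
      ([0, 2, 0, 2, 1, 3, 1, 2, 2, 0, 3, 0, 2, 0, 2, 0, 3, 0, 2, 1, 2, 2, 0, 3, 0, 3, 3, 0, 3, 1, 3, 1, 3, 3, 0, 3, 0, 3, 1, 2, 1, 2, 1, 3, 1, 2, 1, 2, 0, 3, 0, 2, 0, 2, 0, 3, 0, 2, 0, 3, 0, 3, 0, 3, 3, 0, 3, 0, 3, 0], 0, true),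
      ([0, 2, 0, 2, 1, 3, 1, 2, 2, 0, 3, 0, 2, 0, 2, 0, 3, 0, 2, 1, 2, 2, 0, 3, 0, 3, 3, 0, 3, 1, 3, 1, 3, 3, 0, 3, 0, 3, 1, 2, 1, 2, 1, 3, 1, 2, 1, 2, 0, 3, 0, 2, 0, 2, 0, 3, 0, 2, 0, 0], 0, true),
      ([0, 2, 0, 2, 1, 3, 1, 2, 2, 0, 3, 0, 2, 0, 2, 0, 3, 0, 2, 1, 2, 2, 0, 3, 0, 3, 3, 0, 3, 1, 3, 1, 3, 3, 0, 3, 0, 3, 1, 2, 1, 2, 1, 3, 1, 2, 1, 2, 0, 3, 0, 2, 0, 2, 0, 3, 0, 2, 1], 1, false),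
      ([0, 2, 0, 2, 1, 3, 1, 2, 2, 0, 3, 0, 2, 0, 2, 0, 3, 0, 2, 1, 2, 2, 0, 3, 0, 3, 3, 0, 3, 1, 3, 1, 3, 3, 0, 3, 0, 3, 1, 2, 1, 2, 1, 3, 1, 2, 1, 2, 0, 3, 0, 2, 0, 2, 0, 3, 0, 2, 1, 2, 2, 0, 3, 0, 3, 3, 0, 3, 0, 0], 0, true),
      ([0, 2, 0, 2, 1, 3, 1, 2, 2, 0, 3, 0, 2, 0, 2, 0, 3, 0, 2, 1, 2, 2, 0, 3, 0, 3, 3, 0, 3, 1, 3, 1, 3, 3, 0, 3, 0, 3, 1, 2, 1, 2, 1, 3, 1, 2, 1, 2, 0, 3, 0, 2, 0, 2, 0, 3, 0, 2, 1, 2, 2, 0, 3, 0, 3, 3, 0, 3, 1, 3, 1, 2], 1, true),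
      ([0, 2, 0, 2, 1, 3, 1, 2, 2, 0, 3, 0, 2, 0, 2, 0, 3, 0, 2, 1, 2, 2, 0, 3, 0, 3, 3, 0, 3, 1, 3, 1, 3, 3, 0, 3, 0, 3, 1, 2, 1, 2, 1, 3, 1, 2, 1, 3, 0, 2, 0, 3, 1, 3, 3, 0, 2, 0, 3, 0, 2, 0, 3, 1, 3, 3, 0, 3, 1, 2, 0], 0, false),
      ([0, 2, 0, 2, 1, 3, 1, 2, 2, 0, 3, 0, 2, 0, 2, 0, 3, 0, 2, 1, 2, 2, 0, 3, 0, 3, 3, 0, 3, 1, 3, 1, 3, 3, 0, 3, 0, 3, 1, 2, 0], 0, false),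
      ([0, 2, 0, 2, 1, 3, 1, 2, 2, 0, 3, 0, 2, 0, 2, 0, 3, 0, 2, 1, 2, 2, 0, 3, 0, 3, 3, 0, 3, 1, 3, 1, 3, 3, 0, 3, 0, 3, 1, 2, 0, 2, 1, 3, 1, 2, 1, 3, 0, 2, 0, 3, 1, 3, 3, 0, 2, 0, 3, 0, 2, 0, 3, 1, 3, 3, 0, 3, 1, 2, 0, 2, 1, 3, 1, 2, 1, 3, 0, 2, 0, 3, 1, 2, 2, 2], 1, false),
      ([0, 2, 0, 2, 1, 3, 1, 2, 2, 0, 3, 0, 2, 0, 2, 0, 3, 0, 2, 1, 2, 2, 0, 3, 0, 3, 3, 0, 3, 1, 3, 1, 3, 3, 0, 3, 0, 3, 1, 2, 0, 2, 1, 3, 1, 2, 1, 3, 0, 2, 0, 3, 1, 2, 2, 2], 1, false),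
      ([0, 2, 0, 2, 1, 3, 1, 2, 2, 0, 3, 0, 2, 0, 2, 0, 3, 0, 2, 1, 2, 2, 0, 3, 0, 3, 3, 0, 3, 1, 3, 1, 3, 3, 0, 3, 0, 3, 1, 2, 0, 2, 1, 3, 1, 2, 1, 3, 0, 2, 0, 3, 1, 2, 0, 2, 0, 3, 0, 2, 0, 3, 1, 3, 3, 0, 3, 1, 2, 0, 2, 1, 3, 0, 0], 0, false),
      ([0, 2, 0, 2, 1, 3, 1, 2, 2, 0, 3, 0, 2, 0, 2, 0, 3, 0, 2, 1, 2, 2, 0, 3, 0, 3, 3, 0, 3, 1, 3, 1, 3, 3, 0, 3, 0, 3, 1, 2, 0, 2, 1, 3, 0, 0], 0, false),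
      ([0, 2, 0, 2, 1, 3, 1, 2, 2, 0, 3, 0, 2, 0, 2, 0, 3, 0, 2, 1, 2, 2, 0, 3, 0, 3, 3, 0, 3, 1, 3, 1, 3, 3, 0, 3, 0, 3, 1, 2, 0, 2, 1, 3, 0, 2, 1, 3, 0, 2, 0, 3, 1, 2, 0, 2, 0, 3, 0, 2, 0, 3, 1, 3, 3, 0, 3, 1, 2, 0, 2, 0], 0, false),
      ([0, 2, 0, 2, 1, 3, 1, 2, 2, 0, 3, 0, 2, 0, 2, 0, 3, 0, 2, 1, 2, 2, 0, 3, 0, 3, 3, 0, 3, 1, 3, 1, 3, 3, 0, 3, 0, 3, 1, 2, 0, 2, 0], 0, false),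
      ([0, 2, 0, 2, 1, 3, 1, 2, 2, 0, 3, 0, 2, 0, 2, 0, 3, 0, 2, 1, 2, 2, 0, 3, 0, 3, 3, 0, 3, 1, 3, 1, 3, 3, 0, 3, 0, 3, 1, 2, 0, 2, 0, 3, 0, 2, 1, 3, 0, 2, 0, 3, 1, 2, 0, 2, 0, 3, 0, 2, 0, 3, 1, 3, 3, 0, 3, 0], 0, false),
      ([0, 2, 0, 2, 1, 3, 1, 2, 2, 0, 3, 0, 2, 0, 2, 0, 3, 0, 2, 1, 2, 2, 0, 3, 0, 3, 3, 0, 3, 1, 3, 1, 3, 3, 0, 3, 0, 3, 0], 0, false),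
      ([0, 2, 0, 2, 1, 3, 1, 2, 2, 0, 3, 0, 2, 0, 2, 0, 3, 0, 2, 1, 2, 2, 0, 3, 0, 3, 3, 0, 3, 1, 3, 1, 3, 3, 0, 3, 0, 3, 0, 2, 0, 2, 0, 3, 0, 2, 1, 3, 0, 2, 0, 3, 1, 2, 0, 2, 0, 3, 0, 2, 0, 3, 1, 3, 3, 0, 3, 0, 2, 0, 2, 0, 3, 0, 2, 1, 3, 0, 2, 0, 3, 0, 0], 0, false),
      ([0, 2, 0, 2, 1, 3, 1, 2, 2, 0, 3, 0, 2, 0, 2, 0, 3, 0, 2, 1, 2, 2, 0, 3, 0, 3, 3, 0, 3, 1, 3, 1, 3, 3, 0, 3, 0, 3, 0, 2, 0, 2, 0, 3, 0, 2, 1, 3, 0, 2, 0, 3, 0, 0], 0, false),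
      ([0, 2, 0, 2, 1, 3, 1, 2, 2, 0, 3, 0, 2, 0, 2, 0, 3, 0, 2, 1, 2, 2, 0, 3, 0, 3, 3, 0, 3, 1, 3, 1, 3, 3, 0, 3, 0, 3, 0, 2, 0, 2, 0, 3, 0, 2, 1, 3, 0, 2, 0, 3, 0, 2, 0, 2, 0, 3, 0, 2, 0, 3, 1, 3, 3, 0, 3, 0, 2, 0, 2, 0, 3, 0, 2, 0], 0, false),
      ([0, 2, 0, 2, 1, 3, 1, 2, 2, 0, 3, 0, 2, 0, 2, 0, 3, 0, 2, 1, 2, 2, 0, 3, 0, 3, 3, 0, 3, 1, 3, 1, 3, 3, 0, 3, 0, 3, 0, 2, 0, 2, 0, 3, 0, 2, 0], 0, false),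
      ([0, 2, 0, 2, 1, 3, 1, 2, 2, 0, 3, 0, 2, 0, 2, 0, 3, 0, 2, 1, 2, 2, 0, 3, 0, 3, 3, 0, 3, 1, 3, 1, 3, 3, 0, 3, 0, 3, 0, 2, 0, 2, 0, 3, 0, 2, 0, 3, 0, 2, 0, 3, 0, 2, 0, 2, 0, 3, 0, 2, 0, 3, 1, 3, 3, 0, 3, 0, 2, 0, 2, 0, 3, 0, 2, 0, 3, 0, 2, 0, 3, 0, 2, 0, 2, 0, 3, 0, 2, 0, 3, 0], 0, false),
      ([0, 2, 0, 2, 1, 3, 1, 2, 2, 0, 3, 0, 2, 0, 2, 0, 3, 0, 2, 1, 2, 2, 0, 3, 0, 3, 3, 0, 3, 1, 3, 1, 3, 3, 0, 3, 0, 3, 0, 2, 0, 2, 0, 3, 0, 2, 0, 3, 0, 2, 0, 3, 0, 2, 0, 2, 0, 3, 0, 2, 0, 3, 0], 0, false),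
      ([0, 2, 0, 2, 1, 3, 1, 2, 2, 0, 3, 0, 2, 0, 2, 0, 3, 0, 2, 1, 2, 2, 0, 3, 0, 3, 3, 0, 3, 1, 3, 1, 3, 3, 0, 3, 0, 3, 0, 2, 0, 2, 0, 3, 0, 2, 0, 3, 0, 2, 0, 3, 0, 2, 0, 2, 0, 3, 0, 2, 0, 3, 0, 3, 3, 0, 3, 0, 2, 0, 2, 0, 3, 0, 2, 0, 3, 0, 2, 0, 3, 0, 2, 0, 2, 0, 3, 0, 2, 0, 3, 0, 2, 2, 2], 1, false),
      ([0, 2, 0, 2, 1, 3, 1, 2, 2, 0, 3, 0, 2, 0, 2, 0, 3, 0, 2, 1, 2, 2, 0, 3, 0, 3, 3, 0, 3, 1, 3, 1, 3, 3, 0, 3, 0, 3, 0, 2, 0, 2, 0, 3, 0, 2, 0, 3, 0, 2, 0, 3, 0, 2, 0, 2, 0, 3, 0, 2, 0, 3, 0, 2, 2, 2], 1, false),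
      ([0, 2, 0, 2, 1, 3, 1, 2, 2, 0, 3, 0, 2, 0, 2, 0, 3, 0, 2, 1, 2, 2, 0, 3, 0, 3, 3, 0, 3, 1, 3, 1, 3, 3, 0, 3, 3, 1, 2, 1, 3, 1, 2, 1, 3, 1, 3, 1], 5, true)]

/-- The conjugates of relators behind relator 20. -/
def fivePrf20 : List (List ℕ × ℕ × Bool) :=
  [([0, 3, 0, 2, 0, 3, 0, 2, 0, 3, 1, 3, 1, 3, 1, 2, 1, 2, 1, 3, 1, 2, 1, 2, 1, 3, 1, 2, 1, 3, 1, 3, 1, 2, 1, 3, 1, 3, 1, 2, 1, 3, 1, 3, 1], 6, false),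
      ([0, 3, 0, 2, 0, 3, 0, 2, 0, 3, 1, 3, 3, 0, 3, 0, 2, 0, 2, 0, 3, 0, 2, 0, 2, 0, 3, 0, 2, 0, 2, 0, 3, 0, 2, 0, 3, 0, 3, 0, 2, 2], 1, true),
      ([0, 3, 0, 2, 0, 3, 0, 2, 0, 3, 1, 3, 3, 0, 3, 0, 2, 0, 2, 0, 3, 0, 2, 0], 0, true),
      ([0, 3, 0, 2, 0, 3, 0, 2, 0, 3, 1, 3, 3, 0, 3, 0], 0, true),
      ([0, 3, 0, 2, 0, 3, 0, 2, 0, 3, 1, 3, 3, 0, 3, 1, 2, 0, 2, 0], 0, true),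
      ([0, 3, 0, 2, 0, 3, 0, 2, 0, 3, 1, 3, 3, 0, 3, 1, 2, 0, 2, 1, 3, 0, 0], 0, true),
      ([0, 3, 0, 2, 0, 3, 0, 2, 0, 3, 1, 3, 3, 0, 3, 1, 2, 0], 0, true),
      ([0, 3, 0, 2, 0, 3, 0, 2, 0, 3, 1, 3, 3, 0, 3, 1, 2, 1, 2, 1, 3, 1, 2, 1, 2, 0, 3, 0, 2, 0, 2, 0, 3, 0, 2, 0, 3, 0, 3, 0, 3, 3, 0, 3, 0, 3, 0], 0, true),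
      ([0, 3, 0, 2, 0, 3, 0, 2, 0, 3, 1, 3, 3, 0, 3, 1, 2, 1, 2, 1, 3, 1, 2, 1, 2, 0, 3, 0, 2, 0, 2, 0, 3, 0, 2, 0, 0], 0, true),
      ([0, 3, 0, 2, 0, 3, 0, 2, 0, 3, 1, 3, 3, 0, 3, 1, 2, 1, 2, 1, 3, 1, 2, 1, 2, 0, 3, 0, 2, 0, 2, 0, 3, 0, 2, 1], 1, false),
      ([0, 3, 0, 2, 0, 3, 0, 2, 0, 3, 1, 3, 3, 0, 3, 1, 2, 1, 2, 1, 3, 1, 2, 1, 2, 0, 3, 0, 2, 0, 2, 0, 3, 0, 2, 1, 2, 2, 0, 3, 0, 3, 3, 0, 3, 0, 0], 0, true),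
      ([0, 3, 0, 2, 0, 3, 0, 2, 0, 3, 1, 3, 3, 0, 3, 1, 2, 1, 2, 1, 3, 1, 2, 1, 2, 0, 3, 0, 2, 0, 2, 0, 3, 0, 2, 1, 2, 2, 0, 3, 0, 3, 3, 0, 3, 1, 3, 1, 2], 1, true),
      ([2, 0, 3, 0, 2, 0, 3, 0, 2, 0, 3, 1, 3, 1, 2, 1, 3, 1, 2, 1, 2, 0, 3, 0, 2, 0, 2, 0, 3, 0, 2, 1, 2, 2, 0, 3, 0, 3, 3, 0, 3, 1, 3, 1, 3, 3, 3, 1, 2, 1, 2, 1, 3, 1, 2, 1, 2, 1, 3, 1, 2, 1, 3, 1, 3, 1, 2, 1, 3, 1, 3, 1, 2, 1, 3, 1, 3, 1], 6, false),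
      ([2, 0, 3, 0, 2, 0, 3, 0, 2, 0, 3, 1, 3, 1, 2, 1, 3, 1, 2, 1, 2, 0, 3, 0, 2, 0, 2, 0, 3, 0, 2, 1, 2, 2, 0, 3, 0, 3, 3, 0, 3, 1, 3, 1, 3, 3, 0, 3, 0, 3, 0, 2, 0, 2, 0, 3, 0, 2, 0, 2, 0, 3, 0, 2, 0, 2, 0, 3, 0, 2, 0, 3, 0, 3, 0, 2, 2], 1, true),
      ([2, 0, 3, 0, 2, 0, 3, 0, 2, 0, 3, 1, 3, 1, 2, 1, 3, 1, 2, 1, 2, 0, 3, 0, 2, 0, 2, 0, 3, 0, 2, 1, 2, 2, 0, 3, 0, 3, 3, 0, 3, 1, 3, 1, 3, 3, 0, 3, 0, 3, 0, 2, 0, 2, 0, 3, 0, 2, 0], 0, true),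
      ([2, 0, 3, 0, 2, 0, 3, 0, 2, 0, 3, 1, 3, 1, 2, 1, 3, 1, 2, 1, 2, 0, 3, 0, 2, 0, 2, 0, 3, 0, 2, 1, 2, 2, 0, 3, 0, 3, 3, 0, 3, 1, 3, 1, 3, 3, 0, 3, 0, 3, 0], 0, true),
      ([2, 0, 3, 0, 2, 0, 3, 0, 2, 0, 3, 1, 3, 1, 2, 1, 3, 1, 2, 1, 2, 0, 3, 0, 2, 0, 2, 0, 3, 0, 2, 1, 2, 2, 0, 3, 0, 3, 3, 0, 3, 1, 3, 1, 3, 3, 0, 3, 0, 3, 1, 2, 0, 2, 0], 0, true),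
      ([2, 0, 3, 0, 2, 0, 3, 0, 2, 0, 3, 1, 3, 1, 2, 1, 3, 1, 2, 1, 2, 0, 3, 0, 2, 0, 2, 0, 3, 0, 2, 1, 2, 2, 0, 3, 0, 3, 3, 0, 3, 1, 3, 1, 3, 3, 0, 3, 0, 3, 1, 2, 0, 2, 1, 3, 0, 0], 0, true),
      ([2, 0, 3, 0, 2, 0, 3, 0, 2, 0, 3, 1, 3, 1, 2, 1, 3, 1, 2, 1, 2, 0, 3, 0, 2, 0, 2, 0, 3, 0, 2, 1, 2, 2, 0, 3, 0, 3, 3, 0, 3, 1, 3, 1, 3, 3, 0, 3, 0, 3, 1, 2, 0], 0, true),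
      ([2, 0, 3, 0, 2, 0, 3, 0, 2, 0, 3, 1, 3, 1, 2, 1, 3, 1, 2, 1, 2, 0, 3, 0, 2, 0, 2, 0, 3, 0, 2, 1, 2, 2, 0, 3, 0, 3, 3, 0, 3, 1, 3, 1, 3, 3, 0, 3, 0, 3, 1, 2, 1, 2, 1, 3, 1, 2, 1, 2, 0, 3, 0, 2, 0, 2, 0, 3, 0, 2, 0, 3, 0, 3, 0, 3, 3, 0, 3, 0, 3, 0], 0, true),
      ([2, 0, 3, 0, 2, 0, 3, 0, 2, 0, 3, 1, 3, 1, 2, 1, 3, 1, 2, 1, 2, 0, 3, 0, 2, 0, 2, 0, 3, 0, 2, 1, 2, 2, 0, 3, 0, 3, 3, 0, 3, 1, 3, 1, 3, 3, 0, 3, 0, 3, 1, 2, 1, 2, 1, 3, 1, 2, 1, 2, 0, 3, 0, 2, 0, 2, 0, 3, 0, 2, 0, 0], 0, true),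
      ([2, 0, 3, 0, 2, 0, 3, 0, 2, 0, 3, 1, 3, 1, 2, 1, 3, 1, 2, 1, 2, 0, 3, 0, 2, 0, 2, 0, 3, 0, 2, 1, 2, 2, 0, 3, 0, 3, 3, 0, 3, 1, 3, 1, 3, 3, 0, 3, 0, 3, 1, 2, 1, 2, 1, 3, 1, 2, 1, 2, 0, 3, 0, 2, 0, 2, 0, 3, 0, 2, 1], 1, false),
      ([2, 0, 3, 0, 2, 0, 3, 0, 2, 0, 3, 1, 3, 1, 2, 1, 3, 1, 2, 1, 2, 0, 3, 0, 2, 0, 2, 0, 3, 0, 2, 1, 2, 2, 0, 3, 0, 3, 3, 0, 3, 1, 3, 1, 3, 3, 0, 3, 0, 3, 1, 2, 1, 2, 1, 3, 1, 2, 1, 2, 0, 3, 0, 2, 0, 2, 0, 3, 0, 2, 1, 2, 2, 0, 3, 0, 3, 3, 0, 3, 0, 0], 0, true),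
      ([2, 0, 3, 0, 2, 0, 3, 0, 2, 0, 3, 1, 3, 1, 2, 1, 3, 1, 2, 1, 2, 0, 3, 0, 2, 0, 2, 0, 3, 0, 2, 1, 2, 2, 0, 3, 0, 3, 3, 0, 3, 1, 3, 1, 3, 3, 0, 3, 0, 3, 1, 2, 1, 2, 1, 3, 1, 2, 1, 2, 0, 3, 0, 2, 0, 2, 0, 3, 0, 2, 1, 2, 2, 0, 3, 0, 3, 3, 0, 3, 1, 3, 1, 2], 1, true),
      ([2, 0, 3, 0, 2, 0, 3, 0, 2, 0, 3, 1, 3, 1, 2, 1, 3, 1, 2, 1, 2, 0, 3, 0, 2, 0, 2, 0, 3, 0, 2, 1, 2, 2, 0, 3, 0, 3, 3, 0, 3, 1, 3, 1, 3, 3, 0, 3, 0, 3, 1, 2, 2, 0, 2, 1, 3, 1, 2, 1, 3, 1, 2, 1, 3, 0, 3, 0, 2, 0, 3, 0, 2, 0, 3, 1, 3, 3, 0, 3, 1, 2, 2, 0, 2, 1, 3, 1, 2, 1, 3, 1, 2, 1, 3, 0, 3, 0, 2, 0, 3], 0, true),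
      ([2, 0, 3, 0, 2, 0, 3, 0, 2, 0, 3, 1, 3, 1, 2, 1, 3, 1, 2, 1, 2, 0, 3, 0, 2, 0, 2, 0, 3, 0, 2, 1, 2, 2, 0, 3, 0, 3, 3, 0, 3, 1, 3, 1, 3, 3, 0, 3, 0, 3, 1, 2, 2, 0, 2, 1, 3, 1, 2, 1, 3, 1, 2, 1, 3, 0, 3, 0, 2, 0, 3], 0, true),
      ([2, 0, 3, 0, 2, 0, 3, 0, 2, 0, 3, 1, 3, 1, 2, 1, 3, 1, 2, 1, 2, 0, 3, 0, 2, 0, 2, 0, 3, 0, 2, 1, 2, 2, 0, 3, 0, 3, 3, 0, 3, 1, 3, 1, 3, 3, 0, 3, 0, 3, 1, 2, 2, 0, 2, 1, 3, 1, 2, 1, 3, 1, 2, 1, 3, 0, 3, 0, 2, 0, 3, 1, 2, 0, 3, 1, 3, 3, 0, 3, 1, 2, 2, 0, 2, 1, 3, 1, 2, 1, 3, 1, 2, 1, 3, 0, 3, 0], 0, true),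
      ([2, 0, 3, 0, 2, 0, 3, 0, 2, 0, 3, 1, 3, 1, 2, 1, 3, 1, 2, 1, 2, 0, 3, 0, 2, 0, 2, 0, 3, 0, 2, 1, 2, 2, 0, 3, 0, 3, 3, 0, 3, 1, 3, 1, 3, 3, 0, 3, 0, 3, 1, 2, 2, 0, 2, 1, 3, 1, 2, 1, 3, 1, 2, 1, 3, 0, 3, 0], 0, true),
      ([2, 0, 3, 0, 2, 0, 3, 0, 2, 0, 3, 1, 3, 1, 2, 1, 3, 1, 2, 1, 2, 0, 3, 0, 2, 0, 2, 0, 3, 0, 2, 1, 2, 2, 0, 3, 0, 3, 3, 0, 3, 1, 3, 1, 3, 3, 0, 3, 0, 3, 1, 2, 2, 0, 2, 1, 3, 1, 2, 1, 3, 1, 2, 1, 3, 0, 3, 1, 2, 0, 3, 1, 2, 0, 3, 1, 3, 3, 0, 3, 1, 2, 2, 0, 2, 1, 3, 1, 2, 1, 3, 1, 2, 1, 3, 0, 3, 1, 2], 0, true),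
      ([2, 0, 3, 0, 2, 0, 3, 0, 2, 0, 3, 1, 3, 1, 2, 1, 3, 1, 2, 1, 2, 0, 3, 0, 2, 0, 2, 0, 3, 0, 2, 1, 2, 2, 0, 3, 0, 3, 3, 0, 3, 1, 3, 1, 3, 3, 0, 3, 0, 3, 1, 2, 2, 0, 2, 1, 3, 1, 2, 1, 3, 1, 2, 1, 3, 0, 3, 1, 2], 0, true),
      ([2, 0, 3, 0, 2, 0, 3, 0, 2, 0, 3, 1, 3, 1, 2, 1, 3, 1, 2, 1, 2, 0, 3, 0, 2, 0, 2, 0, 3, 0, 2, 1, 2, 2, 0, 3, 0, 3, 3, 0, 3, 1, 3, 1, 3, 3, 0, 3, 0, 3, 1, 2, 2, 0, 2, 1, 3, 1, 2, 1, 3, 1, 2, 1, 3, 0, 3, 1, 2, 1, 3, 1, 2, 0, 3, 1, 3, 3, 0, 3, 1, 2, 2, 0, 2, 1, 3, 1, 2, 1, 3, 1, 2, 1, 3, 0, 3, 1, 2, 1, 3, 1, 2, 0, 3, 1, 3, 3], 0, true),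
      ([2, 0, 3, 0, 2, 0, 3, 0, 2, 0, 3, 1, 3, 1, 2, 1, 3, 1, 2, 1, 2, 0, 3, 0, 2, 0, 2, 0, 3, 0, 2, 1, 2, 2, 0, 3, 0, 3, 3, 0, 3, 1, 3, 1, 3, 3, 0, 3, 0, 3, 1, 2, 2, 0, 2, 1, 3, 1, 2, 1, 3, 1, 2, 1, 3, 0, 3, 1, 2, 1, 3, 1, 2, 0, 3, 1, 3, 3], 0, true),
      ([2, 0, 3, 0, 2, 0, 3, 0, 2, 0, 3, 1, 3, 1, 2, 1, 3, 1, 2, 1, 2, 0, 3, 0, 2, 0, 2, 0, 3, 0, 2, 1, 2, 2, 0, 3, 0, 3, 3, 0, 3, 1, 3, 1, 3, 3, 0, 3, 0, 3, 1, 2, 2, 0, 2, 1, 3, 1, 2, 1, 3, 1, 2, 1, 3, 0, 3, 1, 2, 1, 3, 1, 2, 0, 3, 1, 3, 3, 1, 3, 1, 2, 2, 0, 2, 1, 3, 1, 2, 1, 3, 1, 2, 1, 3], 0, true),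
      ([2, 0, 3, 0, 2, 0, 3, 0, 2, 0, 3, 1, 3, 1, 2, 1, 3, 1, 2, 1, 2, 0, 3, 0, 2, 0, 2, 0, 3, 0, 2, 1, 2, 2, 0, 3, 0, 3, 3, 0, 3, 1, 3, 1, 3, 3, 0, 3, 0, 3, 1, 2, 2, 0, 2, 1, 3, 1, 2, 1, 3, 1, 2, 1, 3], 0, true),
      ([2, 0, 3, 0, 2, 0, 3, 0, 2, 0, 3, 1, 3, 1, 2, 1, 3, 1, 2, 1, 2, 0, 3, 0, 2, 0, 2, 0, 3, 0, 2, 1, 2, 2, 0, 3, 0, 3, 3, 0, 3, 1, 3, 1, 3, 3, 0, 3, 0, 3, 1, 2, 2, 0, 2, 1, 3, 1, 2, 1, 3, 1, 2, 1, 3, 1, 3, 1, 2, 1, 3, 1, 2, 0, 3, 1, 3, 3, 1, 3, 1, 2, 2, 0, 2, 1, 3, 1, 2, 1, 3, 1, 2, 1, 3, 1, 3, 1, 2, 1, 3, 1, 2], 0, true),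
      ([2, 0, 3, 0, 2, 0, 3, 0, 2, 0, 3, 1, 3, 1, 2, 1, 3, 1, 2, 1, 2, 0, 3, 0, 2, 0, 2, 0, 3, 0, 2, 1, 2, 2, 0, 3, 0, 3, 3, 0, 3, 1, 3, 1, 3, 3, 0, 3, 0, 3, 1, 2, 2, 0, 2, 1, 3, 1, 2, 1, 3, 1, 2, 1, 3, 1, 3, 1, 2, 1, 3, 1, 2, 0, 3, 1, 3, 3, 1, 3, 1, 2, 2], 0, true),
      ([2, 0, 3, 0, 2, 0, 3, 0, 2, 0, 3, 1, 3, 1, 2, 1, 3, 1, 2, 1, 2, 0, 3, 0, 2, 0, 2, 0, 3, 0, 2, 1, 2, 2, 0, 3, 0, 3, 3, 0, 3, 1, 3, 1, 3, 3, 0, 3, 0, 3, 1, 2, 2, 0, 2, 1, 3, 1, 2, 1, 3, 1, 2, 1, 3, 1, 3, 1, 2, 1, 3, 1, 2], 0, true),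
      ([2, 0, 3, 0, 2, 0, 3, 0, 2, 0, 3, 1, 3, 1, 2, 1, 3, 1, 2, 1, 2, 0, 3, 0, 2, 0, 2, 0, 3, 0, 2, 1, 2, 2, 0, 3, 0, 3, 3, 0, 3, 1, 3, 1, 3, 3, 0, 3, 0, 3, 1, 2, 2], 0, true),
      ([2, 0, 3, 0, 2, 0, 3, 0, 2, 0, 3, 1, 3, 1, 2, 1, 3, 1, 2, 1, 2, 0, 3, 0, 2, 0, 2, 0, 3, 0, 2, 1, 2, 2, 0, 3, 0, 3, 3, 0, 3, 1, 3, 1, 3, 3, 0, 3, 0, 3, 1, 2, 2, 1, 2, 1, 3, 1, 2, 1, 3, 1, 2, 1, 3, 1, 3, 1, 2, 1, 3, 1, 2, 1, 3, 1, 3, 3, 1, 3, 1, 2, 2, 1, 2, 1, 3, 1, 2, 1, 3, 1, 2, 1, 3, 1, 3, 1, 2, 1, 3, 1, 2, 1, 3, 1, 2, 2, 2], 1, false),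
      ([2, 0, 3, 0, 2, 0, 3, 0, 2, 0, 3, 1, 3, 1, 2, 1, 3, 1, 2, 1, 2, 0, 3, 0, 2, 0, 2, 0, 3, 0, 2, 1, 2, 2, 0, 3, 0, 3, 3, 0, 3, 1, 3, 1, 3, 3, 0, 3, 0, 3, 1, 2, 2, 1, 2, 1, 3, 1, 2, 1, 3, 1, 2, 1, 3, 1, 3, 1, 2, 1, 3, 1, 2, 1, 3, 1, 3, 3, 1, 3, 1, 2, 2], 1, true),
      ([2, 0, 3, 0, 2, 0, 3, 0, 2, 0, 3, 1, 3, 1, 2, 1, 3, 1, 2, 1, 2, 0, 3, 0, 2, 0, 2, 0, 3, 0, 2, 1, 2, 2, 0, 3, 0, 3, 3, 0, 3, 1, 3, 1, 3, 3, 0, 3, 0, 3, 1, 2, 2, 1, 2, 1, 3, 1, 2, 1, 3, 1, 2, 1, 3, 1, 3, 1, 2, 1, 3, 1, 2, 1, 3, 1, 2, 2, 2], 1, false),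
      ([2, 0, 3, 0, 2, 0, 3, 0, 2, 0, 3, 1, 3, 1, 2, 1, 3, 1, 2, 1, 2, 0, 3, 0, 2, 0, 2, 0, 3, 0, 2, 1, 2, 2, 0, 3, 0, 3, 3, 0, 3, 1, 3, 1, 3, 3, 0, 3, 0, 3, 1, 2, 2], 1, true),
      ([2, 0, 3, 0, 2, 0, 3, 0, 2, 0, 3, 1, 3, 1, 2, 1, 3, 1, 2, 1, 2, 0, 3, 0, 2, 0, 2, 0, 3, 0, 2, 1, 2, 2, 0, 3, 0, 3, 3, 0, 3, 1, 3, 1, 3, 3, 0, 3, 0, 0, 3, 0, 2, 0, 3, 0, 2, 0, 3, 0, 2, 0, 2, 0, 3, 0, 2, 0, 3, 0, 2, 0, 3], 5, false)]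

/-- The conjugates of relators behind relator 21. -/
def fivePrf21 : List (List ℕ × ℕ × Bool) :=
  [([2, 0, 3, 0, 2, 0, 2, 0, 3, 0, 2, 1, 2, 2, 0, 2, 1], 0, true),
      ([2, 0, 3, 0, 2, 0, 2, 0, 3, 0, 2, 1, 2, 2, 0, 2, 1, 2, 2, 1], 0, true),
      ([2, 0, 3, 0, 2, 0, 2, 0, 3, 0, 2, 1, 2, 2, 0, 2, 1, 2, 2, 1, 1, 3, 3, 1, 3, 1, 3, 3, 0, 3, 1, 2, 1, 3, 1, 3, 1, 2, 1, 3, 0, 2, 0, 3, 1, 3, 3, 0, 3, 0, 3, 1, 2, 1, 2, 2, 0, 2, 1, 3, 1, 2, 0, 3, 0, 3, 0, 2, 1, 2, 2, 0, 2, 0, 3, 0, 2, 1, 2, 2, 0], 0, true),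
      ([2, 0, 3, 0, 2, 0, 2, 0, 3, 0, 2, 1, 2, 2, 0, 2, 1, 2, 2, 1, 1, 3, 3, 1, 3, 1, 2], 1, false),
      ([2, 0, 3, 0, 2, 0, 2, 0, 3, 0, 2, 1, 2, 2, 0, 2, 1, 2, 2, 1, 2, 0, 3, 3], 1, true),
      ([2, 0, 3, 0, 2, 0, 2, 0, 3, 0, 2, 1, 2, 2, 0, 2, 1, 2, 2, 1, 2, 0, 3, 3, 3, 1, 3, 1, 3, 3, 1, 3, 1, 2, 0, 3, 1, 2, 1, 3, 1, 3, 1, 2, 1, 3, 0, 2, 0, 3, 1, 3, 3, 0, 3, 0, 3, 1, 2, 1, 2, 2, 0, 2, 1, 3, 1, 2, 0, 3, 0, 3, 0, 2, 1, 2, 2, 0, 2, 0, 3, 0], 0, true),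
      ([2, 0, 3, 0, 2, 0, 2, 0, 3, 0, 2, 1, 2, 2, 0, 2, 1, 2, 2, 1, 2, 0, 3, 3, 3, 1, 3, 1, 3, 3, 1, 3, 1, 2, 0], 0, true),
      ([2, 0, 3, 0, 2, 0, 2, 0, 3, 0, 2, 1, 2, 2, 0, 2, 1, 2, 2, 1, 2, 0, 3, 3, 0, 3, 0, 2, 1], 0, true),
      ([2, 0, 3, 0, 2, 0, 2, 0, 3, 0, 2, 1, 2, 2, 0, 2, 1, 2, 2, 1, 2, 0, 3, 3, 0, 3, 0, 2, 1, 1, 3, 1, 2, 1, 3, 1, 3, 1, 3, 3, 1, 3, 1, 2, 1, 3, 1, 2, 1, 3, 1, 3, 1, 2, 1, 3, 0, 2, 0, 3, 1, 3, 3, 0, 3, 0, 3, 1, 2, 1, 2, 2, 0, 2, 1, 3, 1, 2, 0, 3, 0, 3], 0, true),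
      ([2, 0, 3, 0, 2, 0, 2, 0, 3, 0, 2, 1, 2, 2, 0, 2, 1, 2, 2, 1, 2, 0, 3, 3, 0, 3, 0, 2, 1, 1, 3, 1, 2, 1, 3, 1, 3, 1, 3, 3, 1, 3, 1, 2, 1, 3, 1, 2, 1, 3, 1, 3, 1, 2, 1, 3, 0, 2, 0, 3, 1, 3, 3, 0, 3], 0, true),
      ([2, 0, 3, 0, 2, 0, 2, 0, 3, 0, 2, 1, 2, 2, 0, 2, 1, 2, 2, 1, 2, 0, 3, 3, 0, 3, 0, 2, 1, 1, 3, 1, 2, 1, 3, 1, 3, 1, 3, 3, 1, 3, 1, 2, 1, 3, 1, 2, 1, 3, 1, 3, 1, 2, 1, 3, 0, 2, 0, 3, 1, 3, 3, 0, 3, 1, 3, 1, 2, 1, 2, 2, 0, 2, 1, 3, 1, 2, 0, 3, 0, 3, 1, 2, 1], 1, true),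
      ([2, 0, 3, 0, 2, 0, 2, 0, 3, 0, 2, 1, 2, 2, 0, 2, 1, 2, 2, 1, 2, 0, 3, 3, 0, 3, 0, 2, 1, 1, 3, 1, 2, 1, 3, 1, 3, 1, 3, 3, 1, 3, 1, 2, 1, 3, 1, 2, 1, 3, 1, 3, 1, 2, 1, 3, 0, 2, 0, 3, 1, 3, 3, 0, 3, 1, 3, 1, 2, 1, 2, 2], 1, true),
      ([2, 0, 3, 0, 2, 0, 2, 0, 3, 0, 2, 1, 2, 2, 0, 2, 1, 2, 2, 1, 2, 0, 3, 3, 0, 3, 0, 2, 1, 1, 3, 1, 2, 1, 3, 1, 3, 1, 3, 3, 1, 3, 1, 2, 1, 3, 1, 2, 1, 3, 1, 3, 1, 2, 1, 3, 0, 2, 0, 3, 1, 2, 2, 2], 1, false),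
      ([2, 0, 3, 0, 2, 0, 2, 0, 3, 0, 2, 1, 2, 2, 0, 2, 1, 2, 2, 1, 2, 0, 3, 3, 0, 3, 0, 2, 1, 1, 3, 1, 2, 1, 3, 1, 3, 1, 3, 3, 1, 3, 1, 2, 1, 3, 1, 2, 1, 3, 1, 3, 1, 2, 1, 3, 0, 2, 0, 3, 1, 2, 0, 3, 1, 3, 1, 2, 1, 3, 0, 2, 1, 3, 1, 2, 0, 3, 0], 0, true),
      ([2, 0, 3, 0, 2, 0, 2, 0, 3, 0, 2, 1, 2, 2, 0, 2, 1, 2, 2, 1, 2, 0, 3, 3, 0, 3, 0, 2, 1, 1, 3, 1, 2, 1, 3, 1, 3, 1, 3, 3, 1, 3, 1, 2, 1, 3, 1, 2, 1, 3, 1, 3, 1, 2, 1, 3, 0, 2, 0, 3, 1, 2, 0], 0, true),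
      ([2, 0, 3, 0, 2, 0, 2, 0, 3, 0, 2, 1, 2, 2, 0, 2, 1, 2, 2, 1, 2, 0, 3, 3, 0, 3, 0, 2, 1, 3, 1], 0, true),
      ([2, 0, 3, 0, 2, 0, 2, 0, 3, 0, 2, 1, 2, 2, 0, 2, 1, 2, 2, 1, 2, 0, 3, 3, 0, 3, 0, 2, 1, 3, 1, 1, 2, 1, 3, 1, 2, 1, 3, 1, 3, 1, 3, 3, 1, 3, 1, 2, 1, 3, 1, 2, 1, 3, 1, 3, 1, 2, 1, 3, 0, 2, 0, 3, 1, 2, 1, 3, 1, 3, 1, 2, 1, 3, 0], 0, true),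
      ([2, 0, 3, 0, 2, 0, 2, 0, 3, 0, 2, 1, 2, 2, 0, 2, 1, 2, 2, 1, 2, 0, 3, 3, 0, 3, 0, 2, 1, 3, 1, 1, 2, 1, 3, 1, 2, 1, 3, 1, 3, 1, 3, 3, 1, 3, 1, 2, 1, 3, 1, 2, 1, 3, 1, 3, 1, 2, 1, 3, 0, 2, 0], 0, true),
      ([2, 0, 3, 0, 2, 0, 2, 0, 3, 0, 2, 1, 2, 2, 0, 2, 1, 2, 2, 1, 2, 0, 3, 3, 0, 3, 0, 2, 1, 3, 1, 1, 2, 1, 3, 1, 2, 1, 3, 1, 3, 1, 3, 3, 1, 3, 1, 2, 1, 3, 1, 2, 1, 3, 1, 3, 1, 2, 1, 3, 0, 2, 1, 3, 1, 2, 1, 3, 1, 3, 1, 2, 1, 3, 1, 2, 1, 3, 1, 2], 0, true),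
      ([2, 0, 3, 0, 2, 0, 2, 0, 3, 0, 2, 1, 2, 2, 0, 2, 1, 2, 2, 1, 2, 0, 3, 3, 0, 3, 0, 2, 1, 3, 1, 1, 2, 1, 3, 1, 2, 1, 3, 1, 3, 1, 3, 3, 1, 3, 1, 2, 1, 3, 1, 2, 1, 3, 1, 3, 1, 2, 1, 3], 0, true),
      ([2, 0, 3, 0, 2, 0, 2, 0, 3, 0, 2, 1, 2, 2, 0, 2, 1, 2, 2, 1, 2, 0, 3, 3, 0, 3, 0, 2, 1, 3, 1, 1, 2, 1, 3, 1, 2, 1, 3, 1, 3, 1, 2, 2], 1, false),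
      ([2, 0, 3, 0, 2, 0, 2, 0, 3, 0, 2, 1, 2, 2, 0, 2, 1, 2, 2, 1, 2, 0, 3, 3, 0, 3, 0, 2, 1, 3, 1, 2, 0, 3, 0, 2, 0, 2, 0, 3, 0, 2, 0, 3, 0, 2, 0, 3], 5, false),
      ([2, 0, 3, 0, 2, 0, 2, 0, 3, 0, 2, 1, 2, 2, 0, 2, 1, 2, 2, 1, 2, 1, 3, 3, 0, 3, 1, 2, 1, 3, 1, 3, 3, 0, 3, 1, 2, 2, 0, 2, 0, 3, 0, 3, 1, 2, 1, 3, 1, 3, 1, 2, 1, 2, 0, 3, 0, 2, 0, 2, 0, 3, 0, 2, 0, 0], 0, false),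
      ([2, 0, 3, 0, 2, 0, 2, 0, 3, 0, 2, 1, 2, 2, 0, 2, 1, 2, 2, 1, 2, 1, 3, 3, 0, 3, 1, 2, 1, 3, 1, 3, 3, 0, 3, 1, 2, 2, 0, 2, 0, 3, 0, 3, 0, 0], 0, false),
      ([2, 0, 3, 0, 2, 0, 2, 0, 3, 0, 2, 1, 2, 2, 0, 2, 1, 2, 2, 1, 2, 1, 3, 3, 0, 3, 1, 2, 1, 3, 1, 2, 0, 3, 0, 3, 0, 2, 0, 3, 0, 3, 0, 2, 0, 3, 0, 3], 6, true),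
      ([2, 0, 3, 0, 2, 0, 2, 0, 3, 0, 2, 1, 2, 2, 0, 2, 1, 2, 2, 1, 2, 1, 3, 3, 0, 3, 1, 2, 1, 3, 1, 1, 2, 1, 3, 1, 3, 1, 2, 1, 3, 1, 3, 1, 2, 1, 3], 0, false),
      ([2, 0, 3, 0, 2, 0, 2, 0, 3, 0, 2, 1, 2, 2, 0, 2, 1, 2, 2, 1, 2, 1, 3, 3, 0, 3, 1, 2, 1, 3, 1], 0, false),
      ([2, 0, 3, 0, 2, 0, 2, 0, 3, 0, 2, 1, 2, 2, 0, 2, 1, 2, 2, 1, 2, 1, 3, 3, 0, 3, 1, 2, 1, 1, 3, 1, 3, 1, 2, 1, 3, 1, 3, 1, 2, 1, 3, 0, 3, 1, 2], 0, false),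
      ([2, 0, 3, 0, 2, 0, 2, 0, 3, 0, 2, 1, 2, 2, 0, 2, 1, 2, 2, 1, 2, 1, 3, 3, 0, 3, 1, 2, 1, 1, 3, 1, 3, 1, 2, 1, 3, 1, 3, 1, 2, 1, 3, 0, 3, 0], 0, false),
      ([2, 0, 3, 0, 2, 0, 2, 0, 3, 0, 2, 1, 2, 2, 0, 2, 1, 2, 2, 1, 2, 1, 3, 3, 0, 3, 1, 2, 1, 1, 3, 1, 3, 1, 2, 1, 3, 1, 3, 1, 2, 1, 3, 0, 3, 0, 2, 0, 2, 1, 3, 1, 2, 1, 2, 1, 3, 1, 2], 1, true),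
      ([2, 0, 3, 0, 2, 0, 2, 0, 3, 0, 2, 1, 2, 2, 0, 2, 1, 2, 2, 1, 2, 1, 3, 3, 0, 3, 1, 2, 1, 1, 3, 1, 3, 1, 2, 1, 3, 1, 3, 1, 2, 1, 3, 0, 3, 0, 2, 0, 2, 1, 3, 1, 2, 1, 2, 1, 3, 1, 3, 3, 1, 2, 1], 1, false),
      ([2, 0, 3, 0, 2, 0, 2, 0, 3, 0, 2, 1, 2, 2, 0, 2, 1, 2, 2, 1, 2, 1, 3, 3, 0, 3, 1, 2, 1, 1, 3, 1, 3, 1, 2, 1, 3, 1, 3, 1, 2, 1, 3, 0, 3, 0, 2, 0, 2, 1, 3, 1, 2, 1, 2, 1, 3, 1, 3, 3], 0, false),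
      ([2, 0, 3, 0, 2, 0, 2, 0, 3, 0, 2, 1, 2, 2, 0, 2, 1, 2, 2, 1, 2, 1, 3, 3, 0, 3, 1, 2, 1], 0, false),
      ([2, 0, 3, 0, 2, 0, 2, 0, 3, 0, 2, 1, 2, 2, 0, 2, 1, 2, 2, 1, 2, 1, 3, 3, 0, 3, 1, 1, 3, 1, 2, 1, 3, 1, 3, 1, 2, 1, 3, 0, 3, 0, 2, 0, 2], 0, false),
      ([2, 0, 3, 0, 2, 0, 2, 0, 3, 0, 2, 1, 2, 2, 0, 2, 1, 2, 2, 1, 2, 1, 3, 3, 0, 3, 3, 1, 2, 1, 3, 1, 3, 1, 2, 1, 3, 0, 3, 0, 2, 0, 2, 0, 3, 0, 2, 1, 2, 1, 3, 1, 3, 1, 2, 1, 3, 0, 2, 0, 3, 1, 3, 3, 0, 3, 0, 2, 1, 2, 2, 0, 2, 0, 3, 1, 3, 1, 2, 1, 3, 1, 3, 1, 2, 1, 3, 0, 3, 0, 2, 0, 2], 0, true),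
      ([2, 0, 3, 0, 2, 0, 2, 0, 3, 0, 2, 1, 2, 2, 0, 2, 1, 2, 2, 1, 2, 1, 3, 3, 0, 3, 3, 1, 2, 1, 3, 1, 3, 1, 2, 1, 3, 0, 3, 0, 2, 0, 2, 0, 3, 0, 2, 1, 2, 1, 3, 1, 3, 1, 2, 1, 3, 0, 2, 0, 3, 1, 3, 3, 0, 3, 0, 2, 1, 2, 2, 0, 2], 0, true),
      ([2, 0, 3, 0, 2, 0, 2, 0, 3, 0, 2, 1, 2, 2, 0, 2, 1, 2, 2, 1, 2, 1, 3, 3, 0, 3, 3, 1, 2, 1, 3, 1, 3, 1, 2, 1, 3, 0, 3, 0, 2, 0, 2, 0, 3, 0, 2, 1, 2, 1, 3, 1, 3, 1, 2, 1, 3, 0, 2, 0, 3, 1, 3, 3, 0, 3, 0, 2, 1, 2, 2, 0, 2, 1, 3, 1, 3, 1, 2, 1, 3, 1, 3, 1, 2, 1, 3, 0, 3, 0, 2, 0, 2, 1, 3, 1, 2, 1, 2, 1, 3, 1, 3, 3], 0, true),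
      ([2, 0, 3, 0, 2, 0, 2, 0, 3, 0, 2, 1, 2, 2, 0, 2, 1, 2, 2, 1, 2, 1, 3, 3, 0, 3, 3, 1, 2, 1, 3, 1, 3, 1, 2, 1, 3, 0, 3, 0, 2, 0, 2, 0, 3, 0, 2, 1, 2, 1, 3, 1, 3, 1, 2, 1, 3, 0, 2, 0, 3, 1, 3, 3, 0, 3, 0, 2, 1, 2, 2, 0, 2, 1, 3, 1, 3, 1, 2, 1, 3, 1, 3, 1, 2, 1, 3, 0, 3, 0, 2, 0, 2, 1, 3, 1, 2, 1, 2, 1, 3, 1, 3, 3, 1, 2, 1], 1, true),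
      ([2, 0, 3, 0, 2, 0, 2, 0, 3, 0, 2, 1, 2, 2, 0, 2, 1, 2, 2, 1, 2, 1, 3, 3, 0, 3, 3, 1, 2, 1, 3, 1, 3, 1, 2, 1, 3, 0, 3, 0, 2, 0, 2, 0, 3, 0, 2, 1, 2, 1, 3, 1, 3, 1, 2, 1, 3, 0, 2, 0, 3, 1, 3, 3, 0, 3, 0, 2, 1, 2, 2, 0, 2, 1, 3, 1, 3, 1, 2, 1, 3, 1, 3, 1, 2, 1, 3, 0, 3, 0, 2, 0, 2, 1, 3, 1, 2, 1, 2, 1, 3, 1, 2], 1, false),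
      ([2, 0, 3, 0, 2, 0, 2, 0, 3, 0, 2, 1, 2, 2, 0, 2, 1, 2, 2, 1, 2, 1, 3, 3, 0, 3, 3, 1, 2, 1, 3, 1, 3, 1, 2, 1, 3, 0, 3, 0, 2, 0, 2, 0, 3, 0, 2, 1, 2, 1, 3, 1, 3, 1, 2, 1, 3, 0, 2, 0, 3, 1, 3, 3, 0, 3, 0, 2, 1, 2, 2, 0, 2, 1, 3, 1, 3, 1, 2, 1, 3, 1, 3, 1, 2, 1, 3, 0, 3, 0], 0, true),
      ([2, 0, 3, 0, 2, 0, 2, 0, 3, 0, 2, 1, 2, 2, 0, 2, 1, 2, 2, 1, 2, 1, 3, 3, 0, 3, 3, 1, 2, 1, 3, 1, 3, 1, 2, 1, 3, 0, 3, 0, 2, 0, 2, 0, 3, 0, 2, 1, 2, 1, 3, 1, 3, 1, 2, 1, 3, 0, 2, 0, 3, 1, 3, 3, 0, 3, 0, 2, 1, 2, 2, 0, 2, 1, 3, 1, 3, 1, 2, 1, 3, 1, 3, 1, 2, 1, 3, 0, 3, 1, 2], 0, true),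
      ([2, 0, 3, 0, 2, 0, 2, 0, 3, 0, 2, 1, 2, 2, 0, 2, 1, 2, 2, 1, 2, 1, 3, 3, 0, 3, 3, 1, 2, 1, 3, 1, 3, 1, 2, 1, 3, 0, 3, 0, 2, 0, 2, 0, 3, 0, 2, 1, 2, 1, 3, 1, 3, 1, 2, 1, 3, 0, 2, 0, 3, 1, 3, 3, 0, 3, 0, 2, 1, 2, 2], 0, true),
      ([2, 0, 3, 0, 2, 0, 2, 0, 3, 0, 2, 1, 2, 2, 0, 2, 1, 2, 2, 1, 2, 1, 3, 3, 0, 3, 3, 1, 2, 1, 3, 1, 3, 1, 2, 1, 3, 0, 3, 0, 2, 0, 2, 0, 3, 0, 2, 1, 2, 1, 3, 1, 3, 1, 2, 1, 3, 0, 2, 0, 3, 1, 3, 3, 0, 3, 0, 2, 1, 2, 2, 1, 2, 1, 3, 1, 3, 1, 2, 1, 3, 1, 3, 1, 2, 1, 3], 0, true),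
      ([2, 0, 3, 0, 2, 0, 2, 0, 3, 0, 2, 1, 2, 2, 0, 2, 1, 2, 2, 1, 2, 1, 3, 3, 0, 3, 3, 1, 2, 1, 3, 1, 3, 1, 2, 1, 3, 0, 3, 0, 2, 0, 2, 0, 3, 0, 2, 1, 2, 1, 3, 1, 3, 1, 2, 1, 3, 0, 2, 0, 3, 1, 3, 3, 0, 3, 0, 2, 1, 2, 2, 2, 0, 3, 0, 3, 0, 2, 0, 3, 0, 3, 0, 2, 0, 3, 0, 3], 6, false),
      ([2, 0, 3, 0, 2, 0, 2, 0, 3, 0, 2, 1, 2, 2, 0, 2, 1, 2, 2, 1, 2, 1, 3, 3, 0, 3, 3, 1, 2, 1, 3, 1, 3, 1, 2, 1, 3, 0, 3, 0, 2, 0, 2, 0, 3, 0, 2, 1, 2, 1, 3, 1, 3, 1, 2, 1, 3, 0, 2, 0, 3, 1, 3, 3, 0, 2, 0, 2, 0, 3, 0, 3, 0, 0], 0, true),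
      ([2, 0, 3, 0, 2, 0, 2, 0, 3, 0, 2, 1, 2, 2, 0, 2, 1, 2, 2, 1, 2, 1, 3, 3, 0, 3, 3, 1, 2, 1, 3, 1, 3, 1, 2, 1, 3, 0, 3, 0, 2, 0, 2, 0, 3, 0, 2, 1, 2, 1, 3, 1, 3, 1, 2, 1, 3, 0, 2, 0, 3, 1, 3, 3, 0, 2, 0, 2, 0, 3, 0, 3, 1, 2, 1, 3, 1, 3, 1, 2, 1, 2, 0, 3, 0, 2, 0, 2, 0, 3, 0, 2, 0, 0], 0, true)]

/-- The conjugates of relators behind relator 22. -/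
def fivePrf22 : List (List ℕ × ℕ × Bool) :=
  [([0, 3, 0, 2, 0, 2, 0, 2, 0, 3, 0, 3, 3, 0, 3, 1, 3, 3, 0, 3, 1, 2, 2, 0, 2, 1, 2, 2, 1, 2, 1, 3, 1, 2], 1, false),
      ([0, 3, 0, 2, 0, 2, 0, 2, 0, 3, 0, 3, 3, 0, 3, 1, 3, 3, 0, 3, 1, 2, 2, 0, 2, 1, 2, 2, 1, 2, 0, 0], 0, false),
      ([0, 3, 0, 2, 0, 2, 0, 2, 0, 3, 0, 3, 3, 0, 3, 1, 3, 3, 0, 3, 1, 2, 2, 0, 2, 1, 2, 2, 1, 2, 2, 1, 2, 2, 1, 2, 1, 3, 3], 1, true),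
      ([0, 3, 0, 2, 0, 2, 0, 2, 0, 3, 0, 3, 3, 0, 3, 1, 3, 3, 0, 3, 1, 2, 2, 0, 2, 1, 2, 2, 1, 2, 2, 1, 2, 2, 1, 2, 1, 3, 3, 0, 0, 0], 0, false),
      ([0, 3, 0, 2, 0, 2, 0, 2, 0, 3, 0, 3, 3, 0, 3, 1, 3, 3, 0, 3, 1, 2, 2, 0, 2, 1, 2, 2, 1, 2, 2, 1, 2, 2, 1, 2, 1, 3, 3, 0, 0, 3, 0, 3, 0, 3, 3, 0, 3, 0, 3, 0], 0, false),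
      ([0, 3, 0, 2, 0, 2, 0, 2, 0, 3, 0, 3, 3, 0, 3, 1, 3, 3, 0, 3, 1, 2, 2, 0, 2, 1, 2, 2, 1, 2, 2, 1, 2, 2, 1, 2, 1, 3, 3, 0, 3, 1, 2, 1, 3, 1, 3, 1, 2, 1, 3, 0, 3, 0, 2, 0, 3, 0, 0], 0, false),
      ([0, 3, 0, 2, 0, 2, 0, 2, 0, 3, 0, 3, 3, 0, 3, 1, 3, 3, 0, 3, 1, 2, 2, 0, 2, 1, 2, 2, 1, 2, 2, 1, 2, 2, 1, 2, 1, 3, 3, 0, 3, 1, 2, 1, 3, 1, 3, 1, 2, 1, 3, 0, 3, 0, 2, 0, 3, 0, 0, 2, 1, 3, 0, 0], 0, false),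
      ([0, 3, 0, 2, 0, 2, 0, 2, 0, 3, 0, 3, 3, 0, 3, 1, 3, 3, 0, 3, 1, 2, 2, 0, 2, 1, 2, 2, 1, 2, 2, 1, 2, 2, 1, 2, 1, 3, 3, 0, 3, 1, 2, 1, 3, 1, 3, 1, 2, 1, 3, 0, 3, 0, 2, 0, 3, 0, 0, 2, 0], 0, false),
      ([0, 3, 0, 2, 0, 2, 0, 2, 0, 3, 0, 3, 3, 0, 3, 1, 3, 3, 0, 3, 1, 2, 2, 0, 2, 1, 2, 2, 1, 2, 2, 1, 2, 2, 1, 2, 1, 3, 3, 0, 3, 1, 2, 1, 3, 1, 3, 1, 2, 1, 3, 0, 3, 0, 2, 0, 3, 0, 3, 0, 0], 0, false),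
      ([0, 3, 0, 2, 0, 2, 0, 2, 0, 3, 0, 3, 3, 0, 3, 1, 3, 3, 0, 3, 1, 2, 2, 0, 2, 1, 2, 2, 1, 2, 2, 1, 2, 2, 1, 2, 1, 3, 3, 0, 3, 1, 2, 1, 3, 1, 3, 1, 2, 1, 3, 0, 3, 0, 2, 0, 3, 0, 3, 0, 0, 2, 0, 2, 0, 3, 0, 2, 0], 0, false),
      ([0, 3, 0, 2, 0, 2, 0, 2, 0, 3, 0, 3, 3, 0, 3, 1, 3, 3, 0, 3, 1, 2, 2, 0, 2, 1, 2, 2, 1, 2, 2, 1, 2, 2, 1, 2, 1, 3, 3, 0, 3, 1, 2, 1, 3, 1, 3, 1, 2, 1, 3, 0, 3, 0, 2, 0, 3, 0, 3, 0, 0, 2, 0, 2, 0, 3, 0, 2, 0, 2, 0, 3, 0, 2, 0, 2, 0, 3, 0, 2, 0, 3, 0, 3, 0, 2, 2], 1, false),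
      ([0, 3, 0, 2, 0, 2, 0, 2, 0, 3, 0, 3, 3, 0, 3, 1, 3, 3, 0, 3, 1, 2, 2, 0, 2, 1, 2, 2, 1, 2, 2, 1, 2, 2, 1, 2, 1, 3, 3, 0, 3, 1, 2, 1, 3, 1, 3, 1, 2, 1, 3, 0, 3, 0, 2, 0, 3, 0, 3, 0, 2, 1, 2, 1, 3, 1, 2, 1, 2, 1, 3, 1, 2, 1, 2, 1, 3, 1, 2, 1, 3, 1, 3, 1, 2, 1, 3, 1, 3, 1, 2, 1, 3, 1, 3, 1], 6, true),
      ([0, 3, 0, 2, 0, 2, 0, 2, 0, 3, 0, 3, 3, 0, 3, 1, 3, 3, 0, 3, 1, 2, 2, 0, 2, 1, 2, 2, 1, 2, 2, 1, 2, 2, 1, 2, 1, 3, 3, 0, 3, 1, 2, 1, 3, 1, 3, 1, 2, 1, 3, 0, 3, 0, 2, 0, 2, 0, 2, 0, 3, 0, 3, 3, 0, 3, 1, 3, 1, 3, 1, 3, 1, 2, 1, 2, 0, 3, 0, 2, 0, 2, 0, 3, 0, 2, 1, 2, 2, 0, 3, 0, 3, 3, 0, 3, 1, 3, 1, 3, 3, 3, 1, 2, 1, 2, 1,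 3, 1, 2, 1, 2, 1, 3, 1, 2, 1, 3, 1, 3, 1, 2, 1, 3, 1, 3, 1, 2, 1, 3, 1, 3, 1], 6, false),
      ([0, 3, 0, 2, 0, 2, 0, 2, 0, 3, 0, 3, 3, 0, 3, 1, 3, 3, 0, 3, 1, 2, 2, 0, 2, 1, 2, 2, 1, 2, 2, 1, 2, 2, 1, 2, 1, 3, 3, 0, 3, 1, 2, 1, 3, 1, 3, 1, 2, 1, 3, 0, 3, 0, 2, 0, 2, 0, 2, 0, 3, 0, 3, 3, 0, 3, 1, 3, 1, 3, 1, 3, 1, 2, 1, 2, 0, 3, 0, 2, 0, 2, 0, 3, 0, 2, 1, 2, 2, 0, 3, 0, 3, 3, 0, 3, 1, 3, 1, 3, 3, 0, 3, 0, 3, 0, 2, 0, 2, 0, 3, 0, 2, 0, 2, 0, 3, 0, 2, 0, 2, 0, 3, 0, 2, 0, 3, 0, 3, 0, 2, 2], 1, true),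
      ([0, 3, 0, 2, 0, 2, 0, 2, 0, 3, 0, 3, 3, 0, 3, 1, 3, 3, 0, 3, 1, 2, 2, 0, 2, 1, 2, 2, 1, 2, 2, 1, 2, 2, 1, 2, 1, 3, 3, 0, 3, 1, 2, 1, 3, 1, 3, 1, 2, 1, 3, 0, 3, 0, 2, 0, 2, 0, 2, 0, 3, 0, 3, 3, 0, 3, 1, 3, 1, 3, 1, 3, 1, 2, 1, 2, 0, 3, 0, 2, 0, 2, 0, 3, 0, 2, 1, 2, 2, 0, 3, 0, 3, 3, 0, 3, 1, 3, 1, 3, 3, 0, 3, 0, 3, 0, 2, 0, 2, 0, 3, 0, 2, 0], 0, true),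
      ([0, 3, 0, 2, 0, 2, 0, 2, 0, 3, 0, 3, 3, 0, 3, 1, 3, 3, 0, 3, 1, 2, 2, 0, 2, 1, 2, 2, 1, 2, 2, 1, 2, 2, 1, 2, 1, 3, 3, 0, 3, 1, 2, 1, 3, 1, 3, 1, 2, 1, 3, 0, 3, 0, 2, 0, 2, 0, 2, 0, 3, 0, 3, 3, 0, 3, 1, 3, 1, 3, 1, 3, 1, 2, 1, 2, 0, 3, 0, 2, 0, 2, 0, 3, 0, 2, 1, 2, 2, 0, 3, 0, 3, 3, 0, 3, 1, 3, 1, 3, 3, 0, 3, 0, 3, 0], 0, true),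
      ([0, 3, 0, 2, 0, 2, 0, 2, 0, 3, 0, 3, 3, 0, 3, 1, 3, 3, 0, 3, 1, 2, 2, 0, 2, 1, 2, 2, 1, 2, 2, 1, 2, 2, 1, 2, 1, 3, 3, 0, 3, 1, 2, 1, 3, 1, 3, 1, 2, 1, 3, 0, 3, 0, 2, 0, 2, 0, 2, 0, 3, 0, 3, 3, 0, 3, 1, 3, 1, 3, 1, 3, 1, 2, 1, 2, 0, 3, 0, 2, 0, 2, 0, 3, 0, 2, 1, 2, 2, 0, 3, 0, 3, 3, 0, 3, 1, 3, 1, 3, 3, 0, 3, 0, 3, 1, 2, 0, 2, 0], 0, true),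
      ([0, 3, 0, 2, 0, 2, 0, 2, 0, 3, 0, 3, 3, 0, 3, 1, 3, 3, 0, 3, 1, 2, 2, 0, 2, 1, 2, 2, 1, 2, 2, 1, 2, 2, 1, 2, 1, 3, 3, 0, 3, 1, 2, 1, 3, 1, 3, 1, 2, 1, 3, 0, 3, 0, 2, 0, 2, 0, 2, 0, 3, 0, 3, 3, 0, 3, 1, 3, 1, 3, 1, 3, 1, 2, 1, 2, 0, 3, 0, 2, 0, 2, 0, 3, 0, 2, 1, 2, 2, 0, 3, 0, 3, 3, 0, 3, 1, 3, 1, 3, 3, 0, 3, 0, 3, 1, 2, 0, 2, 1, 3, 0, 0], 0, true),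
      ([0, 3, 0, 2, 0, 2, 0, 2, 0, 3, 0, 3, 3, 0, 3, 1, 3, 3, 0, 3, 1, 2, 2, 0, 2, 1, 2, 2, 1, 2, 2, 1, 2, 2, 1, 2, 1, 3, 3, 0, 3, 1, 2, 1, 3, 1, 3, 1, 2, 1, 3, 0, 3, 0, 2, 0, 2, 0, 2, 0, 3, 0, 3, 3, 0, 3, 1, 3, 1, 3, 1, 3, 1, 2, 1, 2, 0, 3, 0, 2, 0, 2, 0, 3, 0, 2, 1, 2, 2, 0, 3, 0, 3, 3, 0, 3, 1, 3, 1, 3, 3, 0, 3, 0, 3, 1, 2, 0], 0, true),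
      ([0, 3, 0, 2, 0, 2, 0, 2, 0, 3, 0, 3, 3, 0, 3, 1, 3, 3, 0, 3, 1, 2, 2, 0, 2, 1, 2, 2, 1, 2, 2, 1, 2, 2, 1, 2, 1, 3, 3, 0, 3, 1, 2, 1, 3, 1, 3, 1, 2, 1, 3, 0, 3, 0, 2, 0, 2, 0, 2, 0, 3, 0, 3, 3, 0, 3, 1, 3, 1, 3, 1, 3, 1, 2, 1, 2, 0, 3, 0, 2, 0, 2, 0, 3, 0, 2, 1, 2, 2, 0, 3, 0, 3, 3, 0, 3, 1, 3, 1, 3, 3, 0, 3, 0, 3, 1, 2, 1, 2, 1, 3, 1, 2, 1, 2, 0, 3, 0, 2, 0, 2, 0, 3, 0, 2, 0, 3, 0, 3, 0, 3, 3, 0, 3, 0, 3, 0], 0, true),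
      ([0, 3, 0, 2, 0, 2, 0, 2, 0, 3, 0, 3, 3, 0, 3, 1, 3, 3, 0, 3, 1, 2, 2, 0, 2, 1, 2, 2, 1, 2, 2, 1, 2, 2, 1, 2, 1, 3, 3, 0, 3, 1, 2, 1, 3, 1, 3, 1, 2, 1, 3, 0, 3, 0, 2, 0, 2, 0, 2, 0, 3, 0, 3, 3, 0, 3, 1, 3, 1, 3, 1, 3, 1, 2, 1, 2, 0, 3, 0, 2, 0, 2, 0, 3, 0, 2, 1, 2, 2, 0, 3, 0, 3, 3, 0, 3, 1, 3, 1, 3, 3, 0, 3, 0, 3, 1, 2, 1, 2, 1, 3, 1, 2, 1, 2, 0, 3, 0, 2, 0, 2, 0, 3, 0, 2, 0, 0], 0, true),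
      ([0, 3, 0, 2, 0, 2, 0, 2, 0, 3, 0, 3, 3, 0, 3, 1, 3, 3, 0, 3, 1, 2, 2, 0, 2, 1, 2, 2, 1, 2, 2, 1, 2, 2, 1, 2, 1, 3, 3, 0, 3, 1, 2, 1, 3, 1, 3, 1, 2, 1, 3, 0, 3, 0, 2, 0, 2, 0, 2, 0, 3, 0, 3, 3, 0, 3, 1, 3, 1, 3, 1, 3, 1, 2, 1, 2, 0, 3, 0, 2, 0, 2, 0, 3, 0, 2, 1, 2, 2, 0, 3, 0, 3, 3, 0, 3, 1, 3, 1, 3, 3, 0, 3, 0, 3, 1, 2, 1, 2, 1, 3, 1, 2, 1, 2, 0, 3, 0, 2, 0, 2, 0, 3, 0, 2, 1], 1, false),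
      ([0, 3, 0, 2, 0, 2, 0, 2, 0, 3, 0, 3, 3, 0, 3, 1, 3, 3, 0, 3, 1, 2, 2, 0, 2, 1, 2, 2, 1, 2, 2, 1, 2, 2, 1, 2, 1, 3, 3, 0, 3, 1, 2, 1, 3, 1, 3, 1, 2, 1, 3, 0, 3, 0, 2, 0, 2, 0, 2, 0, 3, 0, 3, 3, 0, 3, 1, 3, 1, 3, 1, 3, 1, 2, 1, 2, 0, 3, 0, 2, 0, 2, 0, 3, 0, 2, 1, 2, 2, 0, 3, 0, 3, 3, 0, 3, 1, 3, 1, 3, 3, 0, 3, 0, 3, 1, 2, 1, 2, 1, 3, 1, 2, 1, 2, 0, 3, 0, 2, 0, 2, 0, 3, 0, 2, 1, 2, 2, 0, 3, 0, 3, 3, 0, 3, 0, 0], 0, true),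
      ([0, 3, 0, 2, 0, 2, 0, 2, 0, 3, 0, 3, 3, 0, 3, 1, 3, 3, 0, 3, 1, 2, 2, 0, 2, 1, 2, 2, 1, 2, 2, 1, 2, 2, 1, 2, 1, 3, 3, 0, 3, 1, 2, 1, 3, 1, 3, 1, 2, 1, 3, 0, 3, 0, 2, 0, 2, 0, 2, 0, 3, 0, 3, 3, 0, 3, 1, 3, 1, 3, 1, 3, 1, 2, 1, 2, 0, 3, 0, 2, 0, 2, 0, 3, 0, 2, 1, 2, 2, 0, 3, 0, 3, 3, 0, 3, 1, 3, 1, 3, 3, 0, 3, 0, 3, 1, 2, 1, 2, 1, 3, 1, 2, 1, 2, 0, 3, 0, 2, 0, 2, 0, 3, 0, 2, 1, 2, 2, 0, 3, 0, 3, 3, 0, 3, 1, 3, 1, 2], 1, true),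
      ([0, 3, 0, 2, 0, 2, 0, 2, 0, 3, 0, 3, 3, 0, 3, 1, 3, 3, 0, 3, 1, 2, 2, 0, 2, 1, 2, 2, 1, 2, 2, 1, 2, 2, 1, 2, 1, 3, 3, 0, 3, 1, 2, 1, 3, 1, 3, 1, 2, 1, 3, 0, 3, 0, 2, 0, 2, 0, 2, 0, 3, 0, 3, 3, 0, 3, 1, 3, 1, 3, 1, 3, 1, 2, 1, 2, 0, 3, 0, 2, 0, 2, 0, 3, 0, 2, 1, 2, 2, 0, 3, 0, 3, 3, 0, 3, 1, 3, 1, 3, 3, 0, 2, 0, 2, 1, 3, 1, 2, 2, 0, 2, 0, 3, 0, 3, 3, 0, 3, 1, 3, 3, 0, 3, 1, 2, 2, 0, 2, 1, 2, 2, 1, 2, 1, 3, 1, 3, 3, 0, 3, 0, 0, 2, 0, 3, 0, 2, 0, 3, 0, 2, 0, 3], 5, true),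
      ([0, 3, 0, 2, 0, 2, 0, 2, 0, 3, 0, 3, 3, 0, 3, 1, 3, 3, 0, 3, 1, 2, 2, 0, 2, 1, 2, 2, 1, 2, 2, 1, 2, 2, 1, 2, 1, 3, 3, 0, 3, 1, 2, 1, 3, 1, 3, 1, 2, 1, 3, 0, 3, 0, 2, 0, 2, 0, 2, 0, 3, 0, 3, 3, 0, 3, 1, 3, 1, 3, 1, 3, 1, 2, 1, 2, 0, 3, 0, 2, 0, 2, 0, 3, 0, 2, 1, 2, 2, 0, 3, 0, 3, 3, 0, 3, 1, 3, 1, 3, 3, 0, 2, 0, 2, 1, 3, 1, 2, 2, 0, 2, 0, 3, 0, 3, 3, 0, 3, 1, 3, 3, 0, 3, 1, 2, 2, 0, 2, 1, 2, 2, 1, 2, 1, 3, 1, 3, 3, 0, 3, 0, 3, 1, 2, 1, 3, 1, 2, 1, 3, 1, 2, 2], 1, true),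
      ([0, 3, 0, 2, 0, 2, 0, 2, 0, 3, 0, 3, 3, 0, 3, 1, 3, 3, 0, 3, 1, 2, 2, 0, 2, 1, 2, 2, 1, 2, 2, 1, 2, 2, 1, 2, 1, 3, 3, 0, 3, 1, 2, 1, 3, 1, 3, 1, 2, 1, 3, 0, 3, 0, 2, 0, 2, 0, 2, 0, 3, 0, 3, 3, 0, 3, 1, 3, 1, 3, 1, 3, 1, 2, 1, 2, 0, 3, 0, 2, 0, 2, 0, 3, 0, 2, 1, 2, 2, 0, 3, 0, 3, 3, 0, 3, 1, 3, 1, 3, 3, 0, 2, 0, 2, 1, 3, 1, 2, 2, 0, 2, 0, 3, 0, 3, 3, 0, 3, 1, 3, 3, 0, 3, 1, 2, 2, 0, 2, 1, 2, 2, 1, 2, 1, 3, 1, 3, 3, 0, 3, 0, 3, 1, 2, 1, 3, 1, 2, 1, 3, 1, 3, 3, 1, 3, 1, 3, 1, 2, 1, 3, 1, 2, 1, 3, 1, 2, 1, 3, 1, 3, 1, 2, 1, 3, 1, 2, 2], 1, true),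
      ([0, 3, 0, 2, 0, 2, 0, 2, 0, 3, 0, 3, 3, 0, 3, 1, 3, 3, 0, 3, 1, 2, 2, 0, 2, 1, 2, 2, 1, 2, 2, 1, 2, 2, 1, 2, 1, 3, 3, 0, 3, 1, 2, 1, 3, 1, 3, 1, 2, 1, 3, 0, 3, 0, 2, 0, 2, 0, 2, 0, 3, 0, 3, 3, 0, 3, 1, 3, 1, 3, 1, 3, 1, 2, 1, 2, 0, 3, 0, 2, 0, 2, 0, 3, 0, 2, 1, 2, 2, 0, 3, 0, 3, 3, 0, 3, 1, 3, 1, 3, 3, 0, 2, 0, 2, 1, 3, 1, 2, 2, 0, 2, 0, 3, 0, 3, 3, 0, 3, 1, 3, 3, 0, 3, 1, 2, 2, 0, 2, 1, 2, 2, 1, 2, 1, 3, 1, 3, 3, 0, 3, 0, 3, 1, 2, 1, 3, 1, 2, 1, 3, 1, 3, 3, 1, 3, 1, 3, 1, 2, 1, 3, 1, 2, 1, 3, 1, 2, 1, 3, 1, 3, 1, 2, 1, 3, 1, 3, 3, 1, 3, 1, 2, 1, 3, 1, 3, 1, 2, 1, 2], 1, false),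
      ([0, 3, 0, 2, 0, 2, 0, 2, 0, 3, 0, 3, 3, 0, 3, 1, 3, 3, 0, 3, 1, 2, 2, 0, 2, 1, 2, 2, 1, 2, 2, 1, 2, 2, 1, 2, 1, 3, 3, 0, 3, 1, 2, 1, 3, 1, 3, 1, 2, 1, 3, 0, 3, 0, 2, 0, 2, 0, 2, 0, 3, 0, 3, 3, 0, 3, 1, 3, 1, 3, 1, 3, 1, 2, 1, 2, 0, 3, 0, 2, 0, 2, 0, 3, 0, 2, 1, 2, 2, 0, 3, 0, 3, 3, 0, 3, 1, 3, 1, 3, 3, 0, 2, 0, 2, 1, 3, 1, 2, 2, 0, 2, 0, 3, 0, 3, 3, 0, 3, 1, 3, 3, 0, 3, 1, 2, 2, 0, 2, 1, 2, 2, 1, 2, 1, 3, 1, 3, 3, 0, 3, 0, 3, 1, 2, 1, 3, 1, 2, 1, 3, 1, 3, 3, 1, 3, 1, 3, 1, 2, 1, 3, 1, 2, 1, 2, 2], 1, false),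
      ([0, 3, 0, 2, 0, 2, 0, 2, 0, 3, 0, 3, 3, 0, 3, 1, 3, 3, 0, 3, 1, 2, 2, 0, 2, 1, 2, 2, 1, 2, 2, 1, 2, 2, 1, 2, 1, 3, 3, 0, 3, 1, 2, 1, 3, 1, 3, 1, 2, 1, 3, 0, 3, 0, 2, 0, 2, 0, 2, 0, 3, 0, 3, 3, 0, 3, 1, 3, 1, 3, 1, 3, 1, 2, 1, 2, 0, 3, 0, 2, 0, 2, 0, 3, 0, 2, 1, 2, 2, 0, 3, 0, 3, 3, 0, 3, 1, 3, 1, 3, 3, 0, 2, 0, 2, 1, 3, 1, 2, 2, 0, 2, 0, 3, 0, 3, 3, 0, 3, 1, 3, 3, 0, 3, 1, 2, 2, 0, 2, 1, 2, 2, 1, 2, 1, 3, 1, 3, 3, 0, 3, 0, 3, 1, 2, 1, 3, 1, 2, 1, 3, 1, 3, 3, 1, 3, 1, 3, 1, 2, 1, 3, 1, 2, 1, 2, 2], 0, false),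
      ([0, 3, 0, 2, 0, 2, 0, 2, 0, 3, 0, 3, 3, 0, 3, 1, 3, 3, 0, 3, 1, 2, 2, 0, 2, 1, 2, 2, 1, 2, 2, 1, 2, 2, 1, 2, 1, 3, 3, 0, 3, 1, 2, 1, 3, 1, 3, 1, 2, 1, 3, 0, 3, 0, 2, 0, 2, 0, 2, 0, 3, 0, 3, 3, 0, 3, 1, 3, 1, 3, 1, 3, 1, 2, 1, 2, 0, 3, 0, 2, 0, 2, 0, 3, 0, 2, 1, 2, 2, 0, 3, 0, 3, 3, 0, 3, 1, 3, 1, 3, 3, 0, 2, 0, 2, 1, 3, 1, 2, 2, 0, 2, 0, 3, 0, 3, 3, 0, 3, 1, 3, 3, 0, 3, 1, 2, 2, 0, 2, 1, 2, 2, 1, 2, 1, 3, 1, 3, 3, 0, 3, 0, 3, 1, 2, 1, 3, 1, 2, 1, 3, 1, 3, 3, 1, 3, 1, 3, 1, 2, 1, 3], 0, false),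
      ([0, 3, 0, 2, 0, 2, 0, 2, 0, 3, 0, 3, 3, 0, 3, 1, 3, 3, 0, 3, 1, 2, 2, 0, 2, 1, 2, 2, 1, 2, 2, 1, 2, 2, 1, 2, 1, 3, 3, 0, 3, 1, 2, 1, 3, 1, 3, 1, 2, 1, 3, 0, 3, 0, 2, 0, 2, 0, 2, 0, 3, 0, 3, 3, 0, 3, 1, 3, 1, 3, 1, 3, 1, 2, 1, 2, 0, 3, 0, 2, 0, 2, 0, 3, 0, 2, 1, 2, 2, 0, 3, 0, 3, 3, 0, 3, 1, 3, 1, 3, 3, 0, 2, 0, 2, 1, 3, 1, 2, 2, 0, 2, 0, 3, 0, 3, 3, 0, 3, 1, 3, 3, 0, 3, 1, 2, 2, 0, 2, 1, 2, 2, 1, 2, 1, 3, 1, 3, 3, 0, 3, 0, 3, 1, 2, 1, 3, 1, 2, 1, 3, 1, 3, 3, 1, 3, 1, 3, 1, 2, 1, 3, 0, 2, 1, 2, 2, 0, 2, 1, 3, 1, 3, 1, 2, 1, 3, 1, 3, 3, 1, 3, 1, 2, 1, 3, 1, 3, 1, 2, 1, 2, 2, 1, 2, 1, 3, 1, 2, 1, 3], 0, false),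
      ([0, 3, 0, 2, 0, 2, 0, 2, 0, 3, 0, 3, 3, 0, 3, 1, 3, 3, 0, 3, 1, 2, 2, 0, 2, 1, 2, 2, 1, 2, 2, 1, 2, 2, 1, 2, 1, 3, 3, 0, 3, 1, 2, 1, 3, 1, 3, 1, 2, 1, 3, 0, 3, 0, 2, 0, 2, 0, 2, 0, 3, 0, 3, 3, 0, 3, 1, 3, 1, 3, 1, 3, 1, 2, 1, 2, 0, 3, 0, 2, 0, 2, 0, 3, 0, 2, 1, 2, 2, 0, 3, 0, 3, 3, 0, 3, 1, 3, 1, 3, 3, 0, 2, 0, 2, 1, 3, 1, 2, 2, 0, 2, 0, 3, 0, 3, 3, 0, 3, 1, 3, 3, 0, 3, 1, 2, 2, 0, 2, 1, 2, 2, 1, 2, 1, 3, 1, 3, 3, 0, 3, 0, 3, 1, 2, 1, 3, 1, 2, 1, 3, 1, 3, 3, 1, 3, 1, 3, 1, 2], 0, false),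
      ([0, 3, 0, 2, 0, 2, 0, 2, 0, 3, 0, 3, 3, 0, 3, 1, 3, 3, 0, 3, 1, 2, 2, 0, 2, 1, 2, 2, 1, 2, 2, 1, 2, 2, 1, 2, 1, 3, 3, 0, 3, 1, 2, 1, 3, 1, 3, 1, 2, 1, 3, 0, 3, 0, 2, 0, 2, 0, 2, 0, 3, 0, 3, 3, 0, 3, 1, 3, 1, 3, 1, 3, 1, 2, 1, 2, 0, 3, 0, 2, 0, 2, 0, 3, 0, 2, 1, 2, 2, 0, 3, 0, 3, 3, 0, 3, 1, 3, 1, 3, 3, 0, 2, 0, 2, 1, 3, 1, 2, 2, 0, 2, 0, 3, 0, 3, 3, 0, 3, 1, 3, 3, 0, 3, 1, 2, 2, 0, 2, 1, 2, 2, 1, 2, 1, 3, 1, 3, 3, 0, 3, 0, 3, 1, 2, 1, 3, 1, 2, 1, 3, 1, 3, 3, 1, 3, 1, 3, 1, 2, 0, 3, 0, 2, 1, 2, 2, 0, 2, 1, 3, 1, 3, 1, 2, 1, 3, 1, 3, 3, 1, 3, 1, 2, 1, 3, 1, 3, 1, 2, 1, 2, 2, 1, 2, 1, 3, 1, 2], 0, false),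
      ([0, 3, 0, 2, 0, 2, 0, 2, 0, 3, 0, 3, 3, 0, 3, 1, 3, 3, 0, 3, 1, 2, 2, 0, 2, 1, 2, 2, 1, 2, 2, 1, 2, 2, 1, 2, 1, 3, 3, 0, 3, 1, 2, 1, 3, 1, 3, 1, 2, 1, 3, 0, 3, 0, 2, 0, 2, 0, 2, 0, 3, 0, 3, 3, 0, 3, 1, 3, 1, 3, 1, 3, 1, 2, 1, 2, 0, 3, 0, 2, 0, 2, 0, 3, 0, 2, 1, 2, 2, 0, 3, 0, 3, 3, 0, 3, 1, 3, 1, 3, 3, 0, 2, 0, 2, 1, 3, 1, 2, 2, 0, 2, 0, 3, 0, 3, 3, 0, 3, 1, 3, 3, 0, 3, 1, 2, 2, 0, 2, 1, 2, 2, 1, 2, 1, 3, 1, 3, 3, 0, 3, 0, 3, 1, 2, 1, 3], 0, false),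
      ([0, 3, 0, 2, 0, 2, 0, 2, 0, 3, 0, 3, 3, 0, 3, 1, 3, 3, 0, 3, 1, 2, 2, 0, 2, 1, 2, 2, 1, 2, 2, 1, 2, 2, 1, 2, 1, 3, 3, 0, 3, 1, 2, 1, 3, 1, 3, 1, 2, 1, 3, 0, 3, 0, 2, 0, 2, 0, 2, 0, 3, 0, 3, 3, 0, 3, 1, 3, 1, 3, 1, 3, 1, 2, 1, 2, 0, 3, 0, 2, 0, 2, 0, 3, 0, 2, 1, 2, 2, 0, 3, 0, 3, 3, 0, 3, 1, 3, 1, 3, 3, 0, 2, 0, 2, 1, 3, 1, 2, 2, 0, 2, 0, 3, 0, 3, 3, 0, 3, 1, 3, 3, 0, 3, 1, 2, 2, 0, 2, 1, 2, 2, 1, 2, 1, 3, 1, 3, 3, 0, 3, 0, 3, 1, 2, 1, 3, 0, 2, 1, 3, 1, 3, 3, 1, 3, 1, 3, 1, 2, 0, 3, 0, 2, 1, 2, 2, 0, 2, 1, 3, 1, 3], 0, false),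
      ([0, 3, 0, 2, 0, 2, 0, 2, 0, 3, 0, 3, 3, 0, 3, 1, 3, 3, 0, 3, 1, 2, 2, 0, 2, 1, 2, 2, 1, 2, 2, 1, 2, 2, 1, 2, 1, 3, 3, 0, 3, 1, 2, 1, 3, 1, 3, 1, 2, 1, 3, 0, 3, 0, 2, 0, 2, 0, 2, 0, 3, 0, 3, 3, 0, 3, 1, 3, 1, 3, 1, 3, 1, 2, 1, 2, 0, 3, 0, 2, 0, 2, 0, 3, 0, 2, 1, 2, 2, 0, 3, 0, 3, 3, 0, 3, 1, 3, 1, 3, 3, 0, 2, 0, 2, 1, 3, 1, 2, 2, 0, 2, 0, 3, 0, 3, 3, 0, 3, 1, 3, 3, 0, 3, 1, 2, 2, 0, 2, 1, 2, 2, 1, 2, 1, 3, 1, 3, 3, 0, 3, 0, 3, 1, 2, 1, 3, 0, 2, 1, 3, 1, 3, 3, 1, 3, 1, 3, 1, 2, 0, 3, 0, 2, 1, 2, 2, 0, 2, 1, 3, 1, 3, 0, 2, 1, 3, 1, 3, 3, 1, 3, 1, 2, 0], 0, false),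
      ([0, 3, 0, 2, 0, 2, 0, 2, 0, 3, 0, 3, 3, 0, 3, 1, 3, 3, 0, 3, 1, 2, 2, 0, 2, 1, 2, 2, 1, 2, 2, 1, 2, 2, 1, 2, 1, 3, 3, 0, 3, 1, 2, 1, 3, 1, 3, 1, 2, 1, 3, 0, 3, 0, 2, 0, 2, 0, 2, 0, 3, 0, 3, 3, 0, 3, 1, 3, 1, 3, 1, 3, 1, 2, 1, 2, 0, 3, 0, 2, 0, 2, 0, 3, 0, 2, 1, 2, 2, 0, 3, 0, 3, 3, 0, 3, 1, 3, 1, 3, 3, 0, 2, 0, 2, 1, 3, 1, 2, 2, 0, 2, 0, 3, 0, 3, 3, 0, 3, 1, 3, 3, 0, 3, 1, 2, 2, 0, 2, 1, 2, 2, 1, 2, 1, 3, 1, 3, 3, 0, 3, 0, 3, 1, 2, 1, 3, 0, 2, 1, 3, 1, 3, 3, 1, 3, 1, 3, 1, 2, 0, 3, 0, 2, 1, 2, 2, 0, 2, 1, 3, 1, 3, 0, 2, 1, 3, 1, 3, 3, 1, 3, 1, 2], 1, true),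
      ([0, 3, 0, 2, 0, 2, 0, 2, 0, 3, 0, 3, 3, 0, 3, 1, 3, 3, 0, 3, 1, 2, 2, 0, 2, 1, 2, 2, 1, 2, 2, 1, 2, 2, 1, 2, 1, 3, 3, 0, 3, 1, 2, 1, 3, 1, 3, 1, 2, 1, 3, 0, 3, 0, 2, 0, 2, 0, 2, 0, 3, 0, 3, 3, 0, 3, 1, 3, 1, 3, 1, 3, 1, 2, 1, 2, 0, 3, 0, 2, 0, 2, 0, 3, 0, 2, 1, 2, 2, 0, 3, 0, 3, 3, 0, 3, 1, 3, 1, 3, 3, 0, 2, 0, 2, 1, 3, 1, 2, 2, 0, 2, 0, 3, 0, 3, 3, 0, 3, 1, 3, 3, 0, 3, 1, 2, 2, 0, 2, 1, 2, 2, 1, 2, 1, 3, 1, 3, 3, 0, 3, 0, 3, 1, 2, 1, 3, 0, 2, 1, 3, 1, 3, 3, 1, 3, 1, 3, 1, 2, 0, 3, 0, 2, 1, 2, 2, 0, 2, 1, 3, 1, 3, 0, 2, 1, 3, 1, 3, 3, 1, 3, 1, 3, 3, 0, 3, 1], 1, false),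
      ([0, 3, 0, 2, 0, 2, 0, 2, 0, 3, 0, 3, 3, 0, 3, 1, 3, 3, 0, 3, 1, 2, 2, 0, 2, 1, 2, 2, 1, 2, 2, 1, 2, 2, 1, 2, 1, 3, 3, 0, 3, 1, 2, 1, 3, 1, 3, 1, 2, 1, 3, 0, 3, 0, 2, 0, 2, 0, 2, 0, 3, 0, 3, 3, 0, 3, 1, 3, 1, 3, 1, 3, 1, 2, 1, 2, 0, 3, 0, 2, 0, 2, 0, 3, 0, 2, 1, 2, 2, 0, 3, 0, 3, 3, 0, 3, 1, 3, 1, 3, 3, 0, 2, 0, 2, 1, 3, 1, 2, 2, 0, 2, 0, 3, 0, 3, 3, 0, 3, 1, 3, 3, 0, 3, 1, 2, 2, 0, 2, 1, 2, 2, 1, 2, 1, 3, 1, 3, 3, 0, 3, 0, 3, 1, 2, 1, 3, 0, 2, 0], 0, false),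
      ([0, 3, 0, 2, 0, 2, 0, 2, 0, 3, 0, 3, 3, 0, 3, 1, 3, 3, 0, 3, 1, 2, 2, 0, 2, 1, 2, 2, 1, 2, 2, 1, 2, 2, 1, 2, 1, 3, 3, 0, 3, 1, 2, 1, 3, 1, 3, 1, 2, 1, 3, 0, 3, 0, 2, 0, 2, 0, 2, 0, 3, 0, 3, 3, 0, 3, 1, 3, 1, 3, 1, 3, 1, 2, 1, 2, 0, 3, 0, 2, 0, 2, 0, 3, 0, 2, 1, 2, 2, 0, 3, 0, 3, 3, 0, 3, 1, 3, 1, 3, 3, 0, 2, 0, 2, 1, 3, 1, 2, 2, 0, 2, 0, 3, 0, 3, 3, 0, 3, 1, 3, 3, 0, 3, 1, 2, 2, 0, 2, 1, 2, 2, 1, 2, 1, 3, 1, 3, 3, 0, 3, 0, 3, 1, 2, 1, 3, 0, 2, 0, 3, 1, 3, 3, 1, 3, 1, 3, 1, 2, 0, 3, 0, 2, 1, 2, 2, 0, 2, 1, 3, 1, 3, 0, 2, 0], 0, false),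
      ([0, 3, 0, 2, 0, 2, 0, 2, 0, 3, 0, 3, 3, 0, 3, 1, 3, 3, 0, 3, 1, 2, 2, 0, 2, 1, 2, 2, 1, 2, 2, 1, 2, 2, 1, 2, 1, 3, 3, 0, 3, 1, 2, 1, 3, 1, 3, 1, 2, 1, 3, 0, 3, 0, 2, 0, 2, 0, 2, 0, 3, 0, 3, 3, 0, 3, 1, 3, 1, 3, 1, 3, 1, 2, 1, 2, 0, 3, 0, 2, 0, 2, 0, 3, 0, 2, 1, 2, 2, 0, 3, 0, 3, 3, 0, 3, 1, 3, 1, 3, 3, 0, 2, 0, 2, 1, 3, 1, 2, 2, 0, 2, 0, 3, 0, 3, 3, 0, 3, 1, 3, 3, 0, 3, 1, 2, 2, 0, 2, 1, 2, 2, 1, 2, 1, 3, 1, 3, 3, 0, 3, 0, 3, 1, 2, 1, 3, 0, 2, 0, 3, 1, 3, 3, 1, 3, 1, 3, 1, 2, 0, 3, 0, 2, 1, 2, 2, 0, 2, 1, 3, 1, 3, 0, 2, 0, 3, 1, 3, 3, 1, 3, 1, 3, 3, 0, 3, 1, 2, 2, 0], 0, false),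
      ([0, 3, 0, 2, 0, 2, 0, 2, 0, 3, 0, 3, 3, 0, 3, 1, 3, 3, 0, 3, 1, 2, 2, 0, 2, 1, 2, 2, 1, 2, 2, 1, 2, 2, 1, 2, 1, 3, 3, 0, 3, 1, 2, 1, 3, 1, 3, 1, 2, 1, 3, 0, 3, 0, 2, 0, 2, 0, 2, 0, 3, 0, 3, 3, 0, 3, 1, 3, 1, 3, 1, 3, 1, 2, 1, 2, 0, 3, 0, 2, 0, 2, 0, 3, 0, 2, 1, 2, 2, 0, 3, 0, 3, 3, 0, 3, 1, 3, 1, 3, 3, 0, 2, 0, 2, 1, 3, 1, 2, 2, 0, 2, 0, 3, 0, 3, 3, 0, 3, 1, 3, 3, 0, 3, 1, 2, 2, 0, 2, 1, 2, 2, 1, 2, 1, 3, 1, 3, 3, 0, 3, 0, 3, 1, 2, 1], 1, false),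
      ([0, 3, 0, 2, 0, 2, 0, 2, 0, 3, 0, 3, 3, 0, 3, 1, 3, 3, 0, 3, 1, 2, 2, 0, 2, 1, 2, 2, 1, 2, 2, 1, 2, 2, 1, 2, 1, 3, 3, 0, 3, 1, 2, 1, 3, 1, 3, 1, 2, 1, 3, 0, 3, 0, 2, 0, 2, 0, 2, 0, 3, 0, 3, 3, 0, 3, 1, 3, 1, 3, 1, 3, 1, 2, 1, 2, 0, 3, 0, 2, 0, 2, 0, 3, 0, 2, 1, 2, 2, 0, 3, 0, 3, 3, 0, 3, 1, 3, 1, 3, 3, 0, 2, 0, 2, 1, 3, 1, 2, 2, 0, 2, 0, 3, 0, 3, 3, 0, 3, 1, 3, 3, 0, 3, 1, 2, 2, 0, 2, 1, 2, 2, 1, 2, 1, 3, 1, 3, 3, 0, 3, 0, 3, 1, 2, 1, 2, 2, 0, 2, 0, 3, 1, 3, 3, 1, 3, 1, 3, 1, 2], 1, true),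
      ([0, 3, 0, 2, 0, 2, 0, 2, 0, 3, 0, 3, 3, 0, 3, 1, 3, 3, 0, 3, 1, 2, 2, 0, 2, 1, 2, 2, 1, 2, 2, 1, 2, 2, 1, 2, 1, 3, 3, 0, 3, 1, 2, 1, 3, 1, 3, 1, 2, 1, 3, 0, 3, 0, 2, 0, 2, 0, 2, 0, 3, 0, 3, 3, 0, 3, 1, 3, 1, 3, 1, 3, 1, 2, 1, 2, 0, 3, 0, 2, 0, 2, 0, 3, 0, 2, 1, 2, 2, 0, 3, 0, 3, 3, 0, 3, 1, 3, 1, 3, 3, 0, 2, 0, 2, 1, 3, 1, 2, 2, 0, 2, 0, 3, 0, 3, 3, 0, 3, 1, 3, 3, 0, 3, 1, 2, 2, 0, 2, 1, 2, 2, 1, 2, 1, 3, 1, 3, 3, 0, 3, 0, 3, 1, 2, 1, 2, 2, 0, 2, 0, 3, 1, 3, 3, 1, 3, 1, 3, 1, 3, 3, 0, 3, 0, 2, 1, 2, 2, 0, 2, 1, 3, 1], 1, false),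
      ([0, 3, 0, 2, 0, 2, 0, 2, 0, 3, 0, 3, 3, 0, 3, 1, 3, 3, 0, 3, 1, 2, 2, 0, 2, 1, 2, 2, 1, 2, 2, 1, 2, 2, 1, 2, 1, 3, 3, 0, 3, 1, 2, 1, 3, 1, 3, 1, 2, 1, 3, 0, 3, 0, 2, 0, 2, 0, 2, 0, 3, 0, 3, 3, 0, 3, 1, 3, 1, 3, 1, 3, 1, 2, 1, 2, 0, 3, 0, 2, 0, 2, 0, 3, 0, 2, 1, 2, 2, 0, 3, 0, 3, 3, 0, 3, 1, 3, 1, 3, 3, 0, 2, 0, 2, 1, 3, 1, 2, 2, 0, 2, 0, 3, 0, 3, 3, 0, 3, 1, 3, 3, 0, 3, 1, 2, 2, 0, 2, 1, 2, 2, 1, 2, 1, 3, 1, 3, 3, 0, 3, 0, 3, 1, 2, 1, 2, 2, 0, 2, 0, 3, 1, 3, 3, 1, 3, 1, 3, 1, 3, 3, 0, 3, 0, 2, 1, 2, 2, 0, 2, 1, 3, 1, 2, 2, 0, 2, 0, 3, 1, 3, 3, 1, 3, 1, 3, 3, 0, 3, 1, 2, 2, 0, 2, 1, 2, 2, 1, 2, 1, 3, 1, 2], 1, true),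
      ([0, 3, 0, 2, 0, 2, 0, 2, 0, 3, 0, 3, 3, 0, 3, 1, 3, 3, 0, 3, 1, 2, 2, 0, 2, 1, 2, 2, 1, 2, 2, 1, 2, 2, 1, 2, 1, 3, 3, 0, 3, 1, 2, 1, 3, 1, 3, 1, 2, 1, 3, 0, 3, 0, 2, 0, 2, 0, 2, 0, 3, 0, 3, 3, 0, 3, 1, 3, 1, 3, 1, 3, 1, 2, 1, 2, 0, 3, 0, 2, 0, 2, 0, 3, 0, 2, 1, 2, 2, 0, 3, 0, 3, 3, 0, 3, 1, 3, 1, 3, 3, 0, 2, 0, 2, 1, 3, 1, 2, 2, 0, 2, 0, 3, 0, 3, 3, 0, 3, 1, 3, 3, 0, 3, 1, 2, 2, 0, 2, 1, 2, 2, 1, 2, 1, 3, 1, 3, 3, 0, 3, 0, 3, 1, 2, 1, 2, 2, 0, 2, 0, 3], 0, false),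
      ([0, 3, 0, 2, 0, 2, 0, 2, 0, 3, 0, 3, 3, 0, 3, 1, 3, 3, 0, 3, 1, 2, 2, 0, 2, 1, 2, 2, 1, 2, 2, 1, 2, 2, 1, 2, 1, 3, 3, 0, 3, 1, 2, 1, 3, 1, 3, 1, 2, 1, 3, 0, 3, 0, 2, 0, 2, 0, 2, 0, 3, 0, 3, 3, 0, 3, 1, 3, 1, 3, 1, 3, 1, 2, 1, 2, 0, 3, 0, 2, 0, 2, 0, 3, 0, 2, 1, 2, 2, 0, 3, 0, 3, 3, 0, 3, 1, 3, 1, 3, 3, 0, 2, 0, 2, 1, 3, 1, 2, 2, 0, 2, 0, 3, 0, 3, 3, 0, 3, 1, 3, 3, 0, 3, 1, 2, 2, 0, 2, 1, 2, 2, 1, 2, 1, 3, 1, 3, 3, 0, 3, 0, 3, 1, 2, 1, 2, 2, 0, 2, 0, 3, 0, 3, 3], 0, false),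
      ([0, 3, 0, 2, 0, 2, 0, 2, 0, 3, 0, 3, 3, 0, 3, 1, 3, 3, 0, 3, 1, 2, 2, 0, 2, 1, 2, 2, 1, 2, 2, 1, 2, 2, 1, 2, 1, 3, 3, 0, 3, 1, 2, 1, 3, 1, 3, 1, 2, 1, 3, 0, 3, 0, 2, 0, 2, 0, 2, 0, 3, 0, 3, 3, 0, 3, 1, 3, 1, 3, 1, 3, 1, 2, 1, 2, 0, 3, 0, 2, 0, 2, 0, 3, 0, 2, 1, 2, 2, 0, 3, 0, 3, 3, 0, 3, 1, 3, 1, 3, 3, 0, 2, 0, 2, 1, 3, 1, 2, 2, 0, 2, 0, 3, 0, 3, 3, 0, 3, 1, 3, 3, 0, 3, 1, 2, 2, 0, 2, 1, 2, 2, 1, 2, 1, 3, 1, 3, 3, 0, 3, 0, 3, 1, 2, 1, 2, 2, 0, 2, 0, 3, 0, 3, 3, 0, 3, 1, 3, 1, 3, 3, 0, 3, 0, 2, 1, 2, 2, 0, 2, 1, 3, 1, 2, 2, 0, 2, 0, 3], 0, false),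
      ([0, 3, 0, 2, 0, 2, 0, 2, 0, 3, 0, 3, 3, 0, 3, 1, 3, 3, 0, 3, 1, 2, 2, 0, 2, 1, 2, 2, 1, 2, 2, 1, 2, 2, 1, 2, 1, 3, 3, 0, 3, 1, 2, 1, 3, 1, 3, 1, 2, 1, 3, 0, 3, 0, 2, 0, 2, 0, 2, 0, 3, 0, 3, 3, 0, 3, 1, 3, 1, 3, 1, 3, 1, 2, 1, 2, 0, 3, 0, 2, 0, 2, 0, 3, 0, 2, 1, 2, 2, 0, 3, 0, 3, 3, 0, 3, 1, 3, 1, 3, 3, 0, 2, 0, 2, 1, 3, 1, 2, 2, 0, 2, 0, 3, 0, 3, 3, 0, 3, 1, 3, 3, 0, 3, 1, 2, 2, 0, 2, 1, 2, 2, 1, 2, 1, 3, 1, 3, 3, 0, 3, 0, 3, 1, 2, 1, 2, 2, 0, 2, 0, 3, 0, 3, 3, 0, 3, 1, 3, 1, 3, 3, 0, 3, 0, 2, 1, 2, 2, 0, 2, 1, 3, 1, 2, 2, 0, 2, 0, 3, 0, 3, 3], 0, false)]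

/-- The conjugates of relators behind relator 23. -/
def fivePrf23 : List (List ℕ × ℕ × Bool) :=
  [([0, 3, 0, 2, 0, 2, 0, 3, 0, 3, 1, 2, 1, 3, 1, 3, 1, 2, 1, 3, 0, 3, 0, 2, 0, 2, 0, 3, 0, 2, 1, 2, 1, 3, 1, 3, 1, 2, 2, 0, 2, 1, 3, 1, 2, 0, 2, 0, 3, 1, 3, 3, 0, 2, 0, 2, 0, 3, 0, 3, 1, 2, 1, 3, 1, 3, 1, 2, 1, 2, 0, 3, 0, 2, 0, 2, 0, 3, 0, 2, 1, 2, 2, 0, 3, 0, 3, 3, 0, 3, 1, 3, 3, 0, 3, 1, 2, 1, 3, 1, 3, 1, 2, 1, 2, 0, 3, 0, 2, 0, 2, 0, 3, 0, 2, 1, 2, 2, 0, 3, 0, 3, 3, 0, 3, 1, 3, 1, 3, 3, 3, 1, 2, 1, 2, 1, 3, 1, 2, 1, 2, 1, 3, 1, 2, 1, 3, 1, 3, 1, 2, 1, 3, 1, 3, 1, 2, 1, 3, 1, 3, 1], 6, false),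
      ([0, 3, 0, 2, 0, 2, 0, 3, 0, 3, 1, 2, 1, 3, 1, 3, 1, 2, 1, 3, 0, 3, 0, 2, 0, 2, 0, 3, 0, 2, 1, 2, 1, 3, 1, 3, 1, 2, 2, 0, 2, 1, 3, 1, 2, 0, 2, 0, 3, 1, 3, 3, 0, 2, 0, 2, 0, 3, 0, 3, 1, 2, 1, 3, 1, 3, 1, 2, 1, 2, 0, 3, 0, 2, 0, 2, 0, 3, 0, 2, 1, 2, 2, 0, 3, 0, 3, 3, 0, 3, 1, 3, 3, 0, 3, 1, 2, 1, 3, 1, 3, 1, 2, 1, 2, 0, 3, 0, 2, 0, 2, 0, 3, 0, 2, 1, 2, 2, 0, 3, 0, 3, 3, 0, 3, 1, 3, 1, 3, 3, 0, 3, 0, 3, 0, 2, 0, 2, 0, 3, 0, 2, 0, 2, 0, 3, 0, 2, 0, 2, 0, 3, 0, 2, 0, 3, 0, 3, 0, 2, 2], 1, true),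
      ([0, 3, 0, 2, 0, 2, 0, 3, 0, 3, 1, 2, 1, 3, 1, 3, 1, 2, 1, 3, 0, 3, 0, 2, 0, 2, 0, 3, 0, 2, 1, 2, 1, 3, 1, 3, 1, 2, 2, 0, 2, 1, 3, 1, 2, 0, 2, 0, 3, 1, 3, 3, 0, 2, 0, 2, 0, 3, 0, 3, 1, 2, 1, 3, 1, 3, 1, 2, 1, 2, 0, 3, 0, 2, 0, 2, 0, 3, 0, 2, 1, 2, 2, 0, 3, 0, 3, 3, 0, 3, 1, 3, 3, 0, 3, 1, 2, 1, 3, 1, 3, 1, 2, 1, 2, 0, 3, 0, 2, 0, 2, 0, 3, 0, 2, 1, 2, 2, 0, 3, 0, 3, 3, 0, 3, 1, 3, 1, 3, 3, 0, 3, 0, 3, 0, 2, 0, 2, 0, 3, 0, 2, 0], 0, true),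
      ([0, 3, 0, 2, 0, 2, 0, 3, 0, 3, 1, 2, 1, 3, 1, 3, 1, 2, 1, 3, 0, 3, 0, 2, 0, 2, 0, 3, 0, 2, 1, 2, 1, 3, 1, 3, 1, 2, 2, 0, 2, 1, 3, 1, 2, 0, 2, 0, 3, 1, 3, 3, 0, 2, 0, 2, 0, 3, 0, 3, 1, 2, 1, 3, 1, 3, 1, 2, 1, 2, 0, 3, 0, 2, 0, 2, 0, 3, 0, 2, 1, 2, 2, 0, 3, 0, 3, 3, 0, 3, 1, 3, 3, 0, 3, 1, 2, 1, 3, 1, 3, 1, 2, 1, 2, 0, 3, 0, 2, 0, 2, 0, 3, 0, 2, 1, 2, 2, 0, 3, 0, 3, 3, 0, 3, 1, 3, 1, 3, 3, 0, 3, 0, 3, 0], 0, true),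
      ([0, 3, 0, 2, 0, 2, 0, 3, 0, 3, 1, 2, 1, 3, 1, 3, 1, 2, 1, 3, 0, 3, 0, 2, 0, 2, 0, 3, 0, 2, 1, 2, 1, 3, 1, 3, 1, 2, 2, 0, 2, 1, 3, 1, 2, 0, 2, 0, 3, 1, 3, 3, 0, 2, 0, 2, 0, 3, 0, 3, 1, 2, 1, 3, 1, 3, 1, 2, 1, 2, 0, 3, 0, 2, 0, 2, 0, 3, 0, 2, 1, 2, 2, 0, 3, 0, 3, 3, 0, 3, 1, 3, 3, 0, 3, 1, 2, 1, 3, 1, 3, 1, 2, 1, 2, 0, 3, 0, 2, 0, 2, 0, 3, 0, 2, 1, 2, 2, 0, 3, 0, 3, 3, 0, 3, 1, 3, 1, 3, 3, 0, 3, 0, 3, 1, 2, 0, 2, 0], 0, true),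
      ([0, 3, 0, 2, 0, 2, 0, 3, 0, 3, 1, 2, 1, 3, 1, 3, 1, 2, 1, 3, 0, 3, 0, 2, 0, 2, 0, 3, 0, 2, 1, 2, 1, 3, 1, 3, 1, 2, 2, 0, 2, 1, 3, 1, 2, 0, 2, 0, 3, 1, 3, 3, 0, 2, 0, 2, 0, 3, 0, 3, 1, 2, 1, 3, 1, 3, 1, 2, 1, 2, 0, 3, 0, 2, 0, 2, 0, 3, 0, 2, 1, 2, 2, 0, 3, 0, 3, 3, 0, 3, 1, 3, 3, 0, 3, 1, 2, 1, 3, 1, 3, 1, 2, 1, 2, 0, 3, 0, 2, 0, 2, 0, 3, 0, 2, 1, 2, 2, 0, 3, 0, 3, 3, 0, 3, 1, 3, 1, 3, 3, 0, 3, 0, 3, 1, 2, 0, 2, 1, 3, 0, 0], 0, true),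
      ([0, 3, 0, 2, 0, 2, 0, 3, 0, 3, 1, 2, 1, 3, 1, 3, 1, 2, 1, 3, 0, 3, 0, 2, 0, 2, 0, 3, 0, 2, 1, 2, 1, 3, 1, 3, 1, 2, 2, 0, 2, 1, 3, 1, 2, 0, 2, 0, 3, 1, 3, 3, 0, 2, 0, 2, 0, 3, 0, 3, 1, 2, 1, 3, 1, 3, 1, 2, 1, 2, 0, 3, 0, 2, 0, 2, 0, 3, 0, 2, 1, 2, 2, 0, 3, 0, 3, 3, 0, 3, 1, 3, 3, 0, 3, 1, 2, 1, 3, 1, 3, 1, 2, 1, 2, 0, 3, 0, 2, 0, 2, 0, 3, 0, 2, 1, 2, 2, 0, 3, 0, 3, 3, 0, 3, 1, 3, 1, 3, 3, 0, 3, 0, 3, 1, 2, 0], 0, true),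
      ([0, 3, 0, 2, 0, 2, 0, 3, 0, 3, 1, 2, 1, 3, 1, 3, 1, 2, 1, 3, 0, 3, 0, 2, 0, 2, 0, 3, 0, 2, 1, 2, 1, 3, 1, 3, 1, 2, 2, 0, 2, 1, 3, 1, 2, 0, 2, 0, 3, 1, 3, 3, 0, 2, 0, 2, 0, 3, 0, 3, 1, 2, 1, 3, 1, 3, 1, 2, 1, 2, 0, 3, 0, 2, 0, 2, 0, 3, 0, 2, 1, 2, 2, 0, 3, 0, 3, 3, 0, 3, 1, 3, 3, 0, 3, 1, 2, 1, 3, 1, 3, 1, 2, 1, 2, 0, 3, 0, 2, 0, 2, 0, 3, 0, 2, 1, 2, 2, 0, 3, 0, 3, 3, 0, 3, 1, 3, 1, 3, 3, 0, 3, 0, 3, 1, 2, 1, 2, 1, 3, 1, 2, 1, 2, 0, 3, 0, 2, 0, 2, 0, 3, 0, 2, 0, 3, 0, 3, 0, 3, 3, 0, 3, 0, 3, 0], 0, true),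
      ([0, 3, 0, 2, 0, 2, 0, 3, 0, 3, 1, 2, 1, 3, 1, 3, 1, 2, 1, 3, 0, 3, 0, 2, 0, 2, 0, 3, 0, 2, 1, 2, 1, 3, 1, 3, 1, 2, 2, 0, 2, 1, 3, 1, 2, 0, 2, 0, 3, 1, 3, 3, 0, 2, 0, 2, 0, 3, 0, 3, 1, 2, 1, 3, 1, 3, 1, 2, 1, 2, 0, 3, 0, 2, 0, 2, 0, 3, 0, 2, 1, 2, 2, 0, 3, 0, 3, 3, 0, 3, 1, 3, 3, 0, 3, 1, 2, 1, 3, 1, 3, 1, 2, 1, 2, 0, 3, 0, 2, 0, 2, 0, 3, 0, 2, 1, 2, 2, 0, 3, 0, 3, 3, 0, 3, 1, 3, 1, 3, 3, 0, 3, 0, 3, 1, 2, 1, 2, 1, 3, 1, 2, 1, 2, 0, 3, 0, 2, 0, 2, 0, 3, 0, 2, 0, 0], 0, true),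
      ([0, 3, 0, 2, 0, 2, 0, 3, 0, 3, 1, 2, 1, 3, 1, 3, 1, 2, 1, 3, 0, 3, 0, 2, 0, 2, 0, 3, 0, 2, 1, 2, 1, 3, 1, 3, 1, 2, 2, 0, 2, 1, 3, 1, 2, 0, 2, 0, 3, 1, 3, 3, 0, 2, 0, 2, 0, 3, 0, 3, 1, 2, 1, 3, 1, 3, 1, 2, 1, 2, 0, 3, 0, 2, 0, 2, 0, 3, 0, 2, 1, 2, 2, 0, 3, 0, 3, 3, 0, 3, 1, 3, 3, 0, 3, 1, 2, 1, 3, 1, 3, 1, 2, 1, 2, 0, 3, 0, 2, 0, 2, 0, 3, 0, 2, 1, 2, 2, 0, 3, 0, 3, 3, 0, 3, 1, 3, 1, 3, 3, 0, 3, 0, 3, 1, 2, 1, 2, 1, 3, 1, 2, 1, 2, 0, 3, 0, 2, 0, 2, 0, 3, 0, 2, 1], 1, false),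
      ([0, 3, 0, 2, 0, 2, 0, 3, 0, 3, 1, 2, 1, 3, 1, 3, 1, 2, 1, 3, 0, 3, 0, 2, 0, 2, 0, 3, 0, 2, 1, 2, 1, 3, 1, 3, 1, 2, 2, 0, 2, 1, 3, 1, 2, 0, 2, 0, 3, 1, 3, 3, 0, 2, 0, 2, 0, 3, 0, 3, 1, 2, 1, 3, 1, 3, 1, 2, 1, 2, 0, 3, 0, 2, 0, 2, 0, 3, 0, 2, 1, 2, 2, 0, 3, 0, 3, 3, 0, 3, 1, 3, 3, 0, 3, 1, 2, 1, 3, 1, 3, 1, 2, 1, 2, 0, 3, 0, 2, 0, 2, 0, 3, 0, 2, 1, 2, 2, 0, 3, 0, 3, 3, 0, 3, 1, 3, 1, 3, 3, 0, 3, 0, 3, 1, 2, 1, 2, 1, 3, 1, 2, 1, 2, 0, 3, 0, 2, 0, 2, 0, 3, 0, 2, 1, 2, 2, 0, 3, 0, 3, 3, 0, 3, 0, 0], 0, true),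
      ([0, 3, 0, 2, 0, 2, 0, 3, 0, 3, 1, 2, 1, 3, 1, 3, 1, 2, 1, 3, 0, 3, 0, 2, 0, 2, 0, 3, 0, 2, 1, 2, 1, 3, 1, 3, 1, 2, 2, 0, 2, 1, 3, 1, 2, 0, 2, 0, 3, 1, 3, 3, 0, 2, 0, 2, 0, 3, 0, 3, 1, 2, 1, 3, 1, 3, 1, 2, 1, 2, 0, 3, 0, 2, 0, 2, 0, 3, 0, 2, 1, 2, 2, 0, 3, 0, 3, 3, 0, 3, 1, 3, 3, 0, 3, 1, 2, 1, 3, 1, 3, 1, 2, 1, 2, 0, 3, 0, 2, 0, 2, 0, 3, 0, 2, 1, 2, 2, 0, 3, 0, 3, 3, 0, 3, 1, 3, 1, 3, 3, 0, 3, 0, 3, 1, 2, 1, 2, 1, 3, 1, 2, 1, 2, 0, 3, 0, 2, 0, 2, 0, 3, 0, 2, 1, 2, 2, 0, 3, 0, 3, 3, 0, 3, 1, 3, 1, 2], 1, true),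
      ([0, 3, 0, 2, 0, 2, 0, 3, 0, 3, 1, 2, 1, 3, 1, 3, 1, 2, 1, 3, 0, 3, 0, 2, 0, 2, 0, 3, 0, 2, 1, 2, 1, 3, 1, 3, 1, 2, 2, 0, 2, 1, 3, 1, 2, 0, 2, 0, 3, 1, 3, 3, 0, 2, 0, 2, 0, 3, 0, 3, 1, 2, 1, 3, 1, 3, 1, 2, 1, 2, 0, 3, 0, 2, 0, 2, 0, 3, 0, 2, 1, 2, 2, 0, 3, 0, 3, 3, 0, 3, 1, 3, 3, 0, 3, 1, 2, 1, 3, 1, 3, 1, 2, 1, 2, 0, 3, 0, 2, 0, 2, 0, 3, 0, 2, 1, 2, 2, 0, 3, 0, 3, 3, 0, 3, 1, 3, 1, 3, 3, 0, 3, 0, 3, 1, 2, 1, 2, 2, 0, 3, 0, 2, 1, 2, 2, 0, 2, 1, 2, 2, 1, 2, 1, 3, 3, 0, 3, 1, 2, 1, 3, 1, 3, 1, 2, 1, 3, 0, 3, 0, 2, 0, 2, 0, 3, 0, 2, 1, 2, 1, 3, 1, 3, 1, 2, 2, 0, 2, 1, 3, 1, 3, 0, 2, 0, 3, 1, 3, 3, 0, 2, 0, 2, 0, 3, 0, 3, 1,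 2, 1, 3, 1, 3, 1, 2, 1, 2, 0, 3, 0, 2, 0, 2, 0, 3, 0, 2, 0, 0], 0, false),
      ([0, 3, 0, 2, 0, 2, 0, 3, 0, 3, 1, 2, 1, 3, 1, 3, 1, 2, 1, 3, 0, 3, 0, 2, 0, 2, 0, 3, 0, 2, 1, 2, 1, 3, 1, 3, 1, 2, 2, 0, 2, 1, 3, 1, 2, 0, 2, 0, 3, 1, 3, 3, 0, 2, 0, 2, 0, 3, 0, 3, 1, 2, 1, 3, 1, 3, 1, 2, 1, 2, 0, 3, 0, 2, 0, 2, 0, 3, 0, 2, 1, 2, 2, 0, 3, 0, 3, 3, 0, 3, 1, 3, 3, 0, 3, 1, 2, 1, 3, 1, 3, 1, 2, 1, 2, 0, 3, 0, 2, 0, 2, 0, 3, 0, 2, 1, 2, 2, 0, 3, 0, 3, 3, 0, 3, 1, 3, 1, 3, 3, 0, 3, 0, 3, 1, 2, 1, 2, 2, 0, 3, 0, 2, 1, 2, 2, 0, 2, 1, 2, 2, 1, 2, 1, 3, 3, 0, 3, 1, 2, 1, 3, 1, 3, 1, 2, 1, 3, 0, 3, 0, 2, 0, 2, 0, 3, 0, 2, 1, 2, 1, 3, 1, 3,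 1, 2, 2, 0, 2, 1, 3, 1, 3, 0, 2, 0, 3, 1, 3, 3, 0, 2, 0, 2, 0, 3, 0, 3, 0, 0], 0, false),
      ([0, 3, 0, 2, 0, 2, 0, 3, 0, 3, 1, 2, 1, 3, 1, 3, 1, 2, 1, 3, 0, 3, 0, 2, 0, 2, 0, 3, 0, 2, 1, 2, 1, 3, 1, 3, 1, 2, 2, 0, 2, 1, 3, 1, 2, 0, 2, 0, 3, 1, 3, 3, 0, 2, 0, 2, 0, 3, 0, 3, 1, 2, 1, 3, 1, 3, 1, 2, 1, 2, 0, 3, 0, 2, 0, 2, 0, 3, 0, 2, 1, 2, 2, 0, 3, 0, 3, 3, 0, 3, 1, 3, 3, 0, 3, 1, 2, 1, 3, 1, 3, 1, 2, 1, 2, 0, 3, 0, 2, 0, 2, 0, 3, 0, 2, 1, 2, 2, 0, 3, 0, 3, 3, 0, 3, 1, 3, 1, 3, 3, 0, 3, 0, 3, 1, 2, 1, 2, 2, 0, 3, 0, 2, 1, 2, 2, 0, 2, 1, 2, 2, 1, 2, 1, 3, 3, 0, 3, 1, 2, 1, 3, 1, 3, 1, 2, 1, 3, 0, 3, 0, 2, 0, 2, 0, 3, 0, 2, 1,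 2, 1, 3, 1, 3, 1, 2, 2, 0, 2, 1, 3, 1, 3, 0, 2, 0, 3, 1, 3, 3, 0, 3, 0, 2, 1, 2, 2, 2, 0, 3, 0, 3, 0, 2, 0, 3, 0, 3, 0, 2, 0, 3, 0, 3], 6, true),
      ([0, 3, 0, 2, 0, 2, 0, 3, 0, 3, 1, 2, 1, 3, 1, 3, 1, 2, 1, 3, 0, 3, 0, 2, 0, 2, 0, 3, 0, 2, 1, 2, 1, 3, 1, 3, 1, 2, 2, 0, 2, 1, 3, 1, 2, 0, 2, 0, 3, 1, 3, 3, 0, 2, 0, 2, 0, 3, 0, 3, 1, 2, 1, 3, 1, 3, 1, 2, 1, 2, 0, 3, 0, 2, 0, 2, 0, 3, 0, 2, 1, 2, 2, 0, 3, 0, 3, 3, 0, 3, 1, 3, 3, 0, 3, 1, 2, 1, 3, 1, 3, 1, 2, 1, 2, 0, 3, 0, 2, 0, 2, 0, 3, 0, 2, 1, 2, 2, 0, 3, 0, 3, 3, 0, 3, 1, 3, 1, 3, 3, 0, 3, 0, 3, 1, 2, 1, 2, 2, 0, 3, 0, 2, 1, 2, 2, 0, 2, 1, 2, 2, 1, 2, 1, 3, 3, 0, 3, 1, 2,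 1, 3, 1, 3, 1, 2, 1, 3, 0, 3, 0, 2, 0, 2, 0, 3, 0, 2, 1, 2, 1, 3, 1, 3, 1, 2, 2, 0, 2, 1, 3, 1, 3, 0, 2, 0, 3, 1, 3, 3, 0, 3, 0, 2, 1, 2, 2, 1, 2, 1, 3, 1, 3, 1, 2, 1, 3, 1, 3, 1, 2, 1, 3], 0, false),
      ([0, 3, 0, 2, 0, 2, 0, 3, 0, 3, 1, 2, 1, 3, 1, 3, 1, 2, 1, 3, 0, 3, 0, 2, 0, 2, 0, 3, 0, 2, 1, 2, 1, 3, 1, 3, 1, 2, 2, 0, 2, 1, 3, 1, 2, 0, 2, 0, 3, 1, 3, 3, 0, 2, 0, 2, 0, 3, 0, 3, 1, 2, 1, 3, 1, 3, 1, 2, 1, 2, 0, 3, 0, 2, 0, 2, 0, 3, 0, 2, 1, 2, 2, 0, 3, 0, 3, 3, 0, 3, 1, 3, 3, 0, 3, 1, 2, 1, 3, 1, 3, 1, 2, 1, 2, 0, 3, 0, 2, 0, 2, 0, 3, 0, 2, 1, 2, 2, 0, 3, 0, 3, 3, 0, 3, 1, 3, 1, 3, 3, 0, 3, 0, 3, 1, 2, 1, 2, 2, 0, 3, 0,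 2, 1, 2, 2, 0, 2, 1, 2, 2, 1, 2, 1, 3, 3, 0, 3, 1, 2, 1, 3, 1, 3, 1, 2, 1, 3, 0, 3, 0, 2, 0, 2, 0, 3, 0, 2, 1, 2, 1, 3, 1, 3, 1, 2, 2, 0, 2, 1, 3, 1, 3, 0, 2, 0, 3, 1, 3, 3, 0, 3, 0, 2, 1, 2, 2], 0, false),
      ([0, 3, 0, 2, 0, 2, 0, 3, 0, 3, 1, 2, 1, 3, 1, 3, 1, 2, 1, 3, 0, 3, 0, 2, 0, 2, 0, 3, 0, 2, 1, 2, 1, 3, 1, 3, 1, 2, 2, 0, 2, 1, 3, 1, 2, 0, 2, 0, 3, 1, 3, 3, 0, 2, 0, 2, 0, 3, 0, 3, 1, 2, 1, 3, 1, 3, 1, 2, 1, 2, 0, 3, 0, 2, 0, 2, 0, 3, 0, 2, 1, 2, 2, 0, 3, 0, 3, 3, 0, 3, 1, 3, 3, 0, 3, 1, 2, 1, 3, 1, 3, 1, 2, 1, 2, 0, 3, 0, 2, 0, 2, 0, 3, 0, 2, 1, 2, 2, 0, 3, 0, 3, 3, 0, 3, 1, 3, 1, 3, 3, 0, 3, 0, 3, 1, 2, 1, 2, 2, 0,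 3, 0, 2, 1, 2, 2, 0, 2, 1, 2, 2, 1, 2, 1, 3, 3, 0, 3, 1, 2, 1, 3, 1, 3, 1, 2, 1, 3, 0, 3, 0, 2, 0, 2, 0, 3, 0, 2, 1, 2, 1, 3, 1, 3, 1, 2, 2, 0, 2, 1, 3, 1, 3, 0, 2, 0, 3, 1, 3, 3, 0, 3, 0, 2, 1, 2, 2, 0, 2, 1, 3, 1, 3, 1, 2, 1, 3, 1, 3, 1, 2, 1, 3, 0, 3, 1, 2], 0, false),
      ([0, 3, 0, 2, 0, 2, 0, 3, 0, 3, 1, 2, 1, 3, 1, 3, 1, 2, 1, 3, 0, 3, 0, 2, 0, 2, 0, 3, 0, 2, 1, 2, 1, 3, 1, 3, 1, 2, 2, 0, 2, 1, 3, 1, 2, 0, 2, 0, 3, 1, 3, 3, 0, 2, 0, 2, 0, 3, 0, 3, 1, 2, 1, 3, 1, 3, 1, 2, 1, 2, 0, 3, 0, 2, 0, 2, 0, 3, 0, 2, 1, 2, 2, 0, 3, 0, 3, 3, 0, 3, 1, 3, 3, 0, 3, 1, 2, 1, 3, 1, 3, 1, 2, 1, 2, 0, 3, 0, 2, 0, 2, 0, 3, 0, 2, 1, 2, 2,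 0, 3, 0, 3, 3, 0, 3, 1, 3, 1, 3, 3, 0, 3, 0, 3, 1, 2, 1, 2, 2, 0, 3, 0, 2, 1, 2, 2, 0, 2, 1, 2, 2, 1, 2, 1, 3, 3, 0, 3, 1, 2, 1, 3, 1, 3, 1, 2, 1, 3, 0, 3, 0, 2, 0, 2, 0, 3, 0, 2, 1, 2, 1, 3, 1, 3, 1, 2, 2, 0, 2, 1, 3, 1, 3, 0, 2, 0, 3, 1, 3, 3, 0, 3, 0, 2, 1, 2, 2, 0, 2, 1, 3, 1, 3, 1, 2, 1, 3, 1, 3, 1, 2, 1, 3, 0, 3, 0], 0, false),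
      ([0, 3, 0, 2, 0, 2, 0, 3, 0, 3, 1, 2, 1, 3, 1, 3, 1, 2, 1, 3, 0, 3, 0, 2, 0, 2, 0, 3, 0, 2, 1, 2, 1, 3, 1, 3, 1, 2, 2, 0, 2, 1, 3, 1, 2, 0, 2, 0, 3, 1, 3, 3, 0, 2, 0, 2, 0, 3, 0, 3, 1, 2, 1, 3, 1, 3, 1, 2, 1, 2, 0, 3, 0, 2, 0, 2, 0, 3, 0, 2, 1, 2, 2, 0, 3, 0, 3, 3, 0, 3, 1, 3, 3, 0, 3, 1, 2, 1, 3, 1, 3, 1, 2, 1, 2, 0, 3, 0, 2, 0, 2, 0, 3, 0, 2, 1, 2, 2, 0, 3, 0, 3, 3, 0, 3, 1, 3, 1, 3, 3, 0, 3, 0, 3, 1, 2, 1, 2, 2, 0, 3, 0, 2, 1, 2, 2, 0, 2, 1, 2, 2, 1, 2, 1, 3, 3, 0, 3, 1, 2, 1, 3, 1, 3, 1, 2, 1, 3, 0, 3, 0, 2, 0, 2, 0, 3, 0, 2, 1, 2, 1, 3, 1, 3, 1, 2, 2, 0, 2, 1, 3, 1, 3, 0, 2, 0, 3, 1, 3, 3, 0, 3, 0, 2, 1, 2, 2, 0, 2,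 1, 3, 1, 3, 1, 2, 1, 3, 1, 3, 1, 2, 1, 3, 0, 3, 0, 2, 0, 2, 1, 3, 1, 2, 1, 2, 1, 3, 1, 2], 1, true),
      ([0, 3, 0, 2, 0, 2, 0, 3, 0, 3, 1, 2, 1, 3, 1, 3, 1, 2, 1, 3, 0, 3, 0, 2, 0, 2, 0, 3, 0, 2, 1, 2, 1, 3, 1, 3, 1, 2, 2, 0, 2, 1, 3, 1, 2, 0, 2, 0, 3, 1, 3, 3, 0, 2, 0, 2, 0, 3, 0, 3, 1, 2, 1, 3, 1, 3, 1, 2, 1, 2, 0, 3, 0, 2, 0, 2, 0, 3, 0, 2, 1, 2, 2, 0, 3, 0, 3, 3, 0, 3, 1, 3, 3, 0, 3, 1, 2, 1, 3, 1, 3, 1, 2, 1, 2, 0, 3, 0, 2, 0, 2, 0, 3, 0, 2, 1, 2, 2, 0, 3, 0, 3, 3, 0, 3, 1, 3, 1, 3, 3, 0, 3, 0, 3, 1, 2, 1, 2, 2, 0, 3, 0, 2, 1, 2, 2, 0, 2, 1, 2, 2, 1, 2, 1, 3, 3, 0, 3, 1, 2, 1, 3, 1, 3, 1, 2, 1, 3, 0, 3, 0, 2, 0, 2, 0,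 3, 0, 2, 1, 2, 1, 3, 1, 3, 1, 2, 2, 0, 2, 1, 3, 1, 3, 0, 2, 0, 3, 1, 3, 3, 0, 3, 0, 2, 1, 2, 2, 0, 2, 1, 3, 1, 3, 1, 2, 1, 3, 1, 3, 1, 2, 1, 3, 0, 3, 0, 2, 0, 2, 1, 3, 1, 2, 1, 2, 1, 3, 1, 3, 3, 1, 2, 1], 1, false),
      ([0, 3, 0, 2, 0, 2, 0, 3, 0, 3, 1, 2, 1, 3, 1, 3, 1, 2, 1, 3, 0, 3, 0, 2, 0, 2, 0, 3, 0, 2, 1, 2, 1, 3, 1, 3, 1, 2, 2, 0, 2, 1, 3, 1, 2, 0, 2, 0, 3, 1, 3, 3, 0, 2, 0, 2, 0, 3, 0, 3, 1, 2, 1, 3, 1, 3, 1, 2, 1, 2, 0, 3, 0, 2, 0, 2, 0, 3, 0, 2, 1, 2, 2, 0, 3, 0, 3, 3, 0, 3, 1, 3, 3, 0, 3, 1, 2, 1, 3, 1, 3, 1, 2, 1, 2, 0, 3, 0, 2, 0, 2, 0, 3, 0, 2, 1, 2, 2, 0, 3, 0, 3, 3, 0, 3, 1, 3, 1, 3, 3, 0, 3, 0, 3, 1, 2, 1,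 2, 2, 0, 3, 0, 2, 1, 2, 2, 0, 2, 1, 2, 2, 1, 2, 1, 3, 3, 0, 3, 1, 2, 1, 3, 1, 3, 1, 2, 1, 3, 0, 3, 0, 2, 0, 2, 0, 3, 0, 2, 1, 2, 1, 3, 1, 3, 1, 2, 2, 0, 2, 1, 3, 1, 3, 0, 2, 0, 3, 1, 3, 3, 0, 3, 0, 2, 1, 2, 2, 0, 2, 1, 3, 1, 3, 1, 2, 1, 3, 1, 3, 1, 2, 1, 3, 0, 3, 0, 2, 0, 2, 1, 3, 1, 2, 1, 2, 1, 3, 1, 3, 3], 0, false),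
      ([0, 3, 0, 2, 0, 2, 0, 3, 0, 3, 1, 2, 1, 3, 1, 3, 1, 2, 1, 3, 0, 3, 0, 2, 0, 2, 0, 3, 0, 2, 1, 2, 1, 3, 1, 3, 1, 2, 2, 0, 2, 1, 3, 1, 2, 0, 2, 0, 3, 1, 3, 3, 0, 2, 0, 2, 0, 3, 0, 3, 1, 2, 1, 3, 1, 3, 1, 2, 1, 2, 0, 3, 0, 2, 0, 2, 0, 3, 0, 2, 1, 2, 2, 0, 3, 0, 3, 3, 0, 3, 1, 3, 3, 0, 3, 1, 2, 1, 3, 1, 3, 1, 2, 1, 2, 0, 3, 0, 2, 0, 2, 0, 3, 0, 2, 1, 2, 2, 0, 3, 0, 3, 3, 0, 3, 1, 3, 1, 3, 3, 0, 3, 0, 3, 1, 2, 1, 2, 2, 0, 3, 0, 2, 1, 2, 2, 0, 2, 1, 2, 2, 1, 2, 1, 3, 3, 0, 3, 1, 2, 1, 3, 1, 3, 1, 2, 1, 3, 0, 3, 0, 2, 0, 2, 0, 3, 0, 2, 1, 2, 1, 3, 1, 3, 1, 2, 2, 0, 2, 1, 3, 1, 3, 0, 2, 0, 3, 1, 3, 3, 0, 3, 0, 2, 1, 2, 2, 0, 2],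 0, false),
      ([0, 3, 0, 2, 0, 2, 0, 3, 0, 3, 1, 2, 1, 3, 1, 3, 1, 2, 1, 3, 0, 3, 0, 2, 0, 2, 0, 3, 0, 2, 1, 2, 1, 3, 1, 3, 1, 2, 2, 0, 2, 1, 3, 1, 2, 0, 2, 0, 3, 1, 3, 3, 0, 2, 0, 2, 0, 3, 0, 3, 1, 2, 1, 3, 1, 3, 1, 2, 1, 2, 0, 3, 0, 2, 0, 2, 0, 3, 0, 2, 1, 2, 2, 0, 3, 0, 3, 3, 0, 3, 1, 3, 3, 0, 3, 1, 2, 1, 3, 1, 3, 1, 2, 1, 2, 0, 3, 0, 2, 0, 2, 0, 3, 0, 2, 1, 2, 2, 0, 3, 0, 3, 3, 0, 3, 1, 3, 1, 3, 3, 0, 3, 0, 3, 1, 2, 1, 2, 2, 0, 3, 0, 2, 1, 2, 2, 0, 2, 1, 2, 2, 1, 2, 1, 3, 3, 0, 3, 1, 2, 1, 3, 1, 3, 1, 2, 1, 3, 0, 3, 0, 2, 0, 2, 0, 3, 0, 2, 1, 2, 1, 3, 1, 3, 1, 2, 2, 0, 2, 1, 3, 1, 3, 0, 2, 0, 3, 1, 3, 3, 0, 3, 0, 2, 1,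 2, 2, 0, 2, 0, 3, 1, 3, 1, 2, 1, 3, 1, 3, 1, 2, 1, 3, 0, 3, 0, 2, 0, 2], 0, false),
      ([0, 3, 0, 2, 0, 2, 0, 3, 0, 3, 1, 2, 1, 3, 1, 3, 1, 2, 1, 3, 0, 3, 0, 2, 0, 2, 0, 3, 0, 2, 1, 2, 1, 3, 1, 3, 1, 2, 2, 0, 2, 1, 3, 1, 2, 0, 2, 0, 3, 1, 3, 3, 0, 2, 0, 2, 0, 3, 0, 3, 1, 2, 1, 3, 1, 3, 1, 2, 1, 2, 0, 3, 0, 2, 0, 2, 0, 3, 0, 2, 1, 2, 2, 0, 3, 0, 3, 3, 0, 3, 1, 3, 3, 0, 3, 1, 2, 1, 3, 1, 3, 1, 2, 1, 2, 0, 3, 0, 2, 0, 2, 0, 3, 0, 2, 1, 2, 2, 0, 3, 0, 3, 3, 0, 3, 1, 3, 1, 3, 3, 0, 3, 0, 3, 1, 2, 1, 2, 2, 0, 3, 0, 2, 1, 2, 2, 0, 2, 1, 2, 2, 1, 2, 1, 3, 3, 1, 3, 1, 2, 1, 3, 1, 3, 1, 2, 1, 3, 0, 3, 0, 2, 0, 2], 0, true),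
      ([0, 3, 0, 2, 0, 2, 0, 3, 0, 3, 1, 2, 1, 3, 1, 3, 1, 2, 1, 3, 0, 3, 0, 2, 0, 2, 0, 3, 0, 2, 1, 2, 1, 3, 1, 3, 1, 2, 2, 0, 2, 1, 3, 1, 2, 0, 2, 0, 3, 1, 3, 3, 0, 2, 0, 2, 0, 3, 0, 3, 1, 2, 1, 3, 1, 3, 1, 2, 1, 2, 0, 3, 0, 2, 0, 2, 0, 3, 0, 2, 1, 2, 2, 0, 3, 0, 3, 3, 0, 3, 1, 3, 3, 0, 3, 1, 2, 1, 3, 1, 3, 1, 2, 1, 2, 0, 3, 0, 2, 0, 2, 0, 3, 0, 2, 1, 2, 2, 0, 3, 0, 3, 3, 0, 3, 1, 3, 1, 3, 3, 0, 3, 0, 3, 1, 2, 1, 2, 2, 0, 3, 0, 2, 1, 2, 2, 0, 2, 1, 2, 2, 1, 2, 1, 3, 1], 0, true),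
      ([0, 3, 0, 2, 0, 2, 0, 3, 0, 3, 1, 2, 1, 3, 1, 3, 1, 2, 1, 3, 0, 3, 0, 2, 0, 2, 0, 3, 0, 2, 1, 2, 1, 3, 1, 3, 1, 2, 2, 0, 2, 1, 3, 1, 2, 0, 2, 0, 3, 1, 3, 3, 0, 2, 0, 2, 0, 3, 0, 3, 1, 2, 1, 3, 1, 3, 1, 2, 1, 2, 0, 3, 0, 2, 0, 2, 0, 3, 0, 2, 1, 2, 2, 0, 3, 0, 3, 3, 0, 3, 1, 3, 3, 0, 3, 1, 2, 1, 3, 1, 3, 1, 2, 1, 2, 0, 3, 0, 2, 0, 2, 0, 3, 0, 2, 1, 2, 2, 0, 3, 0, 3, 3, 0, 3, 1, 3, 1, 3, 3, 0, 3, 0, 3, 1, 2, 1, 2, 2, 0, 3, 0, 2, 1, 2, 2, 0, 2, 1, 2, 2, 1, 2, 1, 3, 1, 1, 3, 1, 3, 1, 2, 1, 3, 1, 3, 1, 2, 1, 3, 0, 3, 0, 2, 0, 2, 1, 3, 1, 2, 1, 2, 1, 3, 1, 3, 3], 0, true),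
      ([0, 3, 0, 2, 0, 2, 0, 3, 0, 3, 1, 2, 1, 3, 1, 3, 1, 2, 1, 3, 0, 3, 0, 2, 0, 2, 0, 3, 0, 2, 1, 2, 1, 3, 1, 3, 1, 2, 2, 0, 2, 1, 3, 1, 2, 0, 2, 0, 3, 1, 3, 3, 0, 2, 0, 2, 0, 3, 0, 3, 1, 2, 1, 3, 1, 3, 1, 2, 1, 2, 0, 3, 0, 2, 0, 2, 0, 3, 0, 2, 1, 2, 2, 0, 3, 0, 3, 3, 0, 3, 1, 3, 3, 0, 3, 1, 2, 1, 3, 1, 3, 1, 2, 1, 2, 0, 3, 0, 2, 0, 2, 0, 3, 0, 2, 1, 2, 2, 0, 3, 0, 3, 3, 0, 3, 1, 3, 1, 3, 3, 0, 3, 0, 3, 1, 2, 1, 2, 2, 0, 3, 0, 2, 1, 2, 2, 0, 2, 1, 2, 2, 1, 2, 1, 3, 1, 1, 3, 1, 3, 1, 2, 1, 3, 1, 3, 1, 2, 1, 3, 0, 3, 0, 2, 0, 2, 1, 3, 1, 2, 1, 2, 1, 3, 1, 3, 3, 1, 2, 1], 1, true),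
      ([0, 3, 0, 2, 0, 2, 0, 3, 0, 3, 1, 2, 1, 3, 1, 3, 1, 2, 1, 3, 0, 3, 0, 2, 0, 2, 0, 3, 0, 2, 1, 2, 1, 3, 1, 3, 1, 2, 2, 0, 2, 1, 3, 1, 2, 0, 2, 0, 3, 1, 3, 3, 0, 2, 0, 2, 0, 3, 0, 3, 1, 2, 1, 3, 1, 3, 1, 2, 1, 2, 0, 3, 0, 2, 0, 2, 0, 3, 0, 2, 1, 2, 2, 0, 3, 0, 3, 3, 0, 3, 1, 3, 3, 0, 3, 1, 2, 1, 3, 1, 3, 1, 2, 1, 2, 0, 3, 0, 2, 0, 2, 0, 3, 0, 2, 1, 2, 2, 0, 3, 0, 3, 3, 0, 3, 1, 3, 1, 3, 3, 0, 3, 0, 3, 1, 2, 1, 2, 2, 0, 3, 0, 2, 1, 2, 2, 0, 2, 1, 2, 2, 1, 2, 1, 3, 1, 1, 3, 1, 3, 1, 2, 1, 3, 1, 3, 1, 2, 1, 3, 0, 3, 0, 2, 0, 2, 1, 3, 1, 2, 1, 2, 1, 3, 1, 2], 1, false),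
      ([0, 3, 0, 2, 0, 2, 0, 3, 0, 3, 1, 2, 1, 3, 1, 3, 1, 2, 1, 3, 0, 3, 0, 2, 0, 2, 0, 3, 0, 2, 1, 2, 1, 3, 1, 3, 1, 2, 2, 0, 2, 1, 3, 1, 2, 0, 2, 0, 3, 1, 3, 3, 0, 2, 0, 2, 0, 3, 0, 3, 1, 2, 1, 3, 1, 3, 1, 2, 1, 2, 0, 3, 0, 2, 0, 2, 0, 3, 0, 2, 1, 2, 2, 0, 3, 0, 3, 3, 0, 3, 1, 3, 3, 0, 3, 1, 2, 1, 3, 1, 3, 1, 2, 1, 2, 0, 3, 0, 2, 0, 2, 0, 3, 0, 2, 1, 2, 2, 0, 3, 0, 3, 3, 0, 3, 1, 3, 1, 3, 3, 0, 3, 0, 3, 1, 2, 1, 2, 2, 0, 3, 0, 2, 1, 2, 2, 0, 2, 1, 2, 2, 1, 2, 1, 3, 1, 1, 3, 1, 3, 1, 2, 1, 3, 1, 3, 1, 2, 1, 3, 0, 3, 0], 0, true),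
      ([0, 3, 0, 2, 0, 2, 0, 3, 0, 3, 1, 2, 1, 3, 1, 3, 1, 2, 1, 3, 0, 3, 0, 2, 0, 2, 0, 3, 0, 2, 1, 2, 1, 3, 1, 3, 1, 2, 2, 0, 2, 1, 3, 1, 2, 0, 2, 0, 3, 1, 3, 3, 0, 2, 0, 2, 0, 3, 0, 3, 1, 2, 1, 3, 1, 3, 1, 2, 1, 2, 0, 3, 0, 2, 0, 2, 0, 3, 0, 2, 1, 2, 2, 0, 3, 0, 3, 3, 0, 3, 1, 3, 3, 0, 3, 1, 2, 1, 3, 1, 3, 1, 2, 1, 2, 0, 3, 0, 2, 0, 2, 0, 3, 0, 2, 1, 2, 2, 0, 3, 0, 3, 3, 0, 3, 1, 3, 1, 3, 3, 0, 3, 0, 3, 1, 2, 1, 2, 2, 0, 3, 0, 2, 1, 2, 2, 0, 2, 1, 2, 2, 1, 2, 1, 3, 1, 1, 3, 1, 3, 1, 2, 1, 3, 1, 3, 1, 2, 1, 3, 0, 3, 1, 2], 0, true),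
      ([0, 3, 0, 2, 0, 2, 0, 3, 0, 3, 1, 2, 1, 3, 1, 3, 1, 2, 1, 3, 0, 3, 0, 2, 0, 2, 0, 3, 0, 2, 1, 2, 1, 3, 1, 3, 1, 2, 2, 0, 2, 1, 3, 1, 2, 0, 2, 0, 3, 1, 3, 3, 0, 2, 0, 2, 0, 3, 0, 3, 1, 2, 1, 3, 1, 3, 1, 2, 1, 2, 0, 3, 0, 2, 0, 2, 0, 3, 0, 2, 1, 2, 2, 0, 3, 0, 3, 3, 0, 3, 1, 3, 3, 0, 3, 1, 2, 1, 3, 1, 3, 1, 2, 1, 2, 0, 3, 0, 2, 0, 2, 0, 3, 0, 2, 1, 2, 2, 0, 3, 0, 3, 3, 0, 3, 1, 3, 1, 3, 3, 0, 3, 0, 3, 1, 2, 1, 2, 2, 0, 3, 0, 2, 1, 2, 2, 0, 2, 1, 2, 2, 1, 2, 1, 3, 1, 3, 1], 0, true),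
      ([0, 3, 0, 2, 0, 2, 0, 3, 0, 3, 1, 2, 1, 3, 1, 3, 1, 2, 1, 3, 0, 3, 0, 2, 0, 2, 0, 3, 0, 2, 1, 2, 1, 3, 1, 3, 1, 2, 2, 0, 2, 1, 3, 1, 2, 0, 2, 0, 3, 1, 3, 3, 0, 2, 0, 2, 0, 3, 0, 3, 1, 2, 1, 3, 1, 3, 1, 2, 1, 2, 0, 3, 0, 2, 0, 2, 0, 3, 0, 2, 1, 2, 2, 0, 3, 0, 3, 3, 0, 3, 1, 3, 3, 0, 3, 1, 2, 1, 3, 1, 3, 1, 2, 1, 2, 0, 3, 0, 2, 0, 2, 0, 3, 0, 2, 1, 2, 2, 0, 3, 0, 3, 3, 0, 3, 1, 3, 1, 3, 3, 0, 3, 0, 3, 1, 2, 1, 2, 2, 0, 3, 0, 2, 1, 2, 2, 0, 2, 1, 2, 2, 1, 2, 1, 3, 1, 3, 1, 1, 2, 1, 3, 1, 3, 1, 2, 1, 3, 1, 3, 1, 2, 1, 3], 0, true),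
      ([0, 3, 0, 2, 0, 2, 0, 3, 0, 3, 1, 2, 1, 3, 1, 3, 1, 2, 1, 3, 0, 3, 0, 2, 0, 2, 0, 3, 0, 2, 1, 2, 1, 3, 1, 3, 1, 2, 2, 0, 2, 1, 3, 1, 2, 0, 2, 0, 3, 1, 3, 3, 0, 2, 0, 2, 0, 3, 0, 3, 1, 2, 1, 3, 1, 3, 1, 2, 1, 2, 0, 3, 0, 2, 0, 2, 0, 3, 0, 2, 1, 2, 2, 0, 3, 0, 3, 3, 0, 3, 1, 3, 3, 0, 3, 1, 2, 1, 3, 1, 3, 1, 2, 1, 2, 0, 3, 0, 2, 0, 2, 0, 3, 0, 2, 1, 2, 2, 0, 3, 0, 3, 3, 0, 3, 1, 3, 1, 3, 3, 0, 3, 0, 3, 1, 2, 1, 2, 2, 0, 3, 0, 2, 1, 2, 2, 0, 2, 1, 2, 2, 1, 2, 1, 3, 1, 3, 1, 2, 0, 3, 0, 3, 0, 2, 0, 3, 0, 3, 0, 2, 0, 3, 0, 3], 6, false),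
      ([0, 3, 0, 2, 0, 2, 0, 3, 0, 3, 1, 2, 1, 3, 1, 3, 1, 2, 1, 3, 0, 3, 0, 2, 0, 2, 0, 3, 0, 2, 1, 2, 1, 3, 1, 3, 1, 2, 2, 0, 2, 1, 3, 1, 2, 0, 2, 0, 3, 1, 3, 3, 0, 2, 0, 2, 0, 3, 0, 3, 1, 2, 1, 3, 1, 3, 1, 2, 1, 2, 0, 3, 0, 2, 0, 2, 0, 3, 0, 2, 1, 2, 2, 0, 3, 0, 3, 3, 0, 3, 1, 3, 3, 0, 3, 1, 2, 1, 3, 1, 3, 1, 2, 1, 2, 0, 3, 0, 2, 0, 2, 0, 3, 0, 2, 1, 2, 2, 0, 3, 0, 3, 3, 0, 3, 1, 3, 1, 3, 3, 0, 3, 0, 3, 1, 2, 1, 2, 2, 0, 3, 0, 2, 1, 2, 2, 0, 2, 1, 2, 2, 1, 2, 1, 3, 1, 3, 1, 3, 3, 0, 3, 1, 2, 2, 0, 2, 0, 3, 0, 3, 0, 0], 0, true),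
      ([0, 3, 0, 2, 0, 2, 0, 3, 0, 3, 1, 2, 1, 3, 1, 3, 1, 2, 1, 3, 0, 3, 0, 2, 0, 2, 0, 3, 0, 2, 1, 2, 1, 3, 1, 3, 1, 2, 2, 0, 2, 1, 3, 1, 2, 0, 2, 0, 3, 1, 3, 3, 0, 2, 0, 2, 0, 3, 0, 3, 1, 2, 1, 3, 1, 3, 1, 2, 1, 2, 0, 3, 0, 2, 0, 2, 0, 3, 0, 2, 1, 2, 2, 0, 3, 0, 3, 3, 0, 3, 1, 3, 3, 0, 3, 1, 2, 1, 3, 1, 3, 1, 2, 1, 2, 0, 3, 0, 2, 0, 2, 0, 3, 0, 2, 1, 2, 2, 0, 3, 0, 3, 3, 0, 3, 1, 3, 1, 3, 3, 0, 3, 0, 3, 1, 2, 1, 2, 2, 0, 3, 0, 2, 1, 2, 2, 0, 2, 1, 2, 2, 1, 2, 1, 3, 1, 3, 1, 3, 3, 0, 3, 1, 2, 2, 0, 2, 0, 3, 0, 3, 1, 2, 1, 3, 1, 3, 1, 2, 1, 2, 0, 3, 0, 2, 0, 2, 0, 3, 0, 2, 0, 0], 0, true),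
      ([0, 3, 0, 2, 0, 2, 0, 3, 0, 3, 1, 2, 1, 3, 1, 3, 1, 2, 1, 3, 0, 3, 0, 2, 0, 2, 0, 3, 0, 2, 1, 2, 1, 3, 1, 3, 1, 2, 2, 0, 2, 1, 3, 1, 2, 0, 2, 0, 3, 1, 3, 3, 0, 2, 0, 2, 0, 3, 0, 3, 1, 2, 1, 3, 1, 3, 1, 2, 1, 2, 0, 3, 0, 2, 0, 2, 0, 3, 0, 2, 1, 2, 2, 0, 3, 0, 3, 3, 0, 3, 1, 3, 3, 0, 3, 1, 2, 1, 3, 1, 3, 1, 2, 1, 2, 0, 3, 0, 2, 0, 2, 0, 3, 0, 2, 1, 2, 2, 0, 3, 0, 3, 3, 0, 3, 1, 3, 1, 3, 3, 0, 3, 0, 3, 1, 2, 1], 1, true),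
      ([0, 3, 0, 2, 0, 2, 0, 3, 0, 3, 1, 2, 1, 3, 1, 3, 1, 2, 1, 3, 0, 3, 0, 2, 0, 2, 0, 3, 0, 2, 1, 2, 1, 3, 1, 3, 1, 2, 2, 0, 2, 1, 3, 1, 2, 0, 2, 0, 3, 1, 3, 3, 0, 2, 0, 2, 0, 3, 0, 3, 1, 2, 1, 3, 1, 3, 1, 2, 1, 2, 0, 3, 0, 2, 0, 2, 0, 3, 0, 2, 1, 2, 2, 0, 3, 0, 3, 3, 0, 3, 1, 3, 3, 0, 3, 1, 2, 1, 3, 1, 3, 1, 2, 1, 2, 0, 3, 0, 2, 0, 2, 0, 3, 0, 2, 1, 2, 2, 0, 3, 0, 3, 3, 0, 3, 1, 3, 1, 3, 3, 0, 3, 0, 3, 1, 2, 1, 3, 0, 3, 0, 2, 1, 2, 2, 0], 0, true),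
      ([0, 3, 0, 2, 0, 2, 0, 3, 0, 3, 1, 2, 1, 3, 1, 3, 1, 2, 1, 3, 0, 3, 0, 2, 0, 2, 0, 3, 0, 2, 1, 2, 1, 3, 1, 3, 1, 2, 2, 0, 2, 1, 3, 1, 2, 0, 2, 0, 3, 1, 3, 3, 0, 2, 0, 2, 0, 3, 0, 3, 1, 2, 1, 3, 1, 3, 1, 2, 1, 2, 0, 3, 0, 2, 0, 2, 0, 3, 0, 2, 1, 2, 2, 0, 3, 0, 3, 3, 0, 3, 1, 3, 3, 0, 3, 1, 2, 1, 3, 1, 3, 1, 2, 1, 2, 0, 3, 0, 2, 0, 2, 0, 3, 0, 2, 1, 2, 2, 0, 3, 0, 3, 3, 0, 3, 1, 3, 1, 3, 3, 0, 3, 0, 3, 1, 2, 1, 3, 0, 3, 0, 2, 1], 1, true),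
      ([0, 3, 0, 2, 0, 2, 0, 3, 0, 3, 1, 2, 1, 3, 1, 3, 1, 2, 1, 3, 0, 3, 0, 2, 0, 2, 0, 3, 0, 2, 1, 2, 1, 3, 1, 3, 1, 2, 2, 0, 2, 1, 3, 1, 2, 0, 2, 0, 3, 1, 3, 3, 0, 2, 0, 2, 0, 3, 0, 3, 1, 2, 1, 3, 1, 3, 1, 2, 1, 2, 0, 3, 0, 2, 0, 2, 0, 3, 0, 2, 1, 2, 2, 0, 3, 0, 3, 3, 0, 3, 1, 3, 3, 0, 3, 1, 2, 1, 3, 1, 3, 1, 2, 1, 2, 0, 3, 0, 2, 0, 2, 0, 3, 0, 2, 1, 2, 2, 0, 3, 0, 3, 3, 0, 3, 1, 3, 1, 3, 3, 0, 3, 0, 3, 1, 2, 1, 3, 0, 3, 0], 0, true),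
      ([0, 3, 0, 2, 0, 2, 0, 3, 0, 3, 1, 2, 1, 3, 1, 3, 1, 2, 1, 3, 0, 3, 0, 2, 0, 2, 0, 3, 0, 2, 1, 2, 1, 3, 1, 3, 1, 2, 2, 0, 2, 1, 3, 1, 2, 0, 2, 0, 3, 1, 3, 3, 0, 2, 0, 2, 0, 3, 0, 3, 1, 2, 1, 3, 1, 3, 1, 2, 1, 2, 0, 3, 0, 2, 0, 2, 0, 3, 0, 2, 1, 2, 2, 0, 3, 0, 3, 3, 0, 3, 1, 3, 3, 0, 3, 1, 2, 1, 3, 1, 3, 1, 2, 1, 2, 0, 3, 0, 2, 0, 2, 0, 3, 0, 2, 1, 2, 2, 0, 3, 0, 3, 3, 0, 3, 1, 3, 1, 3, 3, 0, 3, 0, 3, 1, 2, 1, 3], 0, true),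
      ([0, 3, 0, 2, 0, 2, 0, 3, 0, 3, 1, 2, 1, 3, 1, 3, 1, 2, 1, 3, 0, 3, 0, 2, 0, 2, 0, 3, 0, 2, 1, 2, 1, 3, 1, 3, 1, 2, 2, 0, 2, 1, 3, 1, 2, 0, 2, 0, 3, 1, 3, 3, 0, 2, 0, 2, 0, 3, 0, 3, 1, 2, 1, 3, 1, 3, 1, 2, 1, 2, 0, 3, 0, 2, 0, 2, 0, 3, 0, 2, 1, 2, 2, 0, 3, 0, 3, 3, 0, 3, 1, 3, 3, 0, 3, 1, 2, 1, 3, 1, 3, 1, 2, 1, 2, 0, 3, 0, 2, 0, 2, 0, 3, 0, 2, 1, 2, 2, 0, 3, 0, 3, 3, 0, 3, 1, 3, 1, 3, 3, 0, 3, 0, 3, 1, 2, 1, 3, 1, 3, 1, 2, 1, 3, 1, 2, 1, 2, 2, 1, 2, 1, 3, 1, 3, 1, 3, 3, 0, 3, 1, 2, 1, 2, 2, 0, 2, 1, 3, 1, 3, 0, 2, 0, 3, 1, 3, 3, 0, 3], 0, true),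
      ([0, 3, 0, 2, 0, 2, 0, 3, 0, 3, 1, 2, 1, 3, 1, 3, 1, 2, 1, 3, 0, 3, 0, 2, 0, 2, 0, 3, 0, 2, 1, 2, 1, 3, 1, 3, 1, 2, 2, 0, 2, 1, 3, 1, 2, 0, 2, 0, 3, 1, 3, 3, 0, 2, 0, 2, 0, 3, 0, 3, 1, 2, 1, 3, 1, 3, 1, 2, 1, 2, 0, 3, 0, 2, 0, 2, 0, 3, 0, 2, 1, 2, 2, 0, 3, 0, 3, 3, 0, 3, 1, 3, 3, 0, 3, 1, 2, 1, 3, 1, 3, 1, 2, 1, 2, 0, 3, 0, 2, 0, 2, 0, 3, 0, 2, 1, 2, 2, 0, 3, 0, 3, 3, 0, 3, 1, 3, 1, 3, 3, 0, 3, 0, 3, 1, 2, 1, 3, 1, 3, 1, 2, 1, 3, 1, 2, 1, 2, 2, 1, 2, 1, 3, 1, 3, 1, 3, 3], 0, true),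
      ([0, 3, 0, 2, 0, 2, 0, 3, 0, 3, 1, 2, 1, 3, 1, 3, 1, 2, 1, 3, 0, 3, 0, 2, 0, 2, 0, 3, 0, 2, 1, 2, 1, 3, 1, 3, 1, 2, 2, 0, 2, 1, 3, 1, 2, 0, 2, 0, 3, 1, 3, 3, 0, 2, 0, 2, 0, 3, 0, 3, 1, 2, 1, 3, 1, 3, 1, 2, 1, 2, 0, 3, 0, 2, 0, 2, 0, 3, 0, 2, 1, 2, 2, 0, 3, 0, 3, 3, 0, 3, 1, 3, 3, 0, 3, 1, 2, 1, 3, 1, 3, 1, 2, 1, 2, 0, 3, 0, 2, 0, 2, 0, 3, 0, 2, 1, 2, 2, 0, 3, 0, 3, 3, 0, 3, 1, 3, 1, 3, 3, 0, 3, 0, 3, 1, 2, 1, 3, 1, 3, 1, 2, 1, 3, 1, 2, 1, 2, 2, 1, 2, 1, 3, 1, 3, 1, 3, 3, 1, 3, 1, 2, 1, 2, 2, 0, 2, 1, 3, 1, 3, 0, 2, 0, 3, 1, 3, 3, 0, 3, 1, 2, 1], 1, true),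
      ([0, 3, 0, 2, 0, 2, 0, 3, 0, 3, 1, 2, 1, 3, 1, 3, 1, 2, 1, 3, 0, 3, 0, 2, 0, 2, 0, 3, 0, 2, 1, 2, 1, 3, 1, 3, 1, 2, 2, 0, 2, 1, 3, 1, 2, 0, 2, 0, 3, 1, 3, 3, 0, 2, 0, 2, 0, 3, 0, 3, 1, 2, 1, 3, 1, 3, 1, 2, 1, 2, 0, 3, 0, 2, 0, 2, 0, 3, 0, 2, 1, 2, 2, 0, 3, 0, 3, 3, 0, 3, 1, 3, 3, 0, 3, 1, 2, 1, 3, 1, 3, 1, 2, 1, 2, 0, 3, 0, 2, 0, 2, 0, 3, 0, 2, 1, 2, 2, 0, 3, 0, 3, 3, 0, 3, 1, 3, 1, 3, 3, 0, 3, 0, 3, 1, 2, 1, 3, 1, 3, 1, 2, 1, 3, 1, 2, 1, 2, 2, 1, 2, 1, 3, 1, 3, 1, 2], 1, false),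
      ([0, 3, 0, 2, 0, 2, 0, 3, 0, 3, 1, 2, 1, 3, 1, 3, 1, 2, 1, 3, 0, 3, 0, 2, 0, 2, 0, 3, 0, 2, 1, 2, 1, 3, 1, 3, 1, 2, 2, 0, 2, 1, 3, 1, 2, 0, 2, 0, 3, 1, 3, 3, 0, 2, 0, 2, 0, 3, 0, 3, 1, 2, 1, 3, 1, 3, 1, 2, 1, 2, 0, 3, 0, 2, 0, 2, 0, 3, 0, 2, 1, 2, 2, 0, 3, 0, 3, 3, 0, 3, 1, 3, 3, 0, 3, 1, 2, 1, 3, 1, 3, 1, 2, 1, 2, 0, 3, 0, 2, 0, 2, 0, 3, 0, 2, 1, 2, 2, 0, 3, 0, 3, 3, 0, 3, 1, 3, 1, 3, 3, 0, 3, 0, 3, 1, 2, 1, 3, 1, 3, 1, 2, 1, 3, 1, 2, 1, 2, 2, 1, 2, 1, 3, 1, 3, 1, 2, 1, 3, 1, 2, 1, 2, 2, 0, 2, 1, 3, 1, 3, 0, 2, 0, 3, 1, 3, 3, 0, 3, 1, 2, 1, 3, 0, 3], 0, true),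
      ([0, 3, 0, 2, 0, 2, 0, 3, 0, 3, 1, 2, 1, 3, 1, 3, 1, 2, 1, 3, 0, 3, 0, 2, 0, 2, 0, 3, 0, 2, 1, 2, 1, 3, 1, 3, 1, 2, 2, 0, 2, 1, 3, 1, 2, 0, 2, 0, 3, 1, 3, 3, 0, 2, 0, 2, 0, 3, 0, 3, 1, 2, 1, 3, 1, 3, 1, 2, 1, 2, 0, 3, 0, 2, 0, 2, 0, 3, 0, 2, 1, 2, 2, 0, 3, 0, 3, 3, 0, 3, 1, 3, 3, 0, 3, 1, 2, 1, 3, 1, 3, 1, 2, 1, 2, 0, 3, 0, 2, 0, 2, 0, 3, 0, 2, 1, 2, 2, 0, 3, 0, 3, 3, 0, 3, 1, 3, 1, 3, 3, 0, 3, 0, 3, 1, 2, 1, 3, 1, 3, 1, 2, 1, 3, 1, 2, 1, 2, 2, 1, 2, 1, 3, 1, 3, 1, 2, 1, 3, 1, 2, 1, 2, 2, 0, 2, 1, 3, 1, 3, 0, 2, 0, 3, 1, 2, 2, 2], 1, false),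
      ([0, 3, 0, 2, 0, 2, 0, 3, 0, 3, 1, 2, 1, 3, 1, 3, 1, 2, 1, 3, 0, 3, 0, 2, 0, 2, 0, 3, 0, 2, 1, 2, 1, 3, 1, 3, 1, 2, 2, 0, 2, 1, 3, 1, 2, 0, 2, 0, 3, 1, 3, 3, 0, 2, 0, 2, 0, 3, 0, 3, 1, 2, 1, 3, 1, 3, 1, 2, 1, 2, 0, 3, 0, 2, 0, 2, 0, 3, 0, 2, 1, 2, 2, 0, 3, 0, 3, 3, 0, 3, 1, 3, 3, 0, 3, 1, 2, 1, 3, 1, 3, 1, 2, 1, 2, 0, 3, 0, 2, 0, 2, 0, 3, 0, 2, 1, 2, 2, 0, 3, 0, 3, 3, 0, 3, 1, 3, 1, 3, 3, 0, 3, 0, 3, 1, 2, 1, 3, 1, 3, 1, 2, 1, 3, 1, 2, 1, 2, 2, 1, 2, 1, 3, 1, 3, 1, 2, 1, 3, 1, 2, 1, 2, 2], 1, true),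
      ([0, 3, 0, 2, 0, 2, 0, 3, 0, 3, 1, 2, 1, 3, 1, 3, 1, 2, 1, 3, 0, 3, 0, 2, 0, 2, 0, 3, 0, 2, 1, 2, 1, 3, 1, 3, 1, 2, 2, 0, 2, 1, 3, 1, 2, 0, 2, 0, 3, 1, 3, 3, 0, 2, 0, 2, 0, 3, 0, 3, 1, 2, 1, 3, 1, 3, 1, 2, 1, 2, 0, 3, 0, 2, 0, 2, 0, 3, 0, 2, 1, 2, 2, 0, 3, 0, 3, 3, 0, 3, 1, 3, 3, 0, 3, 1, 2, 1, 3, 1, 3, 1, 2, 1, 2, 0, 3, 0, 2, 0, 2, 0, 3, 0, 2, 1, 2, 2, 0, 3, 0, 3, 3, 0, 3, 1, 3, 1, 3, 3, 0, 3, 0, 3, 1, 2, 1, 3, 1, 3, 1, 2, 1, 3, 1, 2, 1, 2, 2, 1, 2, 1, 3, 1, 3, 1, 2, 1, 3, 1, 2, 1, 3, 0, 2, 1, 3, 1, 3, 0, 2, 0, 3, 1, 2, 0], 0, true),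
      ([0, 3, 0, 2, 0, 2, 0, 3, 0, 3, 1, 2, 1, 3, 1, 3, 1, 2, 1, 3, 0, 3, 0, 2, 0, 2, 0, 3, 0, 2, 1, 2, 1, 3, 1, 3, 1, 2, 2, 0, 2, 1, 3, 1, 2, 0, 2, 0, 3, 1, 3, 3, 0, 2, 0, 2, 0, 3, 0, 3, 1, 2, 1, 3, 1, 3, 1, 2, 1, 2, 0, 3, 0, 2, 0, 2, 0, 3, 0, 2, 1, 2, 2, 0, 3, 0, 3, 3, 0, 3, 1, 3, 3, 0, 3, 1, 2, 1, 3, 1, 3, 1, 2, 1, 2, 0, 3, 0, 2, 0, 2, 0, 3, 0, 2, 1, 2, 2, 0, 3, 0, 3, 3, 0, 3, 1, 3, 1, 3, 3, 0, 3, 0, 3, 1, 2, 1, 3, 1, 3, 1, 2, 1, 3, 1, 2, 1, 2, 2, 1, 2, 1, 3, 1, 3, 1, 2, 1, 3, 1, 2, 1, 3, 0, 2, 1, 3, 1, 3, 0, 2, 0, 3, 1, 2, 1, 3, 1, 2, 1, 3], 0, true),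
      ([0, 3, 0, 2, 0, 2, 0, 3, 0, 3, 1, 2, 1, 3, 1, 3, 1, 2, 1, 3, 0, 3, 0, 2, 0, 2, 0, 3, 0, 2, 1, 2, 1, 3, 1, 3, 1, 2, 2, 0, 2, 1, 3, 1, 2, 0, 2, 0, 3, 1, 3, 3, 0, 2, 0, 2, 0, 3, 0, 3, 1, 2, 1, 3, 1, 3, 1, 2, 1, 2, 0, 3, 0, 2, 0, 2, 0, 3, 0, 2, 1, 2, 2, 0, 3, 0, 3, 3, 0, 3, 1, 3, 3, 0, 3, 1, 2, 1, 3, 1, 3, 1, 2, 1, 2, 0, 3, 0, 2, 0, 2, 0, 3, 0, 2, 1, 2, 2, 0, 3, 0, 3, 3, 0, 3, 1, 3, 1, 3, 3, 0, 3, 0, 3, 1, 2, 1, 3, 1, 3, 1, 2, 1, 3, 1, 2, 1, 2, 2, 1, 2, 1, 3, 1, 3, 1, 2, 1, 3, 1, 2, 1, 3, 0, 2, 1, 3, 1, 3, 0, 2, 0, 3, 1, 2, 1, 3, 1, 2, 1, 3, 1, 3, 1, 2, 0, 3, 1, 3, 3], 0, true),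
      ([0, 3, 0, 2, 0, 2, 0, 3, 0, 3, 1, 2, 1, 3, 1, 3, 1, 2, 1, 3, 0, 3, 0, 2, 0, 2, 0, 3, 0, 2, 1, 2, 1, 3, 1, 3, 1, 2, 2, 0, 2, 1, 3, 1, 2, 0, 2, 0, 3, 1, 3, 3, 0, 2, 0, 2, 0, 3, 0, 3, 1, 2, 1, 3, 1, 3, 1, 2, 1, 2, 0, 3, 0, 2, 0, 2, 0, 3, 0, 2, 1, 2, 2, 0, 3, 0, 3, 3, 0, 3, 1, 3, 3, 0, 3, 1, 2, 1, 3, 1, 3, 1, 2, 1, 2, 0, 3, 0, 2, 0, 2, 0, 3, 0, 2, 1, 2, 2, 0, 3, 0, 3, 3, 0, 3, 1, 3, 1, 3, 3, 0, 3, 0, 3, 1, 2, 1, 3, 1, 3, 1, 2, 1, 3, 1, 2, 1, 2, 2, 1, 2, 1, 3, 1, 3, 1, 2, 1, 3, 1, 2, 1, 3, 0, 2, 1, 3, 1, 3, 0, 2, 0], 0, true),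
      ([0, 3, 0, 2, 0, 2, 0, 3, 0, 3, 1, 2, 1, 3, 1, 3, 1, 2, 1, 3, 0, 3, 0, 2, 0, 2, 0, 3, 0, 2, 1, 2, 1, 3, 1, 3, 1, 2, 2, 0, 2, 1, 3, 1, 2, 0, 2, 0, 3, 1, 3, 3, 0, 2, 0, 2, 0, 3, 0, 3, 1, 2, 1, 3, 1, 3, 1, 2, 1, 2, 0, 3, 0, 2, 0, 2, 0, 3, 0, 2, 1, 2, 2, 0, 3, 0, 3, 3, 0, 3, 1, 3, 3, 0, 3, 1, 2, 1, 3, 1, 3, 1, 2, 1, 2, 0, 3, 0, 2, 0, 2, 0, 3, 0, 2, 1, 2, 2, 0, 3, 0, 3, 3, 0, 3, 1, 3, 1, 3, 3, 0, 3, 0, 3, 1, 2, 1, 3, 1, 3, 1, 2, 1, 3, 1, 2, 1, 2, 2, 1, 2, 1, 3, 1, 3, 1, 2, 1, 3, 1, 2, 1, 3, 0], 0, true),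
      ([0, 3, 0, 2, 0, 2, 0, 3, 0, 3, 1, 2, 1, 3, 1, 3, 1, 2, 1, 3, 0, 3, 0, 2, 0, 2, 0, 3, 0, 2, 1, 2, 1, 3, 1, 3, 1, 2, 2, 0, 2, 1, 3, 1, 2, 0, 2, 0, 3, 1, 3, 3, 0, 2, 0, 2, 0, 3, 0, 3, 1, 2, 1, 3, 1, 3, 1, 2, 1, 2, 0, 3, 0, 2, 0, 2, 0, 3, 0, 2, 1, 2, 2, 0, 3, 0, 3, 3, 0, 3, 1, 3, 3, 0, 3, 1, 2, 1, 3, 1, 3, 1, 2, 1, 2, 0, 3, 0, 2, 0, 2, 0, 3, 0, 2, 1, 2, 2, 0, 3, 0, 3, 3, 0, 3, 1, 3, 1, 3, 3, 0, 3, 0, 3, 1, 2, 1, 3, 1, 3, 1, 2, 1, 3, 1, 2, 1, 2, 2, 1, 2, 1, 3, 1, 3, 1, 2, 1, 3, 1, 2, 1, 3, 1, 2, 1, 3, 1, 3], 0, true),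
      ([0, 3, 0, 2, 0, 2, 0, 3, 0, 3, 1, 2, 1, 3, 1, 3, 1, 2, 1, 3, 0, 3, 0, 2, 0, 2, 0, 3, 0, 2, 1, 2, 1, 3, 1, 3, 1, 2, 2, 0, 2, 1, 3, 1, 2, 0, 2, 0, 3, 1, 3, 3, 0, 2, 0, 2, 0, 3, 0, 3, 1, 2, 1, 3, 1, 3, 1, 2, 1, 2, 0, 3, 0, 2, 0, 2, 0, 3, 0, 2, 1, 2, 2, 0, 3, 0, 3, 3, 0, 3, 1, 3, 3, 0, 3, 1, 2, 1, 3, 1, 3, 1, 2, 1, 2, 0, 3, 0, 2, 0, 2, 0, 3, 0, 2, 1, 2, 2, 0, 3, 0, 3, 3, 0, 3, 1, 3, 1, 3, 3, 0, 3, 0, 3, 1, 2, 1, 3, 1, 3, 1, 2, 1, 3, 1, 2, 1, 2, 2, 1, 2, 1, 3, 1, 3, 1, 2, 1, 3, 1, 2, 1, 3, 1, 2, 1, 3, 1, 3, 1, 2, 1, 3, 1, 2, 1, 3, 1, 2, 1, 3, 1, 3, 1, 2], 0, true),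
      ([0, 3, 0, 2, 0, 2, 0, 3, 0, 3, 1, 2, 1, 3, 1, 3, 1, 2, 1, 3, 0, 3, 0, 2, 0, 2, 0, 3, 0, 2, 1, 2, 1, 3, 1, 3, 1, 2, 2, 0, 2, 1, 3, 1, 2, 0, 2, 0, 3, 1, 3, 3, 0, 2, 0, 2, 0, 3, 0, 3, 1, 2, 1, 3, 1, 3, 1, 2, 1, 2, 0, 3, 0, 2, 0, 2, 0, 3, 0, 2, 1, 2, 2, 0, 3, 0, 3, 3, 0, 3, 1, 3, 3, 0, 3, 1, 2, 1, 3, 1, 3, 1, 2, 1, 2, 0, 3, 0, 2, 0, 2, 0, 3, 0, 2, 1, 2, 2, 0, 3, 0, 3, 3, 0, 3, 1, 3, 1, 3, 3, 0, 3, 0, 3, 1, 2, 1, 3, 1, 3, 1, 2, 1, 3, 1, 2, 1, 2, 2, 1, 2, 1, 3, 1, 3, 1, 2, 1, 3, 1, 2, 1, 3, 1, 2, 1, 3, 1, 3, 1, 2, 1, 3, 1, 2, 1, 3, 1, 2, 1, 3, 1, 3, 1, 2, 1, 3, 1, 2, 2, 2], 1, false),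
      ([0, 3, 0, 2, 0, 2, 0, 3, 0, 3, 1, 2, 1, 3, 1, 3, 1, 2, 1, 3, 0, 3, 0, 2, 0, 2, 0, 3, 0, 2, 1, 2, 1, 3, 1, 3, 1, 2, 2, 0, 2, 1, 3, 1, 2, 0, 2, 0, 3, 1, 3, 3, 0, 2, 0, 2, 0, 3, 0, 3, 1, 2, 1, 3, 1, 3, 1, 2, 1, 2, 0, 3, 0, 2, 0, 2, 0, 3, 0, 2, 1, 2, 2, 0, 3, 0, 3, 3, 0, 3, 1, 3, 3, 0, 3, 1, 2, 1, 3, 1, 3, 1, 2, 1, 2, 0, 3, 0, 2, 0, 2, 0, 3, 0, 2, 1, 2, 2, 0, 3, 0, 3, 3, 0, 3, 1, 3, 1, 3, 3, 0, 3, 0, 3, 1, 2, 1, 3, 1, 3, 1, 2, 1, 3, 1, 2, 1, 2], 1, true),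
      ([0, 3, 0, 2, 0, 2, 0, 3, 0, 3, 1, 2, 1, 3, 1, 3, 1, 2, 1, 3, 0, 3, 0, 2, 0, 2, 0, 3, 0, 2, 1, 2, 1, 3, 1, 3, 1, 2, 2, 0, 2, 1, 3, 1, 2, 0, 2, 0, 3, 1, 3, 3, 0, 2, 0, 2, 0, 3, 0, 3, 1, 2, 1, 3, 1, 3, 1, 2, 1, 2, 0, 3, 0, 2, 0, 2, 0, 3, 0, 2, 1, 2, 2, 0, 3, 0, 3, 3, 0, 3, 1, 3, 3, 0, 3, 1, 2, 1, 3, 1, 3, 1, 2, 1, 2, 0, 3, 0, 2, 0, 2, 0, 3, 0, 2, 1, 2, 2, 0, 3, 0, 3, 3, 0, 3, 1, 3, 1, 3, 3, 0, 3, 0, 0, 3, 0, 2, 0, 3, 0, 2, 0, 2, 0, 3, 0, 2, 0, 3, 0, 2, 0, 3, 0, 2, 0, 2, 0, 3, 0, 2, 0, 3, 0, 2, 0, 3, 0, 2, 0, 2, 0, 3, 0, 2, 0, 3, 0, 2, 0, 3], 5, false)]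

/-- The conjugates of relators behind relator 24. -/
def fivePrf24 : List (List ℕ × ℕ × Bool) :=
  [([0, 3, 0, 2, 0, 2, 2], 1, false),
      ([0, 3, 0, 2, 0, 2, 0, 2, 0, 0, 0], 0, false),
      ([0, 3, 0, 2, 0, 2, 0, 2, 0, 2, 1, 2, 2, 1, 2, 1, 3, 3], 1, true),
      ([0, 3, 0, 2, 0, 2, 0, 2, 0, 2, 1, 2, 2, 1, 2, 1, 3, 3, 0, 0, 0], 0, false),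
      ([0, 3, 0, 2, 0, 2, 0, 2, 0, 2, 1, 2, 2, 1, 2, 1, 3, 3, 0, 0, 3, 0, 3, 0, 3, 3, 0, 3, 0, 3, 0], 0, false),
      ([0, 3, 0, 2, 0, 2, 0, 2, 0, 2, 1, 2, 2, 1, 2, 1, 3, 3, 0, 3, 1, 2, 1, 3, 1, 3, 1, 2, 1, 3, 0, 3, 0, 2, 0, 3, 0, 0], 0, false),
      ([0, 3, 0, 2, 0, 2, 0, 2, 0, 2, 1, 2, 2, 1, 2, 1, 3, 3, 0, 3, 1, 2, 1, 3, 1, 3, 1, 2, 1, 3, 0, 3, 0, 2, 0, 3, 0, 0, 2, 1, 3, 0, 0], 0, false),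
      ([0, 3, 0, 2, 0, 2, 0, 2, 0, 2, 1, 2, 2, 1, 2, 1, 3, 3, 0, 3, 1, 2, 1, 3, 1, 3, 1, 2, 1, 3, 0, 3, 0, 2, 0, 3, 0, 0, 2, 0], 0, false),
      ([0, 3, 0, 2, 0, 2, 0, 2, 0, 2, 1, 2, 2, 1, 2, 1, 3, 3, 0, 3, 1, 2, 1, 3, 1, 3, 1, 2, 1, 3, 0, 3, 0, 2, 0, 3, 0, 3, 0, 0], 0, false),
      ([0, 3, 0, 2, 0, 2, 0, 2, 0, 2, 1, 2, 2, 1, 2, 1, 3, 3, 0, 3, 1, 2, 1, 3, 1, 3, 1, 2, 1, 3, 0, 3, 0, 2, 0, 3, 0, 3, 0, 0, 2, 0, 2, 0, 3, 0, 2, 0], 0, false),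
      ([0, 3, 0, 2, 0, 2, 0, 2, 0, 2, 1, 2, 2, 1, 2, 1, 3, 3, 0, 3, 1, 2, 1, 3, 1, 3, 1, 2, 1, 3, 0, 3, 0, 2, 0, 3, 0, 3, 0, 0, 2, 0, 2, 0, 3, 0, 2, 0, 2, 0, 3, 0, 2, 0, 2, 0, 3, 0, 2, 0, 3, 0, 3, 0, 2, 2], 1, false),
      ([0, 3, 0, 2, 0, 2, 0, 2, 0, 2, 1, 2, 2, 1, 2, 1, 3, 3, 0, 3, 1, 2, 1, 3, 1, 3, 1, 2, 1, 3, 0, 3, 0, 2, 0, 3, 0, 3, 0, 2, 1, 2, 1, 3, 1, 2, 1, 2, 1, 3, 1, 2, 1, 2, 1, 3, 1, 2, 1, 3, 1, 3, 1, 2, 1, 3, 1, 3, 1, 2, 1, 3, 1, 3, 1], 6, true),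
      ([0, 3, 0, 2, 0, 2, 0, 2, 0, 2, 1, 2, 2, 1, 2, 1, 3, 3, 0, 3, 1, 2, 1, 3, 1, 3, 1, 2, 1, 3, 0, 3, 0, 2, 0, 2, 0, 2, 0, 3, 0, 3, 3, 0, 3, 3, 0, 3, 1, 3, 3, 0, 3, 3, 1, 2, 1, 3, 1, 3, 1, 2, 1, 2, 0, 3, 0, 2, 0, 2, 0, 3, 0, 2, 2, 1, 2, 2, 0, 2, 1, 2, 1, 3, 1, 3, 1, 3, 1, 2, 1, 2, 0, 3, 0, 2, 0, 2, 0, 3, 0, 2, 1, 2, 2, 0, 3, 0, 3, 3, 0, 3, 1, 3, 1, 3, 3, 3, 1, 2, 1, 2, 1, 3, 1, 2, 1, 2, 1, 3, 1, 2, 1, 3, 1, 3, 1, 2, 1, 3, 1, 3, 1, 2, 1, 3, 1, 3, 1], 6, false),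
      ([0, 3, 0, 2, 0, 2, 0, 2, 0, 2, 1, 2, 2, 1, 2, 1, 3, 3, 0, 3, 1, 2, 1, 3, 1, 3, 1, 2, 1, 3, 0, 3, 0, 2, 0, 2, 0, 2, 0, 3, 0, 3, 3, 0, 3, 3, 0, 3, 1, 3, 3, 0, 3, 3, 1, 2, 1, 3, 1, 3, 1, 2, 1, 2, 0, 3, 0, 2, 0, 2, 0, 3, 0, 2, 2, 1, 2, 2, 0, 2, 1, 2, 1, 3, 1, 3, 1, 3, 1, 2, 1, 2, 0, 3, 0, 2, 0, 2, 0, 3, 0, 2, 1, 2, 2, 0, 3, 0, 3, 3, 0, 3, 1, 3, 1, 3, 3, 0, 3, 0, 3, 0, 2, 0, 2, 0, 3, 0, 2, 0, 2, 0, 3, 0, 2, 0, 2, 0, 3, 0, 2, 0, 3, 0, 3, 0, 2, 2], 1, true),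
      ([0, 3, 0, 2, 0, 2, 0, 2, 0, 2, 1, 2, 2, 1, 2, 1, 3, 3, 0, 3, 1, 2, 1, 3, 1, 3, 1, 2, 1, 3, 0, 3, 0, 2, 0, 2, 0, 2, 0, 3, 0, 3, 3, 0, 3, 3, 0, 3, 1, 3, 3, 0, 3, 3, 1, 2, 1, 3, 1, 3, 1, 2, 1, 2, 0, 3, 0, 2, 0, 2, 0, 3, 0, 2, 2, 1, 2, 2, 0, 2, 1, 2, 1, 3, 1, 3, 1, 3, 1, 2, 1, 2, 0, 3, 0, 2, 0, 2, 0, 3, 0, 2, 1, 2, 2, 0, 3, 0, 3, 3, 0, 3, 1, 3, 1, 3, 3, 0, 3, 0, 3, 0, 2, 0, 2, 0, 3, 0, 2, 0], 0, true),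
      ([0, 3, 0, 2, 0, 2, 0, 2, 0, 2, 1, 2, 2, 1, 2, 1, 3, 3, 0, 3, 1, 2, 1, 3, 1, 3, 1, 2, 1, 3, 0, 3, 0, 2, 0, 2, 0, 2, 0, 3, 0, 3, 3, 0, 3, 3, 0, 3, 1, 3, 3, 0, 3, 3, 1, 2, 1, 3, 1, 3, 1, 2, 1, 2, 0, 3, 0, 2, 0, 2, 0, 3, 0, 2, 2, 1, 2, 2, 0, 2, 1, 2, 1, 3, 1, 3, 1, 3, 1, 2, 1, 2, 0, 3, 0, 2, 0, 2, 0, 3, 0, 2, 1, 2, 2, 0, 3, 0, 3, 3, 0, 3, 1, 3, 1, 3, 3, 0, 3, 0, 3, 0], 0, true),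
      ([0, 3, 0, 2, 0, 2, 0, 2, 0, 2, 1, 2, 2, 1, 2, 1, 3, 3, 0, 3, 1, 2, 1, 3, 1, 3, 1, 2, 1, 3, 0, 3, 0, 2, 0, 2, 0, 2, 0, 3, 0, 3, 3, 0, 3, 3, 0, 3, 1, 3, 3, 0, 3, 3, 1, 2, 1, 3, 1, 3, 1, 2, 1, 2, 0, 3, 0, 2, 0, 2, 0, 3, 0, 2, 2, 1, 2, 2, 0, 2, 1, 2, 1, 3, 1, 3, 1, 3, 1, 2, 1, 2, 0, 3, 0, 2, 0, 2, 0, 3, 0, 2, 1, 2, 2, 0, 3, 0, 3, 3, 0, 3, 1, 3, 1, 3, 3, 0, 3, 0, 3, 1, 2, 0, 2, 0], 0, true),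
      ([0, 3, 0, 2, 0, 2, 0, 2, 0, 2, 1, 2, 2, 1, 2, 1, 3, 3, 0, 3, 1, 2, 1, 3, 1, 3, 1, 2, 1, 3, 0, 3, 0, 2, 0, 2, 0, 2, 0, 3, 0, 3, 3, 0, 3, 3, 0, 3, 1, 3, 3, 0, 3, 3, 1, 2, 1, 3, 1, 3, 1, 2, 1, 2, 0, 3, 0, 2, 0, 2, 0, 3, 0, 2, 2, 1, 2, 2, 0, 2, 1, 2, 1, 3, 1, 3, 1, 3, 1, 2, 1, 2, 0, 3, 0, 2, 0, 2, 0, 3, 0, 2, 1, 2, 2, 0, 3, 0, 3, 3, 0, 3, 1, 3, 1, 3, 3, 0, 3, 0, 3, 1, 2, 0, 2, 1, 3, 0, 0], 0, true),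
      ([0, 3, 0, 2, 0, 2, 0, 2, 0, 2, 1, 2, 2, 1, 2, 1, 3, 3, 0, 3, 1, 2, 1, 3, 1, 3, 1, 2, 1, 3, 0, 3, 0, 2, 0, 2, 0, 2, 0, 3, 0, 3, 3, 0, 3, 3, 0, 3, 1, 3, 3, 0, 3, 3, 1, 2, 1, 3, 1, 3, 1, 2, 1, 2, 0, 3, 0, 2, 0, 2, 0, 3, 0, 2, 2, 1, 2, 2, 0, 2, 1, 2, 1, 3, 1, 3, 1, 3, 1, 2, 1, 2, 0, 3, 0, 2, 0, 2, 0, 3, 0, 2, 1, 2, 2, 0, 3, 0, 3, 3, 0, 3, 1, 3, 1, 3, 3, 0, 3, 0, 3, 1, 2, 0], 0, true),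
      ([0, 3, 0, 2, 0, 2, 0, 2, 0, 2, 1, 2, 2, 1, 2, 1, 3, 3, 0, 3, 1, 2, 1, 3, 1, 3, 1, 2, 1, 3, 0, 3, 0, 2, 0, 2, 0, 2, 0, 3, 0, 3, 3, 0, 3, 3, 0, 3, 1, 3, 3, 0, 3, 3, 1, 2, 1, 3, 1, 3, 1, 2, 1, 2, 0, 3, 0, 2, 0, 2, 0, 3, 0, 2, 2, 1, 2, 2, 0, 2, 1, 2, 1, 3, 1, 3, 1, 3, 1, 2, 1, 2, 0, 3, 0, 2, 0, 2, 0, 3, 0, 2, 1, 2, 2, 0, 3, 0, 3, 3, 0, 3, 1, 3, 1, 3, 3, 0, 3, 0, 3, 1, 2, 1, 2, 1, 3, 1, 2, 1, 2, 0, 3, 0, 2, 0, 2, 0, 3, 0, 2, 0, 3, 0, 3, 0, 3, 3, 0, 3, 0, 3, 0], 0, true),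
      ([0, 3, 0, 2, 0, 2, 0, 2, 0, 2, 1, 2, 2, 1, 2, 1, 3, 3, 0, 3, 1, 2, 1, 3, 1, 3, 1, 2, 1, 3, 0, 3, 0, 2, 0, 2, 0, 2, 0, 3, 0, 3, 3, 0, 3, 3, 0, 3, 1, 3, 3, 0, 3, 3, 1, 2, 1, 3, 1, 3, 1, 2, 1, 2, 0, 3, 0, 2, 0, 2, 0, 3, 0, 2, 2, 1, 2, 2, 0, 2, 1, 2, 1, 3, 1, 3, 1, 3, 1, 2, 1, 2, 0, 3, 0, 2, 0, 2, 0, 3, 0, 2, 1, 2, 2, 0, 3, 0, 3, 3, 0, 3, 1, 3, 1, 3, 3, 0, 3, 0, 3, 1, 2, 1, 2, 1, 3, 1, 2, 1, 2, 0, 3, 0, 2, 0, 2, 0, 3, 0, 2, 0, 0], 0, true),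
      ([0, 3, 0, 2, 0, 2, 0, 2, 0, 2, 1, 2, 2, 1, 2, 1, 3, 3, 0, 3, 1, 2, 1, 3, 1, 3, 1, 2, 1, 3, 0, 3, 0, 2, 0, 2, 0, 2, 0, 3, 0, 3, 3, 0, 3, 3, 0, 3, 1, 3, 3, 0, 3, 3, 1, 2, 1, 3, 1, 3, 1, 2, 1, 2, 0, 3, 0, 2, 0, 2, 0, 3, 0, 2, 2, 1, 2, 2, 0, 2, 1, 2, 1, 3, 1, 3, 1, 3, 1, 2, 1, 2, 0, 3, 0, 2, 0, 2, 0, 3, 0, 2, 1, 2, 2, 0, 3, 0, 3, 3, 0, 3, 1, 3, 1, 3, 3, 0, 3, 0, 3, 1, 2, 1, 2, 1, 3, 1, 2, 1, 2, 0, 3, 0, 2, 0, 2, 0, 3, 0, 2, 1], 1, false),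
      ([0, 3, 0, 2, 0, 2, 0, 2, 0, 2, 1, 2, 2, 1, 2, 1, 3, 3, 0, 3, 1, 2, 1, 3, 1, 3, 1, 2, 1, 3, 0, 3, 0, 2, 0, 2, 0, 2, 0, 3, 0, 3, 3, 0, 3, 3, 0, 3, 1, 3, 3, 0, 3, 3, 1, 2, 1, 3, 1, 3, 1, 2, 1, 2, 0, 3, 0, 2, 0, 2, 0, 3, 0, 2, 2, 1, 2, 2, 0, 2, 1, 2, 1, 3, 1, 3, 1, 3, 1, 2, 1, 2, 0, 3, 0, 2, 0, 2, 0, 3, 0, 2, 1, 2, 2, 0, 3, 0, 3, 3, 0, 3, 1, 3, 1, 3, 3, 0, 3, 0, 3, 1, 2, 1, 2, 1, 3, 1, 2, 1, 2, 0, 3, 0, 2, 0, 2, 0, 3, 0, 2, 1, 2, 2, 0, 3, 0, 3, 3, 0, 3, 0, 0], 0, true),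
      ([0, 3, 0, 2, 0, 2, 0, 2, 0, 2, 1, 2, 2, 1, 2, 1, 3, 3, 0, 3, 1, 2, 1, 3, 1, 3, 1, 2, 1, 3, 0, 3, 0, 2, 0, 2, 0, 2, 0, 3, 0, 3, 3, 0, 3, 3, 0, 3, 1, 3, 3, 0, 3, 3, 1, 2, 1, 3, 1, 3, 1, 2, 1, 2, 0, 3, 0, 2, 0, 2, 0, 3, 0, 2, 2, 1, 2, 2, 0, 2, 1, 2, 1, 3, 1, 3, 1, 3, 1, 2, 1, 2, 0, 3, 0, 2, 0, 2, 0, 3, 0, 2, 1, 2, 2, 0, 3, 0, 3, 3, 0, 3, 1, 3, 1, 3, 3, 0, 3, 0, 3, 1, 2, 1, 2, 1, 3, 1, 2, 1, 2, 0, 3, 0, 2, 0, 2, 0, 3, 0, 2, 1, 2, 2, 0, 3, 0, 3, 3, 0, 3, 1, 3, 1, 2], 1, true),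
      ([0, 3, 0, 2, 0, 2, 0, 2, 0, 2, 1, 2, 2, 1, 2, 1, 3, 3, 0, 3, 1, 2, 1, 3, 1, 3, 1, 2, 1, 3, 0, 3, 0, 2, 0, 2, 0, 2, 0, 3, 0, 3, 3, 0, 3, 3, 0, 3, 1, 3, 3, 0, 3, 3, 1, 2, 1, 3, 1, 3, 1, 2, 1, 2, 0, 3, 0, 2, 0, 2, 0, 3, 0, 2, 2, 1, 2, 2, 0, 2, 1, 2, 1, 3, 1, 3, 1, 3, 1, 2, 1, 2, 0, 3, 0, 2, 0, 2, 0, 3, 0, 2, 1, 2, 2, 0, 3, 0, 3, 3, 0, 3, 1, 3, 1, 3, 3, 0, 3, 0, 3, 1, 2, 1, 2, 2, 0, 2, 0, 3, 0, 3, 1, 3, 3, 0, 3, 1, 1, 3, 1, 2, 1, 3, 1, 3, 1, 2, 1, 3, 0, 3, 0, 2, 0, 2], 0, true),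
      ([0, 3, 0, 2, 0, 2, 0, 2, 0, 2, 1, 2, 2, 1, 2, 1, 3, 3, 0, 3, 1, 2, 1, 3, 1, 3, 1, 2, 1, 3, 0, 3, 0, 2, 0, 2, 0, 2, 0, 3, 0, 3, 3, 0, 3, 3, 0, 3, 1, 3, 3, 0, 3, 3, 1, 2, 1, 3, 1, 3, 1, 2, 1, 2, 0, 3, 0, 2, 0, 2, 0, 3, 0, 2, 2, 1, 2, 2, 0, 2, 1, 2, 1, 3, 1, 3, 1, 3, 1, 2, 1, 2, 0, 3, 0, 2, 0, 2, 0, 3, 0, 2, 1, 2, 2, 0, 3, 0, 3, 3, 0, 3, 1, 3, 1, 3, 3, 0, 3, 0, 3, 1, 2, 1, 2, 2, 0, 2, 0, 3, 0, 3, 1, 3, 3, 0, 3, 1, 2, 1], 0, true),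
      ([0, 3, 0, 2, 0, 2, 0, 2, 0, 2, 1, 2, 2, 1, 2, 1, 3, 3, 0, 3, 1, 2, 1, 3, 1, 3, 1, 2, 1, 3, 0, 3, 0, 2, 0, 2, 0, 2, 0, 3, 0, 3, 3, 0, 3, 3, 0, 3, 1, 3, 3, 0, 3, 3, 1, 2, 1, 3, 1, 3, 1, 2, 1, 2, 0, 3, 0, 2, 0, 2, 0, 3, 0, 2, 2, 1, 2, 2, 0, 2, 1, 2, 1, 3, 1, 3, 1, 3, 1, 2, 1, 2, 0, 3, 0, 2, 0, 2, 0, 3, 0, 2, 1, 2, 2, 0, 3, 0, 3, 3, 0, 3, 1, 3, 1, 3, 3, 0, 3, 0, 3, 1, 2, 1, 2, 2, 0, 2, 0, 3, 0, 3, 1, 3, 3, 0, 3, 1, 2, 1, 1, 3, 1, 3, 1, 2, 1, 3, 1, 3, 1, 2, 1, 3, 0, 3, 0, 2, 0, 2, 1, 3, 1, 2, 1, 2, 1, 3, 1, 3, 3], 0, true),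
      ([0, 3, 0, 2, 0, 2, 0, 2, 0, 2, 1, 2, 2, 1, 2, 1, 3, 3, 0, 3, 1, 2, 1, 3, 1, 3, 1, 2, 1, 3, 0, 3, 0, 2, 0, 2, 0, 2, 0, 3, 0, 3, 3, 0, 3, 3, 0, 3, 1, 3, 3, 0, 3, 3, 1, 2, 1, 3, 1, 3, 1, 2, 1, 2, 0, 3, 0, 2, 0, 2, 0, 3, 0, 2, 2, 1, 2, 2, 0, 2, 1, 2, 1, 3, 1, 3, 1, 3, 1, 2, 1, 2, 0, 3, 0, 2, 0, 2, 0, 3, 0, 2, 1, 2, 2, 0, 3, 0, 3, 3, 0, 3, 1, 3, 1, 3, 3, 0, 3, 0, 3, 1, 2, 1, 2, 2, 0, 2, 0, 3, 0, 3, 1, 3, 3, 0, 3, 1, 2, 1, 1, 3, 1, 3, 1, 2, 1, 3, 1, 3, 1, 2, 1, 3, 0, 3, 0, 2, 0, 2, 1, 3, 1, 2, 1, 2, 1, 3, 1, 3, 3, 1, 2, 1], 1, true),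
      ([0, 3, 0, 2, 0, 2, 0, 2, 0, 2, 1, 2, 2, 1, 2, 1, 3, 3, 0, 3, 1, 2, 1, 3, 1, 3, 1, 2, 1, 3, 0, 3, 0, 2, 0, 2, 0, 2, 0, 3, 0, 3, 3, 0, 3, 3, 0, 3, 1, 3, 3, 0, 3, 3, 1, 2, 1, 3, 1, 3, 1, 2, 1, 2, 0, 3, 0, 2, 0, 2, 0, 3, 0, 2, 2, 1, 2, 2, 0, 2, 1, 2, 1, 3, 1, 3, 1, 3, 1, 2, 1, 2, 0, 3, 0, 2, 0, 2, 0, 3, 0, 2, 1, 2, 2, 0, 3, 0, 3, 3, 0, 3, 1, 3, 1, 3, 3, 0, 3, 0, 3, 1, 2, 1, 2, 2, 0, 2, 0, 3, 0, 3, 1, 3, 3, 0, 3, 1, 2, 1, 1, 3, 1, 3, 1, 2, 1, 3, 1, 3, 1, 2, 1, 3, 0, 3, 0, 2, 0, 2, 1, 3, 1, 2, 1, 2, 1, 3, 1, 2], 1, false),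
      ([0, 3, 0, 2, 0, 2, 0, 2, 0, 2, 1, 2, 2, 1, 2, 1, 3, 3, 0, 3, 1, 2, 1, 3, 1, 3, 1, 2, 1, 3, 0, 3, 0, 2, 0, 2, 0, 2, 0, 3, 0, 3, 3, 0, 3, 3, 0, 3, 1, 3, 3, 0, 3, 3, 1, 2, 1, 3, 1, 3, 1, 2, 1, 2, 0, 3, 0, 2, 0, 2, 0, 3, 0, 2, 2, 1, 2, 2, 0, 2, 1, 2, 1, 3, 1, 3, 1, 3, 1, 2, 1, 2, 0, 3, 0, 2, 0, 2, 0, 3, 0, 2, 1, 2, 2, 0, 3, 0, 3, 3, 0, 3, 1, 3, 1, 3, 3, 0, 3, 0, 3, 1, 2, 1, 2, 2, 0, 2, 0, 3, 0, 3, 1, 3, 3, 0, 3, 1, 2, 1, 1, 3, 1, 3, 1, 2, 1, 3, 1, 3, 1, 2, 1, 3, 0, 3, 0], 0, true),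
      ([0, 3, 0, 2, 0, 2, 0, 2, 0, 2, 1, 2, 2, 1, 2, 1, 3, 3, 0, 3, 1, 2, 1, 3, 1, 3, 1, 2, 1, 3, 0, 3, 0, 2, 0, 2, 0, 2, 0, 3, 0, 3, 3, 0, 3, 3, 0, 3, 1, 3, 3, 0, 3, 3, 1, 2, 1, 3, 1, 3, 1, 2, 1, 2, 0, 3, 0, 2, 0, 2, 0, 3, 0, 2, 2, 1, 2, 2, 0, 2, 1, 2, 1, 3, 1, 3, 1, 3, 1, 2, 1, 2, 0, 3, 0, 2, 0, 2, 0, 3, 0, 2, 1, 2, 2, 0, 3, 0, 3, 3, 0, 3, 1, 3, 1, 3, 3, 0, 3, 0, 3, 1, 2, 1, 2, 2, 0, 2, 0, 3, 0, 3, 1, 3, 3, 0, 3, 1, 2, 1, 1, 3, 1, 3, 1, 2, 1, 3, 1, 3, 1, 2, 1, 3, 0, 3, 1, 2], 0, true),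
      ([0, 3, 0, 2, 0, 2, 0, 2, 0, 2, 1, 2, 2, 1, 2, 1, 3, 3, 0, 3, 1, 2, 1, 3, 1, 3, 1, 2, 1, 3, 0, 3, 0, 2, 0, 2, 0, 2, 0, 3, 0, 3, 3, 0, 3, 3, 0, 3, 1, 3, 3, 0, 3, 3, 1, 2, 1, 3, 1, 3, 1, 2, 1, 2, 0, 3, 0, 2, 0, 2, 0, 3, 0, 2, 2, 1, 2, 2, 0, 2, 1, 2, 1, 3, 1, 3, 1, 3, 1, 2, 1, 2, 0, 3, 0, 2, 0, 2, 0, 3, 0, 2, 1, 2, 2, 0, 3, 0, 3, 3, 0, 3, 1, 3, 1, 3, 3, 0, 3, 0, 3, 1, 2, 1, 2, 2, 0, 2, 0, 3, 0, 3, 1, 3, 3, 0, 3, 1, 2, 1, 3, 1], 0, true),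
      ([0, 3, 0, 2, 0, 2, 0, 2, 0, 2, 1, 2, 2, 1, 2, 1, 3, 3, 0, 3, 1, 2, 1, 3, 1, 3, 1, 2, 1, 3, 0, 3, 0, 2, 0, 2, 0, 2, 0, 3, 0, 3, 3, 0, 3, 3, 0, 3, 1, 3, 3, 0, 3, 3, 1, 2, 1, 3, 1, 3, 1, 2, 1, 2, 0, 3, 0, 2, 0, 2, 0, 3, 0, 2, 2, 1, 2, 2, 0, 2, 1, 2, 1, 3, 1, 3, 1, 3, 1, 2, 1, 2, 0, 3, 0, 2, 0, 2, 0, 3, 0, 2, 1, 2, 2, 0, 3, 0, 3, 3, 0, 3, 1, 3, 1, 3, 3, 0, 3, 0, 3, 1, 2, 1, 2, 2, 0, 2, 0, 3, 0, 3, 1, 3, 3, 0, 3, 1, 2, 1, 3, 1, 1, 2, 1, 3, 1, 3, 1, 2, 1, 3, 1, 3, 1, 2, 1, 3], 0, true),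
      ([0, 3, 0, 2, 0, 2, 0, 2, 0, 2, 1, 2, 2, 1, 2, 1, 3, 3, 0, 3, 1, 2, 1, 3, 1, 3, 1, 2, 1, 3, 0, 3, 0, 2, 0, 2, 0, 2, 0, 3, 0, 3, 3, 0, 3, 3, 0, 3, 1, 3, 3, 0, 3, 3, 1, 2, 1, 3, 1, 3, 1, 2, 1, 2, 0, 3, 0, 2, 0, 2, 0, 3, 0, 2, 2, 1, 2, 2, 0, 2, 1, 2, 1, 3, 1, 3, 1, 3, 1, 2, 1, 2, 0, 3, 0, 2, 0, 2, 0, 3, 0, 2, 1, 2, 2, 0, 3, 0, 3, 3, 0, 3, 1, 3, 1, 3, 3, 0, 3, 0, 3, 1, 2, 1, 2, 2, 0, 2, 0, 3, 0, 3, 1, 3, 3, 0, 3, 1, 2, 1, 3, 1, 2, 0, 3, 0, 3, 0, 2, 0, 3, 0, 3, 0, 2, 0, 3, 0, 3], 6, false),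
      ([0, 3, 0, 2, 0, 2, 0, 2, 0, 2, 1, 2, 2, 1, 2, 1, 3, 3, 0, 3, 1, 2, 1, 3, 1, 3, 1, 2, 1, 3, 0, 3, 0, 2, 0, 2, 0, 2, 0, 3, 0, 3, 3, 0, 3, 3, 0, 3, 1, 3, 3, 0, 3, 3, 1, 2, 1, 3, 1, 3, 1, 2, 1, 2, 0, 3, 0, 2, 0, 2, 0, 3, 0, 2, 2, 1, 2, 2, 0, 2, 1, 2, 1, 3, 1, 3, 1, 3, 1, 2, 1, 2, 0, 3, 0, 2, 0, 2, 0, 3, 0, 2, 1, 2, 2, 0, 3, 0, 3, 3, 0, 3, 1, 3, 1, 3, 3, 0, 3, 0, 3, 1, 2, 1, 2, 2, 0, 2, 0, 3, 0, 3, 1, 3, 3, 0, 3, 1, 2, 1, 3, 1, 3, 3, 0, 3, 1, 2, 2, 0, 2, 0, 3, 0, 3, 0, 0], 0, true),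
      ([0, 3, 0, 2, 0, 2, 0, 2, 0, 2, 1, 2, 2, 1, 2, 1, 3, 3, 0, 3, 1, 2, 1, 3, 1, 3, 1, 2, 1, 3, 0, 3, 0, 2, 0, 2, 0, 2, 0, 3, 0, 3, 3, 0, 3, 3, 0, 3, 1, 3, 3, 0, 3, 3, 1, 2, 1, 3, 1, 3, 1, 2, 1, 2, 0, 3, 0, 2, 0, 2, 0, 3, 0, 2, 2, 1, 2, 2, 0, 2, 1, 2, 1, 3, 1, 3, 1, 3, 1, 2, 1, 2, 0, 3, 0, 2, 0, 2, 0, 3, 0, 2, 1, 2, 2, 0, 3, 0, 3, 3, 0, 3, 1, 3, 1, 3, 3, 0, 3, 0, 3, 1, 2, 1, 2, 2, 0, 2, 0, 3, 0, 3, 1, 3, 3, 0, 3, 1, 2, 1, 3, 1, 3, 3, 0, 3, 1, 2, 2, 0, 2, 0, 3, 0, 3, 1, 2, 1, 3, 1, 3, 1, 2, 1, 2, 0, 3, 0, 2, 0, 2, 0, 3, 0, 2, 0, 0], 0, true),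
      ([0, 3, 0, 2, 0, 2, 0, 2, 0, 2, 1, 2, 2, 1, 2, 1, 3, 3, 0, 3, 1, 2, 1, 3, 1, 3, 1, 2, 1, 3, 0, 3, 0, 2, 0, 2, 0, 2, 0, 3, 0, 3, 3, 0, 3, 3, 0, 3, 1, 3, 3, 0, 3, 3, 1, 2, 1, 3, 1, 3, 1, 2, 1, 2, 0, 3, 0, 2, 0, 2, 0, 3, 0, 2, 2, 1, 2, 2, 0, 2, 1, 2, 1, 3, 1, 3, 1, 3, 1, 2, 1, 2, 0, 3, 0, 2, 0, 2, 0, 3, 0, 2, 1, 2, 2, 0, 3, 0, 3, 3, 0, 3, 1, 3, 1, 3, 3, 0, 3, 0, 3, 1, 2, 1, 2, 2, 0, 2, 0, 3], 0, true),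
      ([0, 3, 0, 2, 0, 2, 0, 2, 0, 2, 1, 2, 2, 1, 2, 1, 3, 3, 0, 3, 1, 2, 1, 3, 1, 3, 1, 2, 1, 3, 0, 3, 0, 2, 0, 2, 0, 2, 0, 3, 0, 3, 3, 0, 3, 3, 0, 3, 1, 3, 3, 0, 3, 3, 1, 2, 1, 3, 1, 3, 1, 2, 1, 2, 0, 3, 0, 2, 0, 2, 0, 3, 0, 2, 2, 1, 2, 2, 0, 2, 1, 2, 1, 3, 1, 3, 1, 3, 1, 2, 1, 2, 0, 3, 0, 2, 0, 2, 0, 3, 0, 2, 1, 2, 2, 0, 3, 0, 3, 3, 0, 3, 1, 3, 1, 3, 3, 0, 3, 0, 3, 1, 2, 1, 2, 2, 0, 2, 0, 3, 1, 3, 1, 3, 3, 0, 3, 1, 2, 1, 3, 1, 3, 3, 0, 3, 1, 2, 2, 0, 2, 0, 3, 0, 2, 1, 2, 2, 0, 2, 1, 2, 2, 1, 2, 2, 1, 2, 1, 3, 1, 2], 1, false),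
      ([0, 3, 0, 2, 0, 2, 0, 2, 0, 2, 1, 2, 2, 1, 2, 1, 3, 3, 0, 3, 1, 2, 1, 3, 1, 3, 1, 2, 1, 3, 0, 3, 0, 2, 0, 2, 0, 2, 0, 3, 0, 3, 3, 0, 3, 3, 0, 3, 1, 3, 3, 0, 3, 3, 1, 2, 1, 3, 1, 3, 1, 2, 1, 2, 0, 3, 0, 2, 0, 2, 0, 3, 0, 2, 2, 1, 2, 2, 0, 2, 1, 2, 1, 3, 1, 3, 1, 3, 1, 2, 1, 2, 0, 3, 0, 2, 0, 2, 0, 3, 0, 2, 1, 2, 2, 0, 3, 0, 3, 3, 0, 3, 1, 3, 1, 3, 3, 0, 3, 0, 3, 1, 2, 1], 1, true),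
      ([0, 3, 0, 2, 0, 2, 0, 2, 0, 2, 1, 2, 2, 1, 2, 1, 3, 3, 0, 3, 1, 2, 1, 3, 1, 3, 1, 2, 1, 3, 0, 3, 0, 2, 0, 2, 0, 2, 0, 3, 0, 3, 3, 0, 3, 3, 0, 3, 1, 3, 3, 0, 3, 3, 1, 2, 1, 3, 1, 3, 1, 2, 1, 2, 0, 3, 0, 2, 0, 2, 0, 3, 0, 2, 2, 1, 2, 2, 0, 2, 1, 2, 1, 3, 1, 3, 1, 3, 1, 2, 1, 2, 0, 3, 0, 2, 0, 2, 0, 3, 0, 2, 1, 2, 2, 0, 3, 0, 3, 3, 0, 3, 1, 3, 1, 3, 3, 0, 3, 0, 3, 1, 2, 1, 3, 0, 2, 0, 3, 1, 3, 1, 3, 3, 0, 3, 1, 2, 1, 3, 1, 3, 3, 0, 3, 1, 2, 2, 0, 2, 0, 3, 0, 2, 1, 2, 2, 0], 0, true),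
      ([0, 3, 0, 2, 0, 2, 0, 2, 0, 2, 1, 2, 2, 1, 2, 1, 3, 3, 0, 3, 1, 2, 1, 3, 1, 3, 1, 2, 1, 3, 0, 3, 0, 2, 0, 2, 0, 2, 0, 3, 0, 3, 3, 0, 3, 3, 0, 3, 1, 3, 3, 0, 3, 3, 1, 2, 1, 3, 1, 3, 1, 2, 1, 2, 0, 3, 0, 2, 0, 2, 0, 3, 0, 2, 2, 1, 2, 2, 0, 2, 1, 2, 1, 3, 1, 3, 1, 3, 1, 2, 1, 2, 0, 3, 0, 2, 0, 2, 0, 3, 0, 2, 1, 2, 2, 0, 3, 0, 3, 3, 0, 3, 1, 3, 1, 3, 3, 0, 3, 0, 3, 1, 2, 1, 3, 0, 2, 0], 0, true),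
      ([0, 3, 0, 2, 0, 2, 0, 2, 0, 2, 1, 2, 2, 1, 2, 1, 3, 3, 0, 3, 1, 2, 1, 3, 1, 3, 1, 2, 1, 3, 0, 3, 0, 2, 0, 2, 0, 2, 0, 3, 0, 3, 3, 0, 3, 3, 0, 3, 1, 3, 3, 0, 3, 3, 1, 2, 1, 3, 1, 3, 1, 2, 1, 2, 0, 3, 0, 2, 0, 2, 0, 3, 0, 2, 2, 1, 2, 2, 0, 2, 1, 2, 1, 3, 1, 3, 1, 3, 1, 2, 1, 2, 0, 3, 0, 2, 0, 2, 0, 3, 0, 2, 1, 2, 2, 0, 3, 0, 3, 3, 0, 3, 1, 3, 1, 3, 3, 0, 3, 0, 3, 1, 2, 1, 3, 0, 2, 1, 3, 1, 3, 1, 3, 3, 0, 3, 1, 2, 1, 3, 1, 3, 3, 0, 3, 1, 2, 2, 0, 2, 0, 3, 0, 2, 1], 1, true),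
      ([0, 3, 0, 2, 0, 2, 0, 2, 0, 2, 1, 2, 2, 1, 2, 1, 3, 3, 0, 3, 1, 2, 1, 3, 1, 3, 1, 2, 1, 3, 0, 3, 0, 2, 0, 2, 0, 2, 0, 3, 0, 3, 3, 0, 3, 3, 0, 3, 1, 3, 3, 0, 3, 3, 1, 2, 1, 3, 1, 3, 1, 2, 1, 2, 0, 3, 0, 2, 0, 2, 0, 3, 0, 2, 2, 1, 2, 2, 0, 2, 1, 2, 1, 3, 1, 3, 1, 3, 1, 2, 1, 2, 0, 3, 0, 2, 0, 2, 0, 3, 0, 2, 1, 2, 2, 0, 3, 0, 3, 3, 0, 3, 1, 3, 1, 3, 3, 0, 3, 0, 3, 1, 2, 1, 3, 0, 2, 1, 3, 1, 3, 1, 2], 1, false),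
      ([0, 3, 0, 2, 0, 2, 0, 2, 0, 2, 1, 2, 2, 1, 2, 1, 3, 3, 0, 3, 1, 2, 1, 3, 1, 3, 1, 2, 1, 3, 0, 3, 0, 2, 0, 2, 0, 2, 0, 3, 0, 3, 3, 0, 3, 3, 0, 3, 1, 3, 3, 0, 3, 3, 1, 2, 1, 3, 1, 3, 1, 2, 1, 2, 0, 3, 0, 2, 0, 2, 0, 3, 0, 2, 2, 1, 2, 2, 0, 2, 1, 2, 1, 3, 1, 3, 1, 3, 1, 2, 1, 2, 0, 3, 0, 2, 0, 2, 0, 3, 0, 2, 1, 2, 2, 0, 3, 0, 3, 3, 0, 3, 1, 3, 1, 3, 3, 0, 3, 0, 3, 1, 2, 1, 3, 0, 2, 1, 3, 1, 3, 1, 2, 0, 3, 1, 2, 1, 3, 1, 3, 3, 0, 3, 1, 2, 2, 0, 2, 0, 3, 0], 0, true),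
      ([0, 3, 0, 2, 0, 2, 0, 2, 0, 2, 1, 2, 2, 1, 2, 1, 3, 3, 0, 3, 1, 2, 1, 3, 1, 3, 1, 2, 1, 3, 0, 3, 0, 2, 0, 2, 0, 2, 0, 3, 0, 3, 3, 0, 3, 3, 0, 3, 1, 3, 3, 0, 3, 3, 1, 2, 1, 3, 1, 3, 1, 2, 1, 2, 0, 3, 0, 2, 0, 2, 0, 3, 0, 2, 2, 1, 2, 2, 0, 2, 1, 2, 1, 3, 1, 3, 1, 3, 1, 2, 1, 2, 0, 3, 0, 2, 0, 2, 0, 3, 0, 2, 1, 2, 2, 0, 3, 0, 3, 3, 0, 3, 1, 3, 1, 3, 3, 0, 3, 0, 3, 1, 2, 1, 3, 0, 2, 1, 3, 1, 3, 1, 2, 0], 0, true),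
      ([0, 3, 0, 2, 0, 2, 0, 2, 0, 2, 1, 2, 2, 1, 2, 1, 3, 3, 0, 3, 1, 2, 1, 3, 1, 3, 1, 2, 1, 3, 0, 3, 0, 2, 0, 2, 0, 2, 0, 3, 0, 3, 3, 0, 3, 3, 0, 3, 1, 3, 3, 0, 3, 3, 1, 2, 1, 3, 1, 3, 1, 2, 1, 2, 0, 3, 0, 2, 0, 2, 0, 3, 0, 2, 2, 1, 2, 2, 0, 2, 1, 2, 1, 3, 1, 3, 1, 3, 1, 2, 1, 2, 0, 3, 0, 2, 0, 2, 0, 3, 0, 2, 1, 2, 2, 0, 3, 0, 3, 3, 0, 3, 1, 3, 1, 3, 3, 0, 3, 0, 3, 1, 2, 1, 3, 0, 2, 1, 3, 1, 3, 1, 2, 1, 3, 1, 2, 1, 3, 1, 3, 3, 0, 3, 1, 2, 2, 0, 2], 0, true),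
      ([0, 3, 0, 2, 0, 2, 0, 2, 0, 2, 1, 2, 2, 1, 2, 1, 3, 3, 0, 3, 1, 2, 1, 3, 1, 3, 1, 2, 1, 3, 0, 3, 0, 2, 0, 2, 0, 2, 0, 3, 0, 3, 3, 0, 3, 3, 0, 3, 1, 3, 3, 0, 3, 3, 1, 2, 1, 3, 1, 3, 1, 2, 1, 2, 0, 3, 0, 2, 0, 2, 0, 3, 0, 2, 2, 1, 2, 2, 0, 2, 1, 2, 1, 3, 1, 3, 1, 3, 1, 2, 1, 2, 0, 3, 0, 2, 0, 2, 0, 3, 0, 2, 1, 2, 2, 0, 3, 0, 3, 3, 0, 3, 1, 3, 1, 3, 3, 0, 3, 0, 3, 1, 2, 1, 3], 0, true),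
      ([0, 3, 0, 2, 0, 2, 0, 2, 0, 2, 1, 2, 2, 1, 2, 1, 3, 3, 0, 3, 1, 2, 1, 3, 1, 3, 1, 2, 1, 3, 0, 3, 0, 2, 0, 2, 0, 2, 0, 3, 0, 3, 3, 0, 3, 3, 0, 3, 1, 3, 3, 0, 3, 3, 1, 2, 1, 3, 1, 3, 1, 2, 1, 2, 0, 3, 0, 2, 0, 2, 0, 3, 0, 2, 2, 1, 2, 2, 0, 2, 1, 2, 1, 3, 1, 3, 1, 3, 1, 2, 1, 2, 0, 3, 0, 2, 0, 2, 0, 3, 0, 2, 1, 2, 2, 0, 3, 0, 3, 3, 0, 3, 1, 3, 1, 3, 3, 0, 3, 0, 3, 1, 2, 1, 3, 1, 2, 1, 3, 1, 3, 1, 2, 1, 3, 1, 2, 1, 3, 1, 3, 3], 0, true),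
      ([0, 3, 0, 2, 0, 2, 0, 2, 0, 2, 1, 2, 2, 1, 2, 1, 3, 3, 0, 3, 1, 2, 1, 3, 1, 3, 1, 2, 1, 3, 0, 3, 0, 2, 0, 2, 0, 2, 0, 3, 0, 3, 3, 0, 3, 3, 0, 3, 1, 3, 3, 0, 3, 3, 1, 2, 1, 3, 1, 3, 1, 2, 1, 2, 0, 3, 0, 2, 0, 2, 0, 3, 0, 2, 2, 1, 2, 2, 0, 2, 1, 2, 1, 3, 1, 3, 1, 3, 1, 2, 1, 2, 0, 3, 0, 2, 0, 2, 0, 3, 0, 2, 1, 2, 2, 0, 3, 0, 3, 3, 0, 3, 1, 3, 1, 3, 3, 0, 3, 0, 3, 1, 2, 1, 3, 1, 2, 1, 3, 1, 3, 1, 2, 1, 3, 1, 2, 1, 3, 1, 3, 3, 1, 3, 1], 1, true),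
      ([0, 3, 0, 2, 0, 2, 0, 2, 0, 2, 1, 2, 2, 1, 2, 1, 3, 3, 0, 3, 1, 2, 1, 3, 1, 3, 1, 2, 1, 3, 0, 3, 0, 2, 0, 2, 0, 2, 0, 3, 0, 3, 3, 0, 3, 3, 0, 3, 1, 3, 3, 0, 3, 3, 1, 2, 1, 3, 1, 3, 1, 2, 1, 2, 0, 3, 0, 2, 0, 2, 0, 3, 0, 2, 2, 1, 2, 2, 0, 2, 1, 2, 1, 3, 1, 3, 1, 3, 1, 2, 1, 2, 0, 3, 0, 2, 0, 2, 0, 3, 0, 2, 1, 2, 2, 0, 3, 0, 3, 3, 0, 3, 1, 3, 1, 3, 3, 0, 3, 0, 3, 1, 2, 1, 3, 1, 2, 1, 3, 1, 3, 1, 2, 1, 3, 1, 2, 1, 3, 1, 2], 1, false),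
      ([0, 3, 0, 2, 0, 2, 0, 2, 0, 2, 1, 2, 2, 1, 2, 1, 3, 3, 0, 3, 1, 2, 1, 3, 1, 3, 1, 2, 1, 3, 0, 3, 0, 2, 0, 2, 0, 2, 0, 3, 0, 3, 3, 0, 3, 3, 0, 3, 1, 3, 3, 0, 3, 3, 1, 2, 1, 3, 1, 3, 1, 2, 1, 2, 0, 3, 0, 2, 0, 2, 0, 3, 0, 2, 2, 1, 2, 2, 0, 2, 1, 2, 1, 3, 1, 3, 1, 3, 1, 2, 1, 2, 0, 3, 0, 2, 0, 2, 0, 3, 0, 2, 1, 2, 2, 0, 3, 0, 3, 3, 0, 3, 1, 3, 1, 3, 3, 0, 3, 0, 3, 1, 2, 1, 3, 1, 2, 1, 3, 1, 3, 1, 2, 1, 3, 1, 2, 1, 3, 1, 2, 1, 3, 1, 3, 0, 2, 1, 3, 1, 2, 1, 3, 1, 2, 1, 2, 2, 1, 2, 2, 1, 2, 1, 3, 1, 2], 0, true),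
      ([0, 3, 0, 2, 0, 2, 0, 2, 0, 2, 1, 2, 2, 1, 2, 1, 3, 3, 0, 3, 1, 2, 1, 3, 1, 3, 1, 2, 1, 3, 0, 3, 0, 2, 0, 2, 0, 2, 0, 3, 0, 3, 3, 0, 3, 3, 0, 3, 1, 3, 3, 0, 3, 3, 1, 2, 1, 3, 1, 3, 1, 2, 1, 2, 0, 3, 0, 2, 0, 2, 0, 3, 0, 2, 2, 1, 2, 2, 0, 2, 1, 2, 1, 3, 1, 3, 1, 3, 1, 2, 1, 2, 0, 3, 0, 2, 0, 2, 0, 3, 0, 2, 1, 2, 2, 0, 3, 0, 3, 3, 0, 3, 1, 3, 1, 3, 3, 0, 3, 0, 3, 1, 2, 1, 3, 1, 2, 1, 3, 1, 3, 1, 2, 1, 3, 1, 2, 1, 3, 1, 2, 1, 3, 1, 3], 0, true),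
      ([0, 3, 0, 2, 0, 2, 0, 2, 0, 2, 1, 2, 2, 1, 2, 1, 3, 3, 0, 3, 1, 2, 1, 3, 1, 3, 1, 2, 1, 3, 0, 3, 0, 2, 0, 2, 0, 2, 0, 3, 0, 3, 3, 0, 3, 3, 0, 3, 1, 3, 3, 0, 3, 3, 1, 2, 1, 3, 1, 3, 1, 2, 1, 2, 0, 3, 0, 2, 0, 2, 0, 3, 0, 2, 2, 1, 2, 2, 0, 2, 1, 2, 1, 3, 1, 3, 1, 3, 1, 2, 1, 2, 0, 3, 0, 2, 0, 2, 0, 3, 0, 2, 1, 2, 2, 0, 3, 0, 3, 3, 0, 3, 1, 3, 1, 3, 3, 0, 3, 0, 3, 1, 2, 1, 3, 1, 2, 1, 3, 1, 3, 1, 2, 1, 3, 1, 2, 1, 3, 1, 2, 1, 3, 1, 3, 1, 2, 1, 3, 1, 2, 1, 3, 1, 2, 1, 2, 2, 1, 2, 2, 1, 2, 1, 3, 1, 2, 1, 3, 0, 2, 1, 2, 2, 0, 3, 1, 3, 3], 0, true),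
      ([0, 3, 0, 2, 0, 2, 0, 2, 0, 2, 1, 2, 2, 1, 2, 1, 3, 3, 0, 3, 1, 2, 1, 3, 1, 3, 1, 2, 1, 3, 0, 3, 0, 2, 0, 2, 0, 2, 0, 3, 0, 3, 3, 0, 3, 3, 0, 3, 1, 3, 3, 0, 3, 3, 1, 2, 1, 3, 1, 3, 1, 2, 1, 2, 0, 3, 0, 2, 0, 2, 0, 3, 0, 2, 2, 1, 2, 2, 0, 2, 1, 2, 1, 3, 1, 3, 1, 3, 1, 2, 1, 2, 0, 3, 0, 2, 0, 2, 0, 3, 0, 2, 1, 2, 2, 0, 3, 0, 3, 3, 0, 3, 1, 3, 1, 3, 3, 0, 3, 0, 3, 1, 2, 1, 3, 1, 2, 1, 3, 1, 3, 1, 2, 1, 3, 1, 2, 1, 3, 1, 2, 1, 3, 1, 3, 1, 2, 1, 3, 1, 2, 1, 3, 1, 2, 1, 2, 2, 1, 2, 2, 1, 2, 1, 3, 1, 2, 1, 3], 0, true),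
      ([0, 3, 0, 2, 0, 2, 0, 2, 0, 2, 1, 2, 2, 1, 2, 1, 3, 3, 0, 3, 1, 2, 1, 3, 1, 3, 1, 2, 1, 3, 0, 3, 0, 2, 0, 2, 0, 2, 0, 3, 0, 3, 3, 0, 3, 3, 0, 3, 1, 3, 3, 0, 3, 3, 1, 2, 1, 3, 1, 3, 1, 2, 1, 2, 0, 3, 0, 2, 0, 2, 0, 3, 0, 2, 2, 1, 2, 2, 0, 2, 1, 2, 1, 3, 1, 3, 1, 3, 1, 2, 1, 2, 0, 3, 0, 2, 0, 2, 0, 3, 0, 2, 1, 2, 2, 0, 3, 0, 3, 3, 0, 3, 1, 3, 1, 3, 3, 0, 3, 0, 3, 1, 2, 1, 3, 1, 2, 1, 3, 1, 3, 1, 2, 1, 3, 1, 2, 1, 3, 1, 2, 1, 3, 1, 3, 1, 2, 1, 3, 1, 2, 1, 3, 1, 2, 1, 2, 2, 1, 2, 2, 1, 2, 1, 3, 1, 2, 1, 3, 1, 2, 1, 2, 2], 0, true),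
      ([0, 3, 0, 2, 0, 2, 0, 2, 0, 2, 1, 2, 2, 1, 2, 1, 3, 3, 0, 3, 1, 2, 1, 3, 1, 3, 1, 2, 1, 3, 0, 3, 0, 2, 0, 2, 0, 2, 0, 3, 0, 3, 3, 0, 3, 3, 0, 3, 1, 3, 3, 0, 3, 3, 1, 2, 1, 3, 1, 3, 1, 2, 1, 2, 0, 3, 0, 2, 0, 2, 0, 3, 0, 2, 2, 1, 2, 2, 0, 2, 1, 2, 1, 3, 1, 3, 1, 3, 1, 2, 1, 2, 0, 3, 0, 2, 0, 2, 0, 3, 0, 2, 1, 2, 2, 0, 3, 0, 3, 3, 0, 3, 1, 3, 1, 3, 3, 0, 3, 0, 3, 1, 2, 1, 3, 1, 2, 1, 3, 1, 3, 1, 2, 1, 3, 1, 2, 1, 3, 1, 2, 1, 3, 1, 3, 1, 2, 1, 3, 1, 2, 1, 3, 1, 2, 1, 2, 2, 1, 2, 2, 1, 2, 1, 3, 1, 2, 1, 3, 1, 2, 1, 2, 2, 1, 3, 1, 2, 2, 2], 1, false),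
      ([0, 3, 0, 2, 0, 2, 0, 2, 0, 2, 1, 2, 2, 1, 2, 1, 3, 3, 0, 3, 1, 2, 1, 3, 1, 3, 1, 2, 1, 3, 0, 3, 0, 2, 0, 2, 0, 2, 0, 3, 0, 3, 3, 0, 3, 3, 0, 3, 1, 3, 3, 0, 3, 3, 1, 2, 1, 3, 1, 3, 1, 2, 1, 2, 0, 3, 0, 2, 0, 2, 0, 3, 0, 2, 2, 1, 2, 2, 0, 2, 1, 2, 1, 3, 1, 3, 1, 3, 1, 2, 1, 2, 0, 3, 0, 2, 0, 2, 0, 3, 0, 2, 1, 2, 2, 0, 3, 0, 3, 3, 0, 3, 1, 3, 1, 3, 3, 0, 3, 0, 3, 1, 2, 1, 3, 1, 2, 1, 3, 1, 3, 1, 2, 1, 3, 1, 2, 1, 3, 1, 2, 1, 3, 1, 3, 1, 2, 1, 3, 1, 2, 1, 3, 1, 2, 1, 2, 2, 1, 2, 2, 1, 2, 1, 3, 1, 2, 1, 3, 1, 2, 1, 2, 2], 1, true),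
      ([0, 3, 0, 2, 0, 2, 0, 2, 0, 2, 1, 2, 2, 1, 2, 1, 3, 3, 0, 3, 1, 2, 1, 3, 1, 3, 1, 2, 1, 3, 0, 3, 0, 2, 0, 2, 0, 2, 0, 3, 0, 3, 3, 0, 3, 3, 0, 3, 1, 3, 3, 0, 3, 3, 1, 2, 1, 3, 1, 3, 1, 2, 1, 2, 0, 3, 0, 2, 0, 2, 0, 3, 0, 2, 2, 1, 2, 2, 0, 2, 1, 2, 1, 3, 1, 3, 1, 3, 1, 2, 1, 2, 0, 3, 0, 2, 0, 2, 0, 3, 0, 2, 1, 2, 2, 0, 3, 0, 3, 3, 0, 3, 1, 3, 1, 3, 3, 0, 3, 0, 3, 1, 2, 1, 3, 1, 2, 1, 3, 1, 3, 1, 2, 1, 3, 1, 2, 1, 3, 1, 2, 1, 3, 1, 3, 1, 2, 1, 3, 1, 2, 1, 3, 1, 2, 1, 2, 2, 1, 2], 1, true),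
      ([0, 3, 0, 2, 0, 2, 0, 2, 0, 2, 1, 2, 2, 1, 2, 1, 3, 3, 0, 3, 1, 2, 1, 3, 1, 3, 1, 2, 1, 3, 0, 3, 0, 2, 0, 2, 0, 2, 0, 3, 0, 3, 3, 0, 3, 3, 0, 3, 1, 3, 3, 0, 3, 3, 1, 2, 1, 3, 1, 3, 1, 2, 1, 2, 0, 3, 0, 2, 0, 2, 0, 3, 0, 2, 2, 1, 2, 2, 0, 2, 1, 2, 1, 3, 1, 3, 1, 3, 1, 2, 1, 2, 0, 3, 0, 2, 0, 2, 0, 3, 0, 2, 1, 2, 2, 0, 3, 0, 3, 3, 0, 3, 1, 3, 1, 3, 3, 0, 3, 0, 3, 1, 2, 1, 3, 1, 2, 1, 3, 1, 3, 1, 2, 1, 3, 1, 2, 1, 3, 1, 2, 1, 3, 1, 3, 1, 2, 1, 3, 1, 2, 1, 3, 1, 2, 1, 2], 1, true),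
      ([0, 3, 0, 2, 0, 2, 0, 2, 0, 2, 1, 2, 2, 1, 2, 1, 3, 3, 0, 3, 1, 2, 1, 3, 1, 3, 1, 2, 1, 3, 0, 3, 0, 2, 0, 2, 0, 2, 0, 3, 0, 3, 3, 0, 3, 3, 0, 3, 1, 3, 3, 0, 3, 3, 1, 2, 1, 3, 1, 3, 1, 2, 1, 2, 0, 3, 0, 2, 0, 2, 0, 3, 0, 2, 2, 1, 2, 2, 0, 2, 1, 2, 1, 3, 1, 3, 1, 3, 1, 2, 1, 2, 0, 3, 0, 2, 0, 2, 0, 3, 0, 2, 1, 2, 2, 0, 3, 0, 3, 3, 0, 3, 1, 3, 1, 3, 3, 0, 3, 0, 0, 3, 0, 2, 0, 2, 0, 3, 0, 2, 0, 3, 0, 2, 0, 3], 5, false)]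

/-- The conjugates of relators behind relator 25. -/
def fivePrf25 : List (List ℕ × ℕ × Bool) :=
  [([0, 3, 0, 2, 0, 2, 0, 2, 0, 2, 1, 2, 2, 1, 2, 2, 1, 2, 2, 1, 2, 2, 1, 2, 2, 1, 2, 2, 1, 2, 2, 1, 2, 2, 1, 2, 2, 1, 2, 2, 1, 2, 2, 1, 2, 2, 1, 2, 2, 1, 2, 2, 1, 2, 2, 1, 2, 2, 1, 2, 2, 1, 2, 2, 1, 2, 2, 1, 2, 2, 1, 2, 2, 1, 2], 1, true),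
      ([0, 3, 0, 2, 0, 2, 0, 2, 0, 2, 1, 2, 2, 1, 2, 2, 1, 2, 2, 1, 2, 2, 1, 2, 2, 1, 2, 2, 1, 2, 2, 1, 2, 2, 1, 2, 2, 1, 2, 2, 1, 2, 2, 1, 2, 2, 1, 2, 2, 1, 2, 2, 1, 2, 2, 1, 2, 2, 1, 2, 2, 1, 2, 2, 1, 2, 2, 1, 2, 2, 1, 2], 1, true),
      ([0, 3, 0, 2, 0, 2, 0, 2, 0, 2, 1, 2, 2, 1, 2, 2, 1, 2, 2, 1, 2, 2, 1, 2, 2, 1, 2, 2, 1, 2, 2, 1, 2, 2, 1, 2, 2, 1, 2, 2, 1, 2, 2, 1, 2, 2, 1, 2, 2, 1, 2, 2, 1, 2, 2, 1, 2, 2, 1, 2, 2, 1, 2, 2, 1, 2, 2, 1, 2], 1, true),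
      ([0, 3, 0, 2, 0, 2, 0, 2, 0, 2, 1, 2, 2, 1, 2, 2, 1, 2, 2, 1, 2, 2, 1, 2, 2, 1, 2, 2, 1, 2, 2, 1, 2, 2, 1, 2, 2, 1, 2, 2, 1, 2, 2, 1, 2, 2, 1, 2, 2, 1, 2, 2, 1, 2, 2, 1, 2, 2, 1, 2, 2, 1, 2, 2, 1, 2], 1, true),
      ([0, 3, 0, 2, 0, 2, 0, 2, 0, 2, 1, 2, 2, 1, 2, 2, 1, 2, 2, 1, 2, 2, 1, 2, 2, 1, 2, 2, 1, 2, 2, 1, 2, 2, 1, 2, 2, 1, 2, 2, 1, 2, 2, 1, 2, 2, 1, 2, 2, 1, 2, 2, 1, 2, 2, 1, 2, 2, 1, 2, 2, 1, 2], 1, true),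
      ([0, 3, 0, 2, 0, 2, 0, 2, 0, 2, 1, 2, 2, 1, 2, 2, 1, 2, 2, 1, 2, 2, 1, 2, 2, 1, 2, 2, 1, 2, 2, 1, 2, 2, 1, 2, 2, 1, 2, 2, 1, 2, 2, 1, 2, 2, 1, 2, 2, 1, 2, 2, 1, 2, 2, 1, 2, 2, 1, 2], 1, true),
      ([0, 3, 0, 2, 0, 2, 0, 2, 0, 2, 1, 2, 2, 1, 2, 2, 1, 2, 2, 1, 2, 2, 1, 2, 2, 1, 2, 2, 1, 2, 2, 1, 2, 2, 1, 2, 2, 1, 2, 2, 1, 2, 2, 1, 2, 2, 1, 2, 2, 1, 2, 2, 1, 2, 2, 1, 2], 1, true),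
      ([0, 3, 0, 2, 0, 2, 0, 2, 0, 2, 1, 2, 2, 1, 2, 2, 1, 2, 2, 1, 2, 2, 1, 2, 2, 1, 2, 2, 1, 2, 2, 1, 2, 2, 1, 2, 2, 1, 2, 2, 1, 2, 2, 1, 2, 2, 1, 2, 2, 1, 2, 2, 1, 2], 1, true),
      ([0, 3, 0, 2, 0, 2, 0, 2, 0, 2, 1, 2, 2, 1, 2, 2, 1, 2, 2, 1, 2, 2, 1, 2, 2, 1, 2, 2, 1, 2, 2, 1, 2, 2, 1, 2, 2, 1, 2, 2, 1, 2, 2, 1, 2, 2, 1, 2, 2, 1, 2], 1, true),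
      ([0, 3, 0, 2, 0, 2, 0, 2, 0, 2, 1, 2, 2, 1, 2, 2, 1, 2, 2, 1, 2, 2, 1, 2, 2, 1, 2, 2, 1, 2, 2, 1, 2, 2, 1, 2, 2, 1, 2, 2, 1, 2, 2, 1, 2, 2, 1, 2], 1, true),
      ([0, 3, 0, 2, 0, 2, 0, 2, 0, 2, 1, 2, 2, 1, 2, 2, 1, 2, 2, 1, 2, 2, 1, 2, 2, 1, 2, 2, 1, 2, 2, 1, 2, 2, 1, 2, 2, 1, 2, 2, 1, 2, 2, 1, 2], 1, true),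
      ([0, 3, 0, 2, 0, 2, 0, 2, 0, 2, 1, 2, 2, 1, 2, 2, 1, 2, 2, 1, 2, 2, 1, 2, 2, 1, 2, 2, 1, 2, 2, 1, 2, 2, 1, 2, 2, 1, 2, 2, 1, 2], 1, true),
      ([0, 3, 0, 2, 0, 2, 0, 2, 0, 2, 1, 2, 2, 1, 2, 2, 1, 2, 2, 1, 2, 2, 1, 2, 2, 1, 2, 2, 1, 2, 2, 1, 2, 2, 1, 2, 2, 1, 2], 1, true),
      ([0, 3, 0, 2, 0, 2, 0, 2, 0, 2, 1, 2, 2, 1, 2, 2, 1, 2, 2, 1, 2, 2, 1, 2, 2, 1, 2, 2, 1, 2, 2, 1, 2, 2, 1, 2], 1, true),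
      ([0, 3, 0, 2, 0, 2, 0, 2, 0, 2, 1, 2, 2, 1, 2, 2, 1, 2, 2, 1, 2, 2, 1, 2, 2, 1, 2, 2, 1, 2, 2, 1, 2], 1, true),
      ([0, 3, 0, 2, 0, 2, 0, 2, 0, 2, 1, 2, 2, 1, 2, 2, 1, 2, 2, 1, 2, 2, 1, 2, 2, 1, 2, 2, 1, 2], 1, true),
      ([0, 3, 0, 2, 0, 2, 0, 2, 0, 2, 1, 2, 2, 1, 2, 2, 1, 2, 2, 1, 2, 2, 1, 2, 2, 1, 2], 1, true),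
      ([0, 3, 0, 2, 0, 2, 0, 2, 0, 2, 1, 2, 2, 1, 2, 2, 1, 2, 2, 1, 2, 2, 1, 2], 1, true),
      ([0, 3, 0, 2, 0, 2, 0, 2, 0, 2, 1, 2, 2, 1, 2, 2, 1, 2, 2, 1, 2], 1, true),
      ([0, 3, 0, 2, 0, 2, 0, 2, 0, 2, 1, 2, 2, 1, 2, 2, 1, 2], 1, true),
      ([0, 3, 0, 2, 0, 2, 0, 2, 0, 2, 1, 2, 2, 1, 2], 1, true),
      ([0, 3, 0, 2, 0, 2, 0, 2, 0, 2, 1, 2], 1, true),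
      ([0, 3, 0, 2, 0, 2, 0, 2, 0], 1, true),
      ([0, 3, 0, 2, 0, 2, 0, 2, 0, 3], 2, false)]

/-- The conjugates of relators behind relator 26. -/
def fivePrf26 : List (List ℕ × ℕ × Bool) :=
  [([0, 3, 0, 2, 0, 3, 0, 3, 0], 4, true),
      ([0, 3, 0, 2, 0, 3, 0, 3, 0, 3, 1, 2, 2], 1, false),
      ([0, 3, 0, 2, 0, 3, 0, 3, 0, 3, 1, 2, 2, 1, 2, 0, 2, 2, 2], 1, true),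
      ([0, 3, 0, 2, 0, 3, 0, 3, 0, 3, 1, 2, 2, 1, 2, 0, 3, 3, 0, 3, 1, 2, 2], 1, false),
      ([0, 3, 0, 2, 0, 3, 0, 3, 0, 3, 1, 2, 2, 1, 2, 0, 3, 3, 0, 3, 1, 2, 2, 1, 2, 0, 2, 2, 2], 1, true),
      ([0, 3, 0, 2, 0, 3, 0, 3, 0, 3, 1, 2, 2, 1, 2, 0, 3, 3, 0, 3, 1, 2, 2, 1, 2, 0, 3, 3, 0, 3, 1, 2, 2], 1, false),
      ([0, 3, 0, 2, 0, 3, 0, 3, 0, 3, 1, 2, 2, 1, 2, 0, 3, 3, 0, 3, 1, 2, 2, 1, 2, 0, 3, 3, 0, 3, 1, 2, 2, 1, 2, 0, 2, 2, 2], 1, true),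
      ([0, 3, 0, 2, 0, 3, 0, 3, 0, 3, 1, 2, 2, 1, 2, 0, 3, 3, 0, 3, 1, 2, 2, 1, 2, 0, 3, 3, 0, 3, 1, 2, 2, 1, 2, 0, 3, 3, 0, 3, 1, 2, 2], 1, false),
      ([0, 3, 0, 2, 0, 3, 0, 3, 0, 3, 1, 2, 2, 1, 2, 0, 3, 3, 0, 3, 1, 2, 2, 1, 2, 0, 3, 3, 0, 3, 1, 2, 2, 1, 2, 0, 3, 3, 0, 3, 1, 2, 2, 1, 2, 0, 2, 2, 2], 1, true),
      ([0, 3, 0, 2, 0, 3, 0, 3, 0, 3, 1, 2, 2, 1, 2, 0, 3, 3, 0, 3, 1, 2, 2, 1, 2, 0, 3, 3, 0, 3, 1, 2, 2, 1, 2, 0, 3, 3, 0, 3, 1, 2, 2, 1, 2, 0, 3, 3, 0, 3, 1, 2, 2], 1, false),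
      ([0, 3, 0, 2, 0, 3, 0, 3, 0, 3, 1, 2, 2, 1, 2, 0, 3, 3, 0, 3, 1, 2, 2, 1, 2, 0, 3, 3, 0, 3, 1, 2, 2, 1, 2, 0, 3, 3, 0, 3, 1, 2, 2, 1, 2, 0, 3, 3, 0, 3, 1, 2, 2, 1, 2, 0, 2, 2, 2], 1, true),
      ([0, 3, 0, 2, 0, 3, 0, 3, 0, 3, 1, 2, 2], 0, false),
      ([0, 3, 0, 2, 0, 3, 0, 3, 0, 3, 1, 2, 2, 0, 2, 0], 0, true),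
      ([0, 3, 0, 2, 0, 3, 0, 3, 0, 3, 1, 2, 2, 0, 2, 1, 3, 3, 0, 3, 1, 2, 2], 0, false),
      ([0, 3, 0, 2, 0, 3, 0, 3, 0, 3, 1, 2, 2, 0, 2, 1, 3, 3, 0, 3, 1, 2, 2, 0, 2, 0], 0, true),
      ([0, 3, 0, 2, 0, 3, 0, 3, 0, 3, 1, 2, 2, 0, 2, 1, 3, 3, 0, 3, 1, 2, 2, 0, 2, 1, 3, 3, 0, 3, 1, 2, 2], 0, false),
      ([0, 3, 0, 2, 0, 3, 0, 3, 0, 3, 1, 2, 2, 0, 2, 1, 3, 3, 0, 3, 1, 2, 2, 0, 2, 1, 3, 3, 0, 3, 1, 2, 2, 0, 2, 0], 0, true),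
      ([0, 3, 0, 2, 0, 3, 0, 3, 0, 3, 1, 2, 2, 0, 2, 1, 3, 3, 0, 3, 1, 2, 2, 0, 2, 1, 3, 3, 0, 3, 1, 2, 2, 0, 2, 1, 3, 3, 0, 3, 1, 2, 2], 0, false),
      ([0, 3, 0, 2, 0, 3, 0, 3, 0, 3, 1, 2, 2, 0, 2, 1, 3, 3, 0, 3, 1, 2, 2, 0, 2, 1, 3, 3, 0, 3, 1, 2, 2, 0, 2, 1, 3, 3, 0, 3, 1, 2, 2, 0, 2, 0], 0, true),
      ([0, 3, 0, 2, 0, 3, 0, 3, 0, 3, 1, 2, 2, 0, 2, 1, 3, 3, 0, 3, 1, 2, 2, 0, 2, 1, 3, 3, 0, 3, 1, 2, 2, 0, 2, 1, 3, 3, 0, 3, 1, 2, 2, 0, 2, 1, 3, 3, 0, 3, 1, 2, 2], 0, false),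
      ([0, 3, 0, 2, 0, 3, 0, 3, 0, 3, 1, 2, 2, 0, 2, 1, 3, 3, 0, 3, 1, 2, 2, 0, 2, 1, 3, 3, 0, 3, 1, 2, 2, 0, 2, 1, 3, 3, 0, 3, 1, 2, 2, 0, 2, 1, 3, 3, 0, 3, 1, 2, 2, 0, 2, 0], 0, true),
      ([0, 3, 0, 2, 0, 3, 0, 3, 0, 3, 1, 2, 1, 2, 1, 3, 1, 2, 1, 2, 0, 3, 0, 2, 0, 2, 0, 3, 0, 2, 1, 2, 2, 0, 3, 0, 3, 3, 0, 3, 1, 3, 1, 2], 1, false),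
      ([0, 3, 0, 2, 0, 3, 0, 3, 0, 3, 1, 2, 1, 2, 1, 3, 1, 2, 1, 2, 0, 3, 0, 2, 0, 2, 0, 3, 0, 2, 1, 2, 2, 0, 3, 0, 3, 3, 0, 3, 0, 0], 0, false),
      ([0, 3, 0, 2, 0, 3, 0, 3, 0, 3, 1, 2, 1, 2, 1, 3, 1, 2, 1, 2, 0, 3, 0, 2, 0, 2, 0, 3, 0, 2, 1], 1, true),
      ([0, 3, 0, 2, 0, 3, 0, 3, 0, 3, 1, 2, 1, 2, 1, 3, 1, 2, 1, 2, 0, 3, 0, 2, 0, 2, 0, 3, 0, 2, 0, 0], 0, false),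
      ([0, 3, 0, 2, 0, 3, 0, 3, 0, 3, 1, 2, 1, 2, 1, 3, 1, 2, 1, 2, 0, 3, 0, 2, 0, 2, 0, 3, 0, 2, 0, 3, 0, 3, 0, 3, 3, 0, 3, 0, 3, 0], 0, false),
      ([0, 3, 0, 2, 0, 3, 0, 3, 0, 3, 1, 2, 0], 0, false),
      ([0, 3, 0, 2, 0, 3, 0, 3, 0, 3, 1, 2, 0, 2, 1, 3, 0, 0], 0, false),
      ([0, 3, 0, 2, 0, 3, 0, 3, 0, 3, 1, 2, 0, 2, 0], 0, false),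
      ([0, 3, 0, 2, 0, 3, 0, 3, 0, 3, 0], 0, false),
      ([0, 3, 0, 2, 0, 3, 0, 3, 0, 3, 0, 2, 0, 2, 0, 3, 0, 2, 0], 0, false),
      ([0, 3, 0, 2, 0, 3, 0, 3, 0, 3, 0, 2, 0, 2, 0, 3, 0, 2, 0, 2, 0, 3, 0, 2, 0, 2, 0, 3, 0, 2, 0, 3, 0, 3, 0, 2, 2], 1, false),
      ([0, 3, 0, 2, 0, 3, 3, 1, 2, 1, 2, 1, 3, 1, 2, 1, 2, 1, 3, 1, 2, 1, 3, 1, 3, 1, 2, 1, 3, 1, 3, 1, 2, 1, 3, 1, 3, 1], 6, true),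
      ([0, 3, 0, 2, 0, 2, 0, 2, 0, 2, 1, 2, 2, 1, 2, 1, 3, 3, 0, 3, 1, 2, 1, 3, 1, 3, 1, 2, 1, 3, 0, 3, 0, 2, 0, 3, 0, 2, 0, 2, 1, 3, 3, 0, 3, 1, 2, 1, 2, 1, 3, 1, 2, 1, 2, 0, 3, 0, 2, 0, 2, 0, 3, 0, 2, 1, 2, 2, 0, 3, 0, 3, 3, 0, 3, 1, 3, 1, 2], 1, false),
      ([0, 3, 0, 2, 0, 2, 0, 2, 0, 2, 1, 2, 2, 1, 2, 1, 3, 3, 0, 3, 1, 2, 1, 3, 1, 3, 1, 2, 1, 3, 0, 3, 0, 2, 0, 3, 0, 2, 0, 2, 1, 3, 3, 0, 3, 1, 2, 1, 2, 1, 3, 1, 2, 1, 2, 0, 3, 0, 2, 0, 2, 0, 3, 0, 2, 1, 2, 2, 0, 3, 0, 3, 3, 0, 3, 0, 0], 0, false),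
      ([0, 3, 0, 2, 0, 2, 0, 2, 0, 2, 1, 2, 2, 1, 2, 1, 3, 3, 0, 3, 1, 2, 1, 3, 1, 3, 1, 2, 1, 3, 0, 3, 0, 2, 0, 3, 0, 2, 0, 2, 1, 3, 3, 0, 3, 1, 2, 1, 2, 1, 3, 1, 2, 1, 2, 0, 3, 0, 2, 0, 2, 0, 3, 0, 2, 1], 1, true),
      ([0, 3, 0, 2, 0, 2, 0, 2, 0, 2, 1, 2, 2, 1, 2, 1, 3, 3, 0, 3, 1, 2, 1, 3, 1, 3, 1, 2, 1, 3, 0, 3, 0, 2, 0, 3, 0, 2, 0, 2, 1, 3, 3, 0, 3, 1, 2, 1, 2, 1, 3, 1, 2, 1, 2, 0, 3, 0, 2, 0, 2, 0, 3, 0, 2, 0, 0], 0, false),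
      ([0, 3, 0, 2, 0, 2, 0, 2, 0, 2, 1, 2, 2, 1, 2, 1, 3, 3, 0, 3, 1, 2, 1, 3, 1, 3, 1, 2, 1, 3, 0, 3, 0, 2, 0, 3, 0, 2, 0, 2, 1, 3, 3, 0, 3, 1, 2, 1, 2, 1, 3, 1, 2, 1, 2, 0, 3, 0, 2, 0, 2, 0, 3, 0, 2, 0, 3, 0, 3, 0, 3, 3, 0, 3, 0, 3, 0], 0, false),
      ([0, 3, 0, 2, 0, 2, 0, 2, 0, 2, 1, 2, 2, 1, 2, 1, 3, 3, 0, 3, 1, 2, 1, 3, 1, 3, 1, 2, 1, 3, 0, 3, 0, 2, 0, 3, 0, 2, 0, 2, 1, 3, 3, 0, 3, 1, 2, 0], 0, false),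
      ([0, 3, 0, 2, 0, 2, 0, 2, 0, 2, 1, 2, 2, 1, 2, 1, 3, 3, 0, 3, 1, 2, 1, 3, 1, 3, 1, 2, 1, 3, 0, 3, 0, 2, 0, 3, 0, 2, 0, 2, 1, 3, 3, 0, 3, 1, 2, 0, 2, 1, 3, 0, 0], 0, false),
      ([0, 3, 0, 2, 0, 2, 0, 2, 0, 2, 1, 2, 2, 1, 2, 1, 3, 3, 0, 3, 1, 2, 1, 3, 1, 3, 1, 2, 1, 3, 0, 3, 0, 2, 0, 3, 0, 2, 0, 2, 1, 3, 3, 0, 3, 1, 2, 0, 2, 0], 0, false),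
      ([0, 3, 0, 2, 0, 2, 0, 2, 0, 2, 1, 2, 2, 1, 2, 1, 3, 3, 0, 3, 1, 2, 1, 3, 1, 3, 1, 2, 1, 3, 0, 3, 0, 2, 0, 3, 0, 2, 0, 2, 1, 3, 3, 0, 3, 0], 0, false),
      ([0, 3, 0, 2, 0, 2, 0, 2, 0, 2, 1, 2, 2, 1, 2, 1, 3, 3, 0, 3, 1, 2, 1, 3, 1, 3, 1, 2, 1, 3, 0, 3, 0, 2, 0, 3, 0, 2, 0, 2, 1, 3, 3, 0, 3, 0, 2, 0, 2, 0, 3, 0, 2, 0], 0, false),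
      ([0, 3, 0, 2, 0, 2, 0, 2, 0, 2, 1, 2, 2, 1, 2, 1, 3, 3, 0, 3, 1, 2, 1, 3, 1, 3, 1, 2, 1, 3, 0, 3, 0, 2, 0, 3, 0, 2, 0, 2, 1, 3, 3, 0, 3, 0, 2, 0, 2, 0, 3, 0, 2, 0, 2, 0, 3, 0, 2, 0, 2, 0, 3, 0, 2, 0, 3, 0, 3, 0, 2, 2], 1, false),
      ([0, 3, 0, 2, 0, 2, 0, 2, 0, 2, 1, 2, 2, 1, 2, 1, 3, 3, 0, 3, 1, 2, 1, 3, 1, 3, 1, 2, 1, 3, 0, 3, 0, 2, 0, 3, 0, 2, 0, 2, 1, 3, 1, 3, 1, 2, 1, 2, 1, 3, 1, 2, 1, 2, 1, 3, 1, 2, 1, 3, 1, 3, 1, 2, 1, 3, 1, 3, 1, 2, 1, 3, 1, 3, 1], 6, true),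
      ([0, 3, 0, 2, 0, 2, 0, 2, 0, 2, 1, 2, 2, 1, 2, 1, 3, 3, 0, 3, 1, 2, 1, 3, 1, 3, 1, 2, 1, 3, 0, 3, 0, 2, 0, 3, 0, 2, 0, 2, 1, 3, 1, 2, 2, 0, 2, 0, 2, 1, 2, 2, 1, 2, 1, 3, 3, 0, 3, 1, 2, 1, 3, 1, 3, 1, 2, 1, 3, 0, 3, 0, 2, 0, 3, 0, 2, 0, 2, 1, 3, 3, 0, 3, 1, 2, 1, 2, 1, 3, 1, 2, 1, 2, 0, 3, 0, 2, 0, 2, 0, 3, 0, 2, 1, 2, 2, 0, 3, 0, 3, 3, 0, 3, 1, 3, 1, 2], 1, false),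
      ([0, 3, 0, 2, 0, 2, 0, 2, 0, 2, 1, 2, 2, 1, 2, 1, 3, 3, 0, 3, 1, 2, 1, 3, 1, 3, 1, 2, 1, 3, 0, 3, 0, 2, 0, 3, 0, 2, 0, 2, 1, 3, 1, 2, 2, 0, 2, 0, 2, 1, 2, 2, 1, 2, 1, 3, 3, 0, 3, 1, 2, 1, 3, 1, 3, 1, 2, 1, 3, 0, 3, 0, 2, 0, 3, 0, 2, 0, 2, 1, 3, 3, 0, 3, 1, 2, 1, 2, 1, 3, 1, 2, 1, 2, 0, 3, 0, 2, 0, 2, 0, 3, 0, 2, 1, 2, 2, 0, 3, 0, 3, 3, 0, 3, 0, 0], 0, false),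
      ([0, 3, 0, 2, 0, 2, 0, 2, 0, 2, 1, 2, 2, 1, 2, 1, 3, 3, 0, 3, 1, 2, 1, 3, 1, 3, 1, 2, 1, 3, 0, 3, 0, 2, 0, 3, 0, 2, 0, 2, 1, 3, 1, 2, 2, 0, 2, 0, 2, 1, 2, 2, 1, 2, 1, 3, 3, 0, 3, 1, 2, 1, 3, 1, 3, 1, 2, 1, 3, 0, 3, 0, 2, 0, 3, 0, 2, 0, 2, 1, 3, 3, 0, 3, 1, 2, 1, 2, 1, 3, 1, 2, 1, 2, 0, 3, 0, 2, 0, 2, 0, 3, 0, 2, 1], 1, true),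
      ([0, 3, 0, 2, 0, 2, 0, 2, 0, 2, 1, 2, 2, 1, 2, 1, 3, 3, 0, 3, 1, 2, 1, 3, 1, 3, 1, 2, 1, 3, 0, 3, 0, 2, 0, 3, 0, 2, 0, 2, 1, 3, 1, 2, 2, 0, 2, 0, 2, 1, 2, 2, 1, 2, 1, 3, 3, 0, 3, 1, 2, 1, 3, 1, 3, 1, 2, 1, 3, 0, 3, 0, 2, 0, 3, 0, 2, 0, 2, 1, 3, 3, 0, 3, 1, 2, 1, 2, 1, 3, 1, 2, 1, 2, 0, 3, 0, 2, 0, 2, 0, 3, 0, 2, 0, 0], 0, false),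
      ([0, 3, 0, 2, 0, 2, 0, 2, 0, 2, 1, 2, 2, 1, 2, 1, 3, 3, 0, 3, 1, 2, 1, 3, 1, 3, 1, 2, 1, 3, 0, 3, 0, 2, 0, 3, 0, 2, 0, 2, 1, 3, 1, 2, 2, 0, 2, 0, 2, 1, 2, 2, 1, 2, 1, 3, 3, 0, 3, 1, 2, 1, 3, 1, 3, 1, 2, 1, 3, 0, 3, 0, 2, 0, 3, 0, 2, 0, 2, 1, 3, 3, 0, 3, 1, 2, 1, 2, 1, 3, 1, 2, 1, 2, 0, 3, 0, 2, 0, 2, 0, 3, 0, 2, 0, 3, 0, 3, 0, 3, 3, 0, 3, 0, 3, 0], 0, false),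
      ([0, 3, 0, 2, 0, 2, 0, 2, 0, 2, 1, 2, 2, 1, 2, 1, 3, 3, 0, 3, 1, 2, 1, 3, 1, 3, 1, 2, 1, 3, 0, 3, 0, 2, 0, 3, 0, 2, 0, 2, 1, 3, 1, 2, 2, 0, 2, 0, 2, 1, 2, 2, 1, 2, 1, 3, 3, 0, 3, 1, 2, 1, 3, 1, 3, 1, 2, 1, 3, 0, 3, 0, 2, 0, 3, 0, 2, 0, 2, 1, 3, 3, 0, 3, 1, 2, 0], 0, false),
      ([0, 3, 0, 2, 0, 2, 0, 2, 0, 2, 1, 2, 2, 1, 2, 1, 3, 3, 0, 3, 1, 2, 1, 3, 1, 3, 1, 2, 1, 3, 0, 3, 0, 2, 0, 3, 0, 2, 0, 2, 1, 3, 1, 2, 2, 0, 2, 0, 2, 1, 2, 2, 1, 2, 1, 3, 3, 0, 3, 1, 2, 1, 3, 1, 3, 1, 2, 1, 3, 0, 3, 0, 2, 0, 3, 0, 2, 0, 2, 1, 3, 3, 0, 3, 1, 2, 0, 2, 1, 3, 0, 0], 0, false),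
      ([0, 3, 0, 2, 0, 2, 0, 2, 0, 2, 1, 2, 2, 1, 2, 1, 3, 3, 0, 3, 1, 2, 1, 3, 1, 3, 1, 2, 1, 3, 0, 3, 0, 2, 0, 3, 0, 2, 0, 2, 1, 3, 1, 2, 2, 0, 2, 0, 2, 1, 2, 2, 1, 2, 1, 3, 3, 0, 3, 1, 2, 1, 3, 1, 3, 1, 2, 1, 3, 0, 3, 0, 2, 0, 3, 0, 2, 0, 2, 1, 3, 3, 0, 3, 1, 2, 0, 2, 0], 0, false),
      ([0, 3, 0, 2, 0, 2, 0, 2, 0, 2, 1, 2, 2, 1, 2, 1, 3, 3, 0, 3, 1, 2, 1, 3, 1, 3, 1, 2, 1, 3, 0, 3, 0, 2, 0, 3, 0, 2, 0, 2, 1, 3, 1, 2, 2, 0, 2, 0, 2, 1, 2, 2, 1, 2, 1, 3, 3, 0, 3, 1, 2, 1, 3, 1, 3, 1, 2, 1, 3, 0, 3, 0, 2, 0, 3, 0, 2, 0, 2, 1, 3, 3, 0, 3, 0], 0, false),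
      ([0, 3, 0, 2, 0, 2, 0, 2, 0, 2, 1, 2, 2, 1, 2, 1, 3, 3, 0, 3, 1, 2, 1, 3, 1, 3, 1, 2, 1, 3, 0, 3, 0, 2, 0, 3, 0, 2, 0, 2, 1, 3, 1, 2, 2, 0, 2, 0, 2, 1, 2, 2, 1, 2, 1, 3, 3, 0, 3, 1, 2, 1, 3, 1, 3, 1, 2, 1, 3, 0, 3, 0, 2, 0, 3, 0, 2, 0, 2, 1, 3, 3, 0, 3, 0, 2, 0, 2, 0, 3, 0, 2, 0], 0, false),
      ([0, 3, 0, 2, 0, 2, 0, 2, 0, 2, 1, 2, 2, 1, 2, 1, 3, 3, 0, 3, 1, 2, 1, 3, 1, 3, 1, 2, 1, 3, 0, 3, 0, 2, 0, 3, 0, 2, 0, 2, 1, 3, 1, 2, 2, 0, 2, 0, 2, 1, 2, 2, 1, 2, 1, 3, 3, 0, 3, 1, 2, 1, 3, 1, 3, 1, 2, 1, 3, 0, 3, 0, 2, 0, 3, 0, 2, 0, 2, 1, 3, 3, 0, 3, 0, 2, 0, 2, 0, 3, 0, 2, 0, 2, 0, 3, 0, 2, 0, 2, 0, 3, 0, 2, 0, 3, 0, 3, 0,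 2, 2], 1, false),
      ([0, 3, 0, 2, 0, 2, 0, 2, 0, 2, 1, 2, 2, 1, 2, 1, 3, 3, 0, 3, 1, 2, 1, 3, 1, 3, 1, 2, 1, 3, 0, 3, 0, 2, 0, 3, 0, 2, 0, 2, 1, 3, 1, 2, 2, 0, 2, 0, 2, 1, 2, 2, 1, 2, 1, 3, 3, 0, 3, 1, 2, 1, 3, 1, 3, 1, 2, 1, 3, 0, 3, 0, 2, 0, 3, 0, 2, 0, 2, 1, 3, 1, 3, 1, 2, 1, 2, 1, 3, 1, 2, 1, 2, 1, 3, 1, 2, 1, 3, 1, 3, 1, 2, 1, 3, 1, 3, 1, 2, 1, 3, 1, 3, 1], 6, true),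
      ([0, 3, 0, 2, 0, 2, 0, 2, 0, 2, 1, 2, 2, 1, 2, 1, 3, 3, 0, 3, 1, 2, 1, 3, 1, 3, 1, 2, 1, 3, 0, 3, 0, 2, 0, 3, 0, 2, 0, 2, 1, 3, 1, 2, 2, 0, 2, 0, 2, 1, 2, 2, 1, 2, 1, 3, 3, 0, 3, 1, 2, 1, 3, 1, 3, 1, 2, 1, 3, 0, 3, 0, 2, 0, 3, 0, 2, 0, 2, 1, 3, 1, 2, 2, 0, 2, 0, 2, 1, 2, 2, 1, 2, 1, 3, 3, 0, 3, 1, 2, 1, 3, 1, 3, 1, 2, 1, 3, 0, 3, 0, 2, 0, 3, 0, 2, 0, 2, 1, 3, 3, 0, 3, 1, 2, 1, 2, 1, 3, 1, 2, 1, 2, 0, 3, 0, 2, 0, 2, 0, 3, 0, 2, 1, 2, 2, 0, 3, 0, 3, 3, 0, 3, 1, 3, 1, 2], 1, false),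
      ([0, 3, 0, 2, 0, 2, 0, 2, 0, 2, 1, 2, 2, 1, 2, 1, 3, 3, 0, 3, 1, 2, 1, 3, 1, 3, 1, 2, 1, 3, 0, 3, 0, 2, 0, 3, 0, 2, 0, 2, 1, 3, 1, 2, 2, 0, 2, 0, 2, 1, 2, 2, 1, 2, 1, 3, 3, 0, 3, 1, 2, 1, 3, 1, 3, 1, 2, 1, 3, 0, 3, 0, 2, 0, 3, 0, 2, 0, 2, 1, 3, 1, 2, 2, 0, 2, 0, 2, 1, 2, 2, 1, 2, 1, 3, 3, 0, 3, 1, 2, 1, 3, 1, 3, 1, 2, 1, 3, 0, 3, 0, 2, 0, 3, 0, 2, 0, 2, 1, 3, 3, 0, 3, 1, 2, 1, 2, 1, 3, 1, 2, 1, 2, 0, 3, 0, 2, 0, 2, 0, 3, 0, 2, 1, 2, 2, 0, 3, 0, 3, 3, 0, 3, 0, 0], 0, false),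
      ([0, 3, 0, 2, 0, 2, 0, 2, 0, 2, 1, 2, 2, 1, 2, 1, 3, 3, 0, 3, 1, 2, 1, 3, 1, 3, 1, 2, 1, 3, 0, 3, 0, 2, 0, 3, 0, 2, 0, 2, 1, 3, 1, 2, 2, 0, 2, 0, 2, 1, 2, 2, 1, 2, 1, 3, 3, 0, 3, 1, 2, 1, 3, 1, 3, 1, 2, 1, 3, 0, 3, 0, 2, 0, 3, 0, 2, 0, 2, 1, 3, 1, 2, 2, 0, 2, 0, 2, 1, 2, 2, 1, 2, 1, 3, 3, 0, 3, 1, 2, 1, 3, 1, 3, 1, 2, 1, 3, 0, 3, 0, 2, 0, 3, 0, 2, 0, 2, 1, 3, 3, 0, 3, 1, 2, 1, 2, 1, 3, 1, 2, 1, 2, 0, 3, 0, 2, 0, 2, 0, 3, 0, 2, 1], 1, true),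
      ([0, 3, 0, 2, 0, 2, 0, 2, 0, 2, 1, 2, 2, 1, 2, 1, 3, 3, 0, 3, 1, 2, 1, 3, 1, 3, 1, 2, 1, 3, 0, 3, 0, 2, 0, 3, 0, 2, 0, 2, 1, 3, 1, 2, 2, 0, 2, 0, 2, 1, 2, 2, 1, 2, 1, 3, 3, 0, 3, 1, 2, 1, 3, 1, 3, 1, 2, 1, 3, 0, 3, 0, 2, 0, 3, 0, 2, 0, 2, 1, 3, 1, 2, 2, 0, 2, 0, 2, 1, 2, 2, 1, 2, 1, 3, 3, 0, 3, 1, 2, 1, 3, 1, 3, 1, 2, 1, 3, 0, 3, 0, 2, 0, 3, 0, 2, 0, 2, 1, 3, 3, 0, 3, 1, 2, 1, 2, 1, 3, 1, 2, 1, 2, 0, 3, 0, 2, 0, 2, 0, 3, 0, 2, 0, 0], 0, false),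
      ([0, 3, 0, 2, 0, 2, 0, 2, 0, 2, 1, 2, 2, 1, 2, 1, 3, 3, 0, 3, 1, 2, 1, 3, 1, 3, 1, 2, 1, 3, 0, 3, 0, 2, 0, 3, 0, 2, 0, 2, 1, 3, 1, 2, 2, 0, 2, 0, 2, 1, 2, 2, 1, 2, 1, 3, 3, 0, 3, 1, 2, 1, 3, 1, 3, 1, 2, 1, 3, 0, 3, 0, 2, 0, 3, 0, 2, 0, 2, 1, 3, 1, 2, 2, 0, 2, 0, 2, 1, 2, 2, 1, 2, 1, 3, 3, 0, 3, 1, 2, 1, 3, 1, 3, 1, 2, 1, 3, 0, 3, 0, 2, 0, 3, 0, 2, 0, 2, 1, 3, 3, 0, 3, 1, 2, 1, 2, 1, 3, 1, 2, 1, 2, 0, 3, 0, 2, 0, 2, 0, 3, 0, 2, 0, 3, 0, 3, 0, 3, 3, 0, 3, 0, 3, 0], 0, false),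
      ([0, 3, 0, 2, 0, 2, 0, 2, 0, 2, 1, 2, 2, 1, 2, 1, 3, 3, 0, 3, 1, 2, 1, 3, 1, 3, 1, 2, 1, 3, 0, 3, 0, 2, 0, 3, 0, 2, 0, 2, 1, 3, 1, 2, 2, 0, 2, 0, 2, 1, 2, 2, 1, 2, 1, 3, 3, 0, 3, 1, 2, 1, 3, 1, 3, 1, 2, 1, 3, 0, 3, 0, 2, 0, 3, 0, 2, 0, 2, 1, 3, 1, 2, 2, 0, 2, 0, 2, 1, 2, 2, 1, 2, 1, 3, 3, 0, 3, 1, 2, 1, 3, 1, 3, 1, 2, 1, 3, 0, 3, 0, 2, 0, 3, 0, 2, 0, 2, 1, 3, 3, 0, 3, 1, 2, 0], 0, false),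
      ([0, 3, 0, 2, 0, 2, 0, 2, 0, 2, 1, 2, 2, 1, 2, 1, 3, 3, 0, 3, 1, 2, 1, 3, 1, 3, 1, 2, 1, 3, 0, 3, 0, 2, 0, 3, 0, 2, 0, 2, 1, 3, 1, 2, 2, 0, 2, 0, 2, 1, 2, 2, 1, 2, 1, 3, 3, 0, 3, 1, 2, 1, 3, 1, 3, 1, 2, 1, 3, 0, 3, 0, 2, 0, 3, 0, 2, 0, 2, 1, 3, 1, 2, 2, 0, 2, 0, 2, 1, 2, 2, 1, 2, 1, 3, 3, 0, 3, 1, 2, 1, 3, 1, 3, 1, 2, 1, 3, 0, 3, 0, 2, 0, 3, 0, 2, 0, 2, 1, 3, 3, 0, 3, 1, 2, 0, 2, 1, 3, 0, 0], 0, false),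
      ([0, 3, 0, 2, 0, 2, 0, 2, 0, 2, 1, 2, 2, 1, 2, 1, 3, 3, 0, 3, 1, 2, 1, 3, 1, 3, 1, 2, 1, 3, 0, 3, 0, 2, 0, 3, 0, 2, 0, 2, 1, 3, 1, 2, 2, 0, 2, 0, 2, 1, 2, 2, 1, 2, 1, 3, 3, 0, 3, 1, 2, 1, 3, 1, 3, 1, 2, 1, 3, 0, 3, 0, 2, 0, 3, 0, 2, 0, 2, 1, 3, 1, 2, 2, 0, 2, 0, 2, 1, 2, 2, 1, 2, 1, 3, 3, 0, 3, 1, 2, 1, 3, 1, 3, 1, 2, 1, 3, 0, 3, 0, 2, 0, 3, 0, 2, 0, 2, 1, 3, 3, 0, 3, 1, 2, 0, 2, 0], 0, false),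
      ([0, 3, 0, 2, 0, 2, 0, 2, 0, 2, 1, 2, 2, 1, 2, 1, 3, 3, 0, 3, 1, 2, 1, 3, 1, 3, 1, 2, 1, 3, 0, 3, 0, 2, 0, 3, 0, 2, 0, 2, 1, 3, 1, 2, 2, 0, 2, 0, 2, 1, 2, 2, 1, 2, 1, 3, 3, 0, 3, 1, 2, 1, 3, 1, 3, 1, 2, 1, 3, 0, 3, 0, 2, 0, 3, 0, 2, 0, 2, 1, 3, 1, 2, 2, 0, 2, 0, 2, 1, 2, 2, 1, 2, 1, 3, 3, 0, 3, 1, 2, 1, 3, 1, 3, 1, 2, 1, 3, 0, 3, 0, 2, 0, 3, 0, 2, 0, 2, 1, 3, 3, 0, 3, 0], 0, false),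
      ([0, 3, 0, 2, 0, 2, 0, 2, 0, 2, 1, 2, 2, 1, 2, 1, 3, 3, 0, 3, 1, 2, 1, 3, 1, 3, 1, 2, 1, 3, 0, 3, 0, 2, 0, 3, 0, 2, 0, 2, 1, 3, 1, 2, 2, 0, 2, 0, 2, 1, 2, 2, 1, 2, 1, 3, 3, 0, 3, 1, 2, 1, 3, 1, 3, 1, 2, 1, 3, 0, 3, 0, 2, 0, 3, 0, 2, 0, 2, 1, 3, 1, 2, 2, 0, 2, 0, 2, 1, 2, 2, 1, 2, 1, 3, 3, 0, 3, 1, 2, 1, 3, 1, 3, 1, 2, 1, 3, 0, 3, 0, 2, 0, 3, 0, 2, 0, 2, 1, 3, 3, 0, 3, 0, 2, 0, 2, 0, 3, 0, 2, 0], 0, false),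
      ([0, 3, 0, 2, 0, 2, 0, 2, 0, 2, 1, 2, 2, 1, 2, 1, 3, 3, 0, 3, 1, 2, 1, 3, 1, 3, 1, 2, 1, 3, 0, 3, 0, 2, 0, 3, 0, 2, 0, 2, 1, 3, 1, 2, 2, 0, 2, 0, 2, 1, 2, 2, 1, 2, 1, 3, 3, 0, 3, 1, 2, 1, 3, 1, 3, 1, 2, 1, 3, 0, 3, 0, 2, 0, 3, 0, 2, 0, 2, 1, 3, 1, 2, 2, 0, 2, 0, 2, 1, 2, 2, 1, 2, 1, 3, 3, 0, 3, 1, 2, 1, 3, 1, 3, 1, 2, 1, 3, 0, 3, 0, 2, 0, 3, 0, 2, 0, 2, 1, 3, 3, 0, 3, 0, 2, 0, 2, 0, 3, 0, 2, 0, 2, 0, 3, 0, 2, 0, 2, 0, 3, 0, 2, 0, 3, 0, 3, 0, 2, 2], 1, false),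
      ([0, 3, 0, 2, 0, 2, 0, 2, 0, 2, 1, 2, 2, 1, 2, 1, 3, 3, 0, 3, 1, 2, 1, 3, 1, 3, 1, 2, 1, 3, 0, 3, 0, 2, 0, 3, 0, 2, 0, 2, 1, 3, 1, 2, 2, 0, 2, 0, 2, 1, 2, 2, 1, 2, 1, 3, 3, 0, 3, 1, 2, 1, 3, 1, 3, 1, 2, 1, 3, 0, 3, 0, 2, 0, 3, 0, 2, 0, 2, 1, 3, 1, 2, 2, 0, 2, 0, 2, 1, 2, 2, 1, 2, 1, 3, 3, 0, 3, 1, 2, 1, 3, 1, 3, 1, 2, 1, 3, 0, 3, 0, 2, 0, 3, 0, 2, 0, 2, 1, 3, 1, 3, 1, 2, 1, 2, 1, 3, 1, 2, 1, 2, 1, 3, 1, 2, 1, 3, 1, 3, 1, 2, 1, 3, 1, 3, 1, 2, 1, 3, 1, 3, 1], 6, true),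
      ([0, 3, 0, 2, 0, 2, 0, 2, 0, 2, 1, 2, 2, 1, 2, 1, 3, 3, 0, 3, 1, 2, 1, 3, 1, 3, 1, 2, 1, 3, 0, 3, 0, 2, 0, 3, 0, 2, 0, 2, 1, 3, 1, 2, 2, 0, 2, 0, 2, 1, 2, 2, 1, 2, 1, 3, 3, 0, 3, 1, 2, 1, 3, 1, 3, 1, 2, 1, 3, 0, 3, 0, 2, 0, 3, 0, 2, 0, 2, 1, 3, 1, 2, 2, 0, 2, 0, 2, 1, 2, 2, 1, 2, 1, 3, 3, 0, 3, 1, 2, 1, 3, 1, 3, 1, 2, 1, 3, 0, 3, 0, 2, 0, 3, 0, 2, 0, 2, 1, 3, 1, 2, 2, 0, 2, 0, 2, 1, 2, 2, 1, 2, 1, 3, 3, 0, 3, 1, 2, 1, 3, 1, 3, 1, 2, 1, 3, 0, 3, 0, 2, 0, 3, 0, 2, 0, 2, 1, 3, 3, 0, 3, 1, 2, 1, 2, 1, 3, 1, 2, 1, 2, 0, 3, 0, 2, 0, 2, 0, 3, 0, 2, 1, 2, 2, 0, 3, 0, 3, 3, 0, 3, 1, 3, 1, 2], 1, false),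
      ([0, 3, 0, 2, 0, 2, 0, 2, 0, 2, 1, 2, 2, 1, 2, 1, 3, 3, 0, 3, 1, 2, 1, 3, 1, 3, 1, 2, 1, 3, 0, 3, 0, 2, 0, 3, 0, 2, 0, 2, 1, 3, 1, 2, 2, 0, 2, 0, 2, 1, 2, 2, 1, 2, 1, 3, 3, 0, 3, 1, 2, 1, 3, 1, 3, 1, 2, 1, 3, 0, 3, 0, 2, 0, 3, 0, 2, 0, 2, 1, 3, 1, 2, 2, 0, 2, 0, 2, 1, 2, 2, 1, 2, 1, 3, 3, 0, 3, 1, 2, 1, 3, 1, 3, 1, 2, 1, 3, 0, 3, 0, 2, 0, 3, 0, 2, 0, 2, 1, 3, 1, 2, 2, 0, 2, 0, 2, 1, 2, 2, 1, 2, 1, 3, 3, 0, 3, 1, 2, 1, 3, 1, 3, 1, 2, 1, 3, 0, 3, 0, 2, 0, 3, 0, 2, 0, 2, 1, 3, 3, 0, 3, 1, 2, 1, 2, 1, 3, 1, 2, 1, 2, 0, 3, 0, 2, 0, 2, 0, 3, 0, 2, 1, 2, 2, 0, 3, 0, 3, 3, 0, 3, 0, 0], 0, false),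
      ([0, 3, 0, 2, 0, 2, 0, 2, 0, 2, 1, 2, 2, 1, 2, 1, 3, 3, 0, 3, 1, 2, 1, 3, 1, 3, 1, 2, 1, 3, 0, 3, 0, 2, 0, 3, 0, 2, 0, 2, 1, 3, 1, 2, 2, 0, 2, 0, 2, 1, 2, 2, 1, 2, 1, 3, 3, 0, 3, 1, 2, 1, 3, 1, 3, 1, 2, 1, 3, 0, 3, 0, 2, 0, 3, 0, 2, 0, 2, 1, 3, 1, 2, 2, 0, 2, 0, 2, 1, 2, 2, 1, 2, 1, 3, 3, 0, 3, 1, 2, 1, 3, 1, 3, 1, 2, 1, 3, 0, 3, 0, 2, 0, 3, 0, 2, 0, 2, 1, 3, 1, 2, 2, 0, 2, 0, 2, 1, 2, 2, 1, 2, 1, 3, 3, 0, 3, 1, 2, 1, 3, 1, 3, 1, 2, 1, 3, 0, 3, 0, 2, 0, 3, 0, 2, 0, 2, 1, 3, 3, 0, 3, 1, 2, 1, 2, 1, 3, 1, 2, 1, 2, 0, 3, 0, 2, 0, 2, 0, 3, 0, 2, 1], 1, true),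
      ([0, 3, 0, 2, 0, 2, 0, 2, 0, 2, 1, 2, 2, 1, 2, 1, 3, 3, 0, 3, 1, 2, 1, 3, 1, 3, 1, 2, 1, 3, 0, 3, 0, 2, 0, 3, 0, 2, 0, 2, 1, 3, 1, 2, 2, 0, 2, 0, 2, 1, 2, 2, 1, 2, 1, 3, 3, 0, 3, 1, 2, 1, 3, 1, 3, 1, 2, 1, 3, 0, 3, 0, 2, 0, 3, 0, 2, 0, 2, 1, 3, 1, 2, 2, 0, 2, 0, 2, 1, 2, 2, 1, 2, 1, 3, 3, 0, 3, 1, 2, 1, 3, 1, 3, 1, 2, 1, 3, 0, 3, 0, 2, 0, 3, 0, 2, 0, 2, 1, 3, 1, 2, 2, 0, 2, 0, 2, 1, 2, 2, 1, 2, 1, 3, 3, 0, 3, 1, 2, 1, 3, 1, 3, 1, 2, 1, 3, 0, 3, 0, 2, 0, 3, 0, 2, 0, 2, 1, 3, 3, 0, 3, 1, 2, 1, 2, 1, 3, 1, 2, 1, 2, 0, 3, 0, 2, 0, 2, 0, 3, 0, 2, 0, 0], 0, false),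
      ([0, 3, 0, 2, 0, 2, 0, 2, 0, 2, 1, 2, 2, 1, 2, 1, 3, 3, 0, 3, 1, 2, 1, 3, 1, 3, 1, 2, 1, 3, 0, 3, 0, 2, 0, 3, 0, 2, 0, 2, 1, 3, 1, 2, 2, 0, 2, 0, 2, 1, 2, 2, 1, 2, 1, 3, 3, 0, 3, 1, 2, 1, 3, 1, 3, 1, 2, 1, 3, 0, 3, 0, 2, 0, 3, 0, 2, 0, 2, 1, 3, 1, 2, 2, 0, 2, 0, 2, 1, 2, 2, 1, 2, 1, 3, 3, 0, 3, 1, 2, 1, 3, 1, 3, 1, 2, 1, 3, 0, 3, 0, 2, 0, 3, 0, 2, 0, 2, 1, 3, 1, 2, 2, 0, 2, 0, 2, 1, 2, 2, 1, 2, 1, 3, 3, 0, 3, 1, 2, 1, 3, 1, 3, 1, 2, 1, 3, 0, 3, 0, 2, 0, 3, 0, 2, 0, 2, 1, 3, 3, 0, 3, 1, 2, 1, 2, 1, 3, 1, 2, 1, 2, 0, 3, 0, 2, 0, 2, 0, 3, 0, 2, 0, 3, 0, 3, 0, 3, 3, 0, 3, 0, 3, 0], 0, false),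
      ([0, 3, 0, 2, 0, 2, 0, 2, 0, 2, 1, 2, 2, 1, 2, 1, 3, 3, 0, 3, 1, 2, 1, 3, 1, 3, 1, 2, 1, 3, 0, 3, 0, 2, 0, 3, 0, 2, 0, 2, 1, 3, 1, 2, 2, 0, 2, 0, 2, 1, 2, 2, 1, 2, 1, 3, 3, 0, 3, 1, 2, 1, 3, 1, 3, 1, 2, 1, 3, 0, 3, 0, 2, 0, 3, 0, 2, 0, 2, 1, 3, 1, 2, 2, 0, 2, 0, 2, 1, 2, 2, 1, 2, 1, 3, 3, 0, 3, 1, 2, 1, 3, 1, 3, 1, 2, 1, 3, 0, 3, 0, 2, 0, 3, 0, 2, 0, 2, 1, 3, 1, 2, 2, 0, 2, 0, 2, 1, 2, 2, 1, 2, 1, 3, 3, 0, 3, 1, 2, 1, 3, 1, 3, 1, 2, 1, 3, 0, 3, 0, 2, 0, 3, 0, 2, 0, 2, 1, 3, 3, 0, 3, 1, 2, 0], 0, false),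
      ([0, 3, 0, 2, 0, 2, 0, 2, 0, 2, 1, 2, 2, 1, 2, 1, 3, 3, 0, 3, 1, 2, 1, 3, 1, 3, 1, 2, 1, 3, 0, 3, 0, 2, 0, 3, 0, 2, 0, 2, 1, 3, 1, 2, 2, 0, 2, 0, 2, 1, 2, 2, 1, 2, 1, 3, 3, 0, 3, 1, 2, 1, 3, 1, 3, 1, 2, 1, 3, 0, 3, 0, 2, 0, 3, 0, 2, 0, 2, 1, 3, 1, 2, 2, 0, 2, 0, 2, 1, 2, 2, 1, 2, 1, 3, 3, 0, 3, 1, 2, 1, 3, 1, 3, 1, 2, 1, 3, 0, 3, 0, 2, 0, 3, 0, 2, 0, 2, 1, 3, 1, 2, 2, 0, 2, 0, 2, 1, 2, 2, 1, 2, 1, 3, 3, 0, 3, 1, 2, 1, 3, 1, 3, 1, 2, 1, 3, 0, 3, 0, 2, 0, 3, 0, 2, 0, 2, 1, 3, 3, 0, 3, 1, 2, 0, 2, 1, 3, 0, 0], 0, false),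
      ([0, 3, 0, 2, 0, 2, 0, 2, 0, 2, 1, 2, 2, 1, 2, 1, 3, 3, 0, 3, 1, 2, 1, 3, 1, 3, 1, 2, 1, 3, 0, 3, 0, 2, 0, 3, 0, 2, 0, 2, 1, 3, 1, 2, 2, 0, 2, 0, 2, 1, 2, 2, 1, 2, 1, 3, 3, 0, 3, 1, 2, 1, 3, 1, 3, 1, 2, 1, 3, 0, 3, 0, 2, 0, 3, 0, 2, 0, 2, 1, 3, 1, 2, 2, 0, 2, 0, 2, 1, 2, 2, 1, 2, 1, 3, 3, 0, 3, 1, 2, 1, 3, 1, 3, 1, 2, 1, 3, 0, 3, 0, 2, 0, 3, 0, 2, 0, 2, 1, 3, 1, 2, 2, 0, 2, 0, 2, 1, 2, 2, 1, 2, 1, 3, 3, 0, 3, 1, 2, 1, 3, 1, 3, 1, 2, 1, 3, 0, 3, 0, 2, 0, 3, 0, 2, 0, 2, 1, 3, 3, 0, 3, 1, 2, 0, 2, 0], 0, false),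
      ([0, 3, 0, 2, 0, 2, 0, 2, 0, 2, 1, 2, 2, 1, 2, 1, 3, 3, 0, 3, 1, 2, 1, 3, 1, 3, 1, 2, 1, 3, 0, 3, 0, 2, 0, 3, 0, 2, 0, 2, 1, 3, 1, 2, 2, 0, 2, 0, 2, 1, 2, 2, 1, 2, 1, 3, 3, 0, 3, 1, 2, 1, 3, 1, 3, 1, 2, 1, 3, 0, 3, 0, 2, 0, 3, 0, 2, 0, 2, 1, 3, 1, 2, 2, 0, 2, 0, 2, 1, 2, 2, 1, 2, 1, 3, 3, 0, 3, 1, 2, 1, 3, 1, 3, 1, 2, 1, 3, 0, 3, 0, 2, 0, 3, 0, 2, 0, 2, 1, 3, 1, 2, 2, 0, 2, 0, 2, 1, 2, 2, 1, 2, 1, 3, 3, 0, 3, 1, 2, 1, 3, 1, 3, 1, 2, 1, 3, 0, 3, 0, 2, 0, 3, 0, 2, 0, 2, 1, 3, 3, 0, 3, 0], 0, false),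
      ([0, 3, 0, 2, 0, 2, 0, 2, 0, 2, 1, 2, 2, 1, 2, 1, 3, 3, 0, 3, 1, 2, 1, 3, 1, 3, 1, 2, 1, 3, 0, 3, 0, 2, 0, 3, 0, 2, 0, 2, 1, 3, 1, 2, 2, 0, 2, 0, 2, 1, 2, 2, 1, 2, 1, 3, 3, 0, 3, 1, 2, 1, 3, 1, 3, 1, 2, 1, 3, 0, 3, 0, 2, 0, 3, 0, 2, 0, 2, 1, 3, 1, 2, 2, 0, 2, 0, 2, 1, 2, 2, 1, 2, 1, 3, 3, 0, 3, 1, 2, 1, 3, 1, 3, 1, 2, 1, 3, 0, 3, 0, 2, 0, 3, 0, 2, 0, 2, 1, 3, 1, 2, 2, 0, 2, 0, 2, 1, 2, 2, 1, 2, 1, 3, 3, 0, 3, 1, 2, 1, 3, 1, 3, 1, 2, 1, 3, 0, 3, 0, 2, 0, 3, 0, 2, 0, 2, 1, 3, 3, 0, 3, 0, 2, 0, 2, 0, 3, 0, 2, 0], 0, false),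
      ([0, 3, 0, 2, 0, 2, 0, 2, 0, 2, 1, 2, 2, 1, 2, 1, 3, 3, 0, 3, 1, 2, 1, 3, 1, 3, 1, 2, 1, 3, 0, 3, 0, 2, 0, 3, 0, 2, 0, 2, 1, 3, 1, 2, 2, 0, 2, 0, 2, 1, 2, 2, 1, 2, 1, 3, 3, 0, 3, 1, 2, 1, 3, 1, 3, 1, 2, 1, 3, 0, 3, 0, 2, 0, 3, 0, 2, 0, 2, 1, 3, 1, 2, 2, 0, 2, 0, 2, 1, 2, 2, 1, 2, 1, 3, 3, 0, 3, 1, 2, 1, 3, 1, 3, 1, 2, 1, 3, 0, 3, 0, 2, 0, 3, 0, 2, 0, 2, 1, 3, 1, 2, 2, 0, 2, 0, 2, 1, 2, 2, 1, 2, 1, 3, 3, 0, 3, 1, 2, 1, 3, 1, 3, 1, 2, 1, 3, 0, 3, 0, 2, 0, 3, 0, 2, 0, 2, 1, 3, 3, 0, 3, 0, 2, 0, 2, 0, 3, 0, 2, 0, 2, 0, 3, 0, 2, 0, 2, 0, 3, 0, 2, 0, 3, 0, 3, 0, 2, 2], 1, false),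
      ([0, 3, 0, 2, 0, 2, 0, 2, 0, 2, 1, 2, 2, 1, 2, 1, 3, 3, 0, 3, 1, 2, 1, 3, 1, 3, 1, 2, 1, 3, 0, 3, 0, 2, 0, 3, 0, 2, 0, 2, 1, 3, 1, 2, 2, 0, 2, 0, 2, 1, 2, 2, 1, 2, 1, 3, 3, 0, 3, 1, 2, 1, 3, 1, 3, 1, 2, 1, 3, 0, 3, 0, 2, 0, 3, 0, 2, 0, 2, 1, 3, 1, 2, 2, 0, 2, 0, 2, 1, 2, 2, 1, 2, 1, 3, 3, 0, 3, 1, 2, 1, 3, 1, 3, 1, 2, 1, 3, 0, 3, 0, 2, 0, 3, 0, 2, 0, 2, 1, 3, 1, 2, 2, 0, 2, 0, 2, 1, 2, 2, 1, 2, 1, 3, 3, 0, 3, 1, 2, 1, 3, 1, 3, 1, 2, 1, 3, 0, 3, 0, 2, 0, 3, 0, 2, 0, 2, 1, 3, 1, 3, 1, 2, 1, 2, 1, 3, 1, 2, 1, 2, 1, 3, 1, 2, 1, 3, 1, 3, 1, 2, 1, 3, 1, 3, 1, 2, 1, 3, 1, 3, 1], 6, true)]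

/-- The conjugates of relators behind relator 27. -/
def fivePrf27 : List (List ℕ × ℕ × Bool) :=
  [([0, 2, 0, 2, 1, 3, 1, 3, 0, 2, 0, 3, 1, 3, 1, 2, 0, 2, 0, 3, 1, 3, 1, 3, 0, 2, 0, 3, 1, 3, 1, 2, 0, 2, 0, 2, 1, 3, 1, 3, 0, 2, 0, 3, 1, 3, 1, 2, 0, 2, 0, 3, 1, 2, 2, 2], 1, false),
      ([0, 2, 0, 2, 1, 3, 1, 3, 0, 2, 0, 3, 1, 3, 1, 2, 0, 2, 0, 3, 1, 3, 1, 3, 0, 2, 0, 3, 1, 3, 1, 2, 0, 2], 1, true),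
      ([0, 2, 0, 2, 1, 3, 1, 3, 0, 2, 0, 3, 1, 3, 1, 2, 0, 2, 0, 3, 1, 3, 1, 3, 0, 2, 0, 3, 1, 3, 1, 2, 0, 3, 0, 2, 0, 3, 0, 2, 0, 3, 1, 3, 0, 2, 1, 3], 0, true),
      ([0, 2, 0, 2, 1, 3, 1, 3, 0, 2, 0, 3, 1, 3, 1, 2, 0, 2, 0, 3, 1, 3, 1, 3, 0, 2, 0, 3, 1, 3, 1, 2, 0, 3, 0, 2, 0, 3, 0, 2, 0, 3, 1, 3, 0, 2, 1, 3, 1, 3, 0, 2, 1, 3, 1, 3, 0, 2, 0, 2, 1, 3, 1, 2, 0, 2, 0, 3, 1, 2, 0, 2, 0, 3, 0, 2, 0, 3, 1, 3, 0, 2, 1], 0, true),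
      ([0, 2, 0, 2, 1, 3, 1, 3, 0, 2, 0, 3, 1, 3, 1, 2, 0, 2, 0, 3, 1, 3, 1, 3, 0, 2, 0, 3, 1, 3, 1, 2, 0, 3, 0, 2, 0, 3, 0, 2, 0, 3, 1, 3, 0, 2, 1, 3, 1, 3, 0, 2, 1, 3, 1, 3, 0, 2, 0, 2, 1, 3, 1, 2, 0, 2, 0, 3, 1, 2, 0, 2, 0, 3, 0, 2, 0, 3, 1, 3, 0, 2, 1, 1, 3, 1, 2, 0, 2, 1, 3, 1, 2, 1, 3, 1, 3, 0, 2, 1, 3, 1, 3, 0, 2, 0, 3, 1, 3, 1, 2, 0, 2, 0], 0, true),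
      ([0, 2, 0, 2, 1, 3, 1, 3, 0, 2, 0, 3, 1, 3, 1, 2, 0, 2, 0, 3, 1, 3, 1, 3, 0, 2, 0, 3, 1, 3, 1, 2, 0, 3, 0, 2, 0, 3, 0, 2, 0, 3, 1, 3, 0, 2, 1, 3, 1, 3, 0, 2, 1, 3, 1, 3, 0, 2, 0, 2, 1, 3, 1, 2, 0, 2, 0, 3, 1, 2, 0, 2, 0, 3, 0, 2, 0, 3, 1, 3, 0, 2, 1, 1, 3, 1, 2, 0, 2, 1, 3, 1, 2, 1, 3, 1, 3, 0, 2, 1, 3, 1, 3, 0, 2, 0], 0, true),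
      ([0, 2, 0, 2, 1, 3, 1, 3, 0, 2, 0, 3, 1, 3, 1, 2, 0, 2, 0, 3, 1, 3, 1, 3, 0, 2, 0, 3, 1, 3, 1, 2, 0, 3, 0, 2, 0, 3, 0, 2, 0, 3, 1, 3, 0, 2, 1, 3, 1, 3, 0, 2, 1, 3, 1, 3, 0, 2, 0, 2, 1, 3, 1, 2, 0, 2, 0, 3, 1, 2, 0, 2, 0, 3, 0, 2, 0, 3, 1, 3, 0, 2, 1, 1, 3, 1, 2, 0, 2, 1, 3, 1, 2, 1, 3, 1, 3, 0], 0, true),
      ([0, 2, 0, 2, 1, 3, 1, 3, 0, 2, 0, 3, 1, 3, 1, 2, 0, 2, 0, 3, 1, 3, 1, 3, 0, 2, 0, 3, 1, 3, 1, 2, 0, 3, 0, 2, 0, 3, 0, 2, 0, 3, 1, 3, 0, 2, 1, 3, 1, 3, 0, 2, 1, 3, 1, 3, 0, 2, 0, 2, 1, 3, 1, 2, 0, 2, 0, 3, 1, 2, 0, 2, 0, 3, 0, 2, 0, 3, 1, 3, 0, 2, 1, 1, 3, 1, 2, 0, 2, 1, 3, 1, 2, 1, 3, 1, 3, 1, 2, 1, 3, 1, 3, 0, 2,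 1, 3, 1, 3, 1, 2], 0, true),
      ([0, 2, 0, 2, 1, 3, 1, 3, 0, 2, 0, 3, 1, 3, 1, 2, 0, 2, 0, 3, 1, 3, 1, 3, 0, 2, 0, 3, 1, 3, 1, 2, 0, 3, 0, 2, 0, 3, 0, 2, 0, 3, 1, 3, 0, 2, 1, 3, 1, 3, 0, 2, 1, 3, 1, 3, 0, 2, 0, 2, 1, 3, 1, 2, 0, 2, 0, 3, 1, 2, 0, 2, 0, 3, 0, 2, 0, 3, 1, 3, 0, 2, 1, 1, 3, 1, 2, 0, 2, 1, 3, 1, 2, 1, 3, 1, 3, 1, 2, 1, 3, 1, 3], 0, true),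
      ([0, 2, 0, 2, 1, 3, 1, 3, 0, 2, 0, 3, 1, 3, 1, 2, 0, 2, 0, 3, 1, 3, 1, 3, 0, 2, 0, 3, 1, 3, 1, 2, 0, 3, 0, 2, 0, 3, 0, 2, 0, 3, 1, 3, 0, 2, 1, 3, 1, 3, 0, 2, 1, 3, 1, 3, 0, 2, 0, 2, 1, 3, 1, 2, 0, 2, 0, 3, 1, 2, 0, 2, 0, 3, 0, 2, 0, 3, 1, 3, 0, 2, 1, 1, 3, 1, 2], 0, true),
      ([0, 2, 0, 2, 1, 3, 1, 3, 0, 2, 0, 3, 1, 3, 1, 2, 0, 2, 0, 3, 1, 3, 1, 3, 0, 2, 0, 3, 1, 3, 1, 2, 0, 3, 0, 2, 0, 3, 0, 2, 0, 3, 1, 3, 0, 2, 1, 3, 1, 3, 0, 2, 1, 3, 1, 3, 0, 2, 0, 2, 1, 3, 1, 2, 0, 2, 0, 3, 1, 2, 0, 2, 0, 3, 0, 2, 0, 3, 1, 3, 0, 2, 1, 3, 0, 3, 0, 2, 0, 3, 0, 3], 6, false),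
      ([0, 2, 0, 2, 1, 3, 1, 3, 0, 2, 0, 3, 1, 3, 1, 2, 0, 2, 0, 3, 1, 3, 1, 3, 0, 2, 0, 3, 1, 3, 1, 2, 0, 3, 0, 2, 0, 3, 0, 2, 0, 3, 1, 3, 0], 0, true),
      ([0, 2, 0, 2, 1, 3, 1, 3, 0, 2, 0, 3, 1, 3, 1, 2, 0, 2, 0, 3, 1, 2, 2, 2], 1, false),
      ([0, 2], 1, true),
      ([0, 3, 0, 2, 0, 3, 0, 2, 0, 3, 1, 3, 0, 2, 1, 3], 0, true),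
      ([0, 3, 0, 2, 0, 3, 0, 2, 0, 3, 1, 3, 0, 2, 1, 3, 1, 3, 0, 2, 1, 3, 1, 3, 0, 2, 0, 2, 1, 3, 1, 2, 0, 2, 0, 3, 1, 2, 0, 2, 0, 3, 0, 2, 0, 3, 1, 3, 0, 2, 1], 0, true),
      ([0, 3, 0, 2, 0, 3, 0, 2, 0, 3, 1, 3, 0, 2, 1, 3, 1, 3, 0, 2, 1, 3, 1, 3, 0, 2, 0, 2, 1, 3, 1, 2, 0, 2, 0, 3, 1, 2, 0, 2, 0, 3, 0, 2, 0, 3, 1, 3, 0, 2, 1, 1, 3, 1, 2, 0, 2, 1, 3, 1, 2, 1, 3, 1, 3, 0, 2, 1, 3, 1, 3, 0, 2, 0, 3, 1, 3, 1, 2, 0, 2, 0], 0, true),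
      ([0, 3, 0, 2, 0, 3, 0, 2, 0, 3, 1, 3, 0, 2, 1, 3, 1, 3, 0, 2, 1, 3, 1, 3, 0, 2, 0, 2, 1, 3, 1, 2, 0, 2, 0, 3, 1, 2, 0, 2, 0, 3, 0, 2, 0, 3, 1, 3, 0, 2, 1, 1, 3, 1, 2, 0, 2, 1, 3, 1, 2, 1, 3, 1, 3, 0, 2, 1, 3, 1, 3, 0, 2, 0], 0, true),
      ([0, 3, 0, 2, 0, 3, 0, 2, 0, 3, 1, 3, 0, 2, 1, 3, 1, 3, 0, 2, 1, 3, 1, 3, 0, 2, 0, 2, 1, 3, 1, 2, 0, 2, 0, 3, 1, 2, 0, 2, 0, 3, 0, 2, 0, 3, 1, 3, 0, 2, 1, 1, 3, 1, 2, 0, 2, 1, 3, 1, 2, 1, 3, 1, 3, 0], 0, true),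
      ([0, 3, 0, 2, 0, 3, 0, 2, 0, 3, 1, 3, 0, 2, 1, 3, 1, 3, 0, 2, 1, 3, 1, 3, 0, 2, 0, 2, 1, 3, 1, 2, 0, 2, 0, 3, 1, 2, 0, 2, 0, 3, 0, 2, 0, 3, 1, 3, 0, 2, 1, 1, 3, 1, 2, 0, 2, 1, 3, 1, 2, 1, 3, 1, 3, 1, 2, 1, 3, 1, 3, 0, 2, 1, 3, 1, 3, 1, 2], 0, true),
      ([0, 3, 0, 2, 0, 3, 0, 2, 0, 3, 1, 3, 0, 2, 1, 3, 1, 3, 0, 2, 1, 3, 1, 3, 0, 2, 0, 2, 1, 3, 1, 2, 0, 2, 0, 3, 1, 2, 0, 2, 0, 3, 0, 2, 0, 3, 1, 3, 0, 2, 1, 1, 3, 1, 2, 0, 2, 1, 3, 1, 2, 1, 3, 1, 3, 1, 2, 1, 3, 1, 3], 0, true),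
      ([0, 3, 0, 2, 0, 3, 0, 2, 0, 3, 1, 3, 0, 2, 1, 3, 1, 3, 0, 2, 1, 3, 1, 3, 0, 2, 0, 2, 1, 3, 1, 2, 0, 2, 0, 3, 1, 2, 0, 2, 0, 3, 0, 2, 0, 3, 1, 3, 0, 2, 1, 1, 3, 1, 2], 0, true),
      ([0, 3, 0, 2, 0, 3, 0, 2, 0, 3, 1, 3, 0, 2, 1, 3, 1, 3, 0, 2, 1, 3, 1, 3, 0, 2, 0, 2, 1, 3, 1, 2, 0, 2, 0, 3, 1, 2, 0, 2, 0, 3, 0, 2, 0, 3, 1, 3, 0, 2, 1, 3, 0, 3, 0, 2, 0, 3, 0, 3], 6, false),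
      ([0, 3, 0, 2, 0, 3, 0, 2, 0, 3, 1, 3, 0], 0, true),
      ([0, 3, 0, 2, 0, 3, 0, 2, 0, 3, 1, 3, 1, 2, 1, 3, 1, 2, 1, 3, 0, 2, 0, 3, 1, 3, 1, 2, 0, 3, 0, 2, 0, 3, 0, 2, 0, 3, 1, 3, 1, 2, 1, 3, 1, 2, 1, 3, 0, 2, 0, 3, 1, 3, 1, 2, 0, 3, 0, 2, 0, 3], 0, true),
      ([0, 3, 0, 2, 0, 3, 0, 2, 0, 3, 1, 3, 1, 2, 1, 3, 1, 2, 1, 3, 0, 2, 0, 3, 1, 3, 1, 2, 0, 3, 0, 2, 0, 3], 0, true),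
      ([0, 3, 0, 2, 0, 3, 0, 2, 0, 3, 1, 3, 1, 2, 1, 3, 1, 2, 1, 3, 0, 2, 0, 3, 1, 3, 1, 2, 0, 3, 0], 0, true),
      ([0, 3, 0, 2, 0, 3, 0, 0, 2, 1, 3], 0, true),
      ([0, 3, 0, 2, 0, 3, 0, 0, 2, 1, 3, 1, 1, 2], 0, true),
      ([0, 3, 0, 2, 0, 3, 0, 0, 2, 1, 3, 1, 2, 1, 3, 0, 2, 0, 2, 1, 3, 1, 2, 0, 3, 0, 2, 0, 3, 0, 2, 0, 2, 1, 3, 0, 2, 1], 0, true),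
      ([0, 3, 0, 2, 0, 3, 0, 0, 2, 1, 3, 1, 2, 1, 3, 0, 2, 0, 2, 1, 3, 1, 2, 0, 3, 0, 2, 0, 3, 0, 2, 0, 2, 1, 3, 0, 2, 1, 1, 3, 1, 2, 0, 3, 1, 3, 1, 2, 1, 3, 1, 2, 1, 3, 0, 2, 0, 3, 1, 3, 1, 2, 0, 3, 1, 2, 1, 3, 1, 2, 0, 3, 1, 3, 1, 2, 1, 3, 1, 2, 1, 3, 0, 2, 0], 0, true),
      ([0, 3, 0, 2, 0, 3, 0, 0, 2, 1, 3, 1, 2, 1, 3, 0, 2, 0, 2, 1, 3, 1, 2, 0, 3, 0, 2, 0, 3, 0, 2, 0, 2, 1, 3, 0, 2, 1, 1, 3, 1, 2, 0, 3, 1, 3, 1, 2, 1, 3, 1, 2, 1, 3, 0, 2, 0], 0, true),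
      ([0, 3, 0, 2, 0, 3, 0, 0, 2, 1, 3, 1, 2, 1, 3, 0, 2, 0, 2, 1, 3, 1, 2, 0, 3, 0, 2, 0, 3, 0, 2, 0, 2, 1, 3, 0, 2, 1, 1, 3, 1, 2, 0, 3, 1, 3, 1, 2, 1, 3, 1, 2, 1, 3, 0, 2, 1, 3, 1, 3, 1, 2, 0, 3, 1, 2, 1, 3, 1, 2, 0, 3, 1, 3, 1, 2, 1, 3, 1, 2, 1, 3, 0, 2, 1, 3, 1, 3, 1, 2], 0, true),
      ([0, 3, 0, 2, 0, 3, 0, 0, 2, 1, 3, 1, 2, 1, 3, 0, 2, 0, 2, 1, 3, 1, 2, 0, 3, 0, 2, 0, 3, 0, 2, 0, 2, 1, 3, 0, 2, 1, 1, 3, 1, 2, 0, 3, 1, 3, 1, 2, 1, 3, 1, 2, 1, 3, 0, 2, 1, 3, 1, 3, 1, 2, 0, 3, 1, 2, 1, 3, 1, 2, 0, 3, 1, 3, 1, 2, 1, 3, 1, 2, 1, 3], 0, true),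
      ([0, 3, 0, 2, 0, 3, 0, 0, 2, 1, 3, 1, 2, 1, 3, 0, 2, 0, 2, 1, 3, 1, 2, 0, 3, 0, 2, 0, 3, 0, 2, 0, 2, 1, 3, 0, 2, 1, 1, 3, 1, 2, 0, 3, 1, 3, 1, 2, 1, 3, 1, 2, 1, 3, 0, 2, 1, 3, 1, 3, 1, 2], 0, true),
      ([0, 3, 0, 2, 0, 3, 0, 0, 2, 1, 3, 1, 2, 1, 3, 0, 2, 0, 2, 1, 3, 1, 2, 0, 3, 0, 2, 0, 3, 0, 2, 0, 2, 1, 3, 0, 2, 1, 1, 3, 1, 2, 0, 3, 1, 3, 1, 2, 1, 3, 1, 2, 1, 3], 0, true),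
      ([0, 3, 0, 2, 0, 3, 0, 0, 2, 1, 3, 1, 2, 1, 3, 0, 2, 0, 2, 1, 3, 1, 2, 0, 3, 0, 2, 0, 3, 0, 2, 0, 2, 1, 3, 0, 2, 1, 1, 3, 1, 2, 0, 3, 1, 3, 1, 2, 1, 3, 1, 2, 1, 3, 1, 2, 1, 3, 1, 3, 1, 2, 1, 3, 1, 2, 1, 3, 1, 2], 0, true),
      ([0, 3, 0, 2, 0, 3, 0, 0, 2, 1, 3, 1, 2, 1, 3, 0, 2, 0, 2, 1, 3, 1, 2, 0, 3, 0, 2, 0, 3, 0, 2, 0, 2, 1, 3, 0, 2, 1, 1, 3, 1, 2], 0, true),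
      ([0, 3, 0, 2, 0, 3, 0, 0, 2, 1, 3, 1, 2, 1, 3, 0, 2, 0, 2, 1, 3, 1, 2, 0, 3, 0, 2, 0, 3, 0, 2, 0, 2, 1, 3, 0, 2, 1, 3, 0, 2, 0, 3, 0, 2, 0, 2, 0, 3, 0, 2, 0, 3, 0, 2, 0, 3], 5, false)]

/-- The proofs of the relators in the five elements. -/
def fivePrfs : List (List (List ℕ × ℕ × Bool)) :=
  [fivePrf0, fivePrf1, fivePrf2, fivePrf3, fivePrf4, fivePrf5, fivePrf6, fivePrf7, fivePrf8, fivePrf9, fivePrf10, fivePrf11, fivePrf12, fivePrf13, fivePrf14, fivePrf15, fivePrf16, fivePrf17, fivePrf18, fivePrf19, fivePrf20, fivePrf21, fivePrf22, fivePrf23, fivePrf24, fivePrf25, fivePrf26, fivePrf27]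

/-- The representatives of the 24 cosets. -/
def cosetReps : List (List ℕ) :=
  [[],
    [0],
    [0, 2],
    [0, 3],
    [0, 2, 0],
    [0, 3, 0],
    [0, 3, 0, 3],
    [0, 3, 0, 2],
    [0, 3, 0, 3, 0],
    [0, 3, 0, 2, 0],
    [0, 3, 0, 2, 0, 3],
    [0, 3, 0, 2, 0, 2],
    [0, 3, 0, 2, 0, 3, 0],
    [0, 3, 0, 2, 0, 2, 0],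
    [0, 3, 0, 2, 0, 3, 0, 2],
    [0, 3, 0, 2, 0, 3, 0, 3],
    [0, 3, 0, 2, 0, 2, 0, 3],
    [0, 3, 0, 2, 0, 2, 0, 2],
    [0, 3, 0, 2, 0, 2, 0, 2, 0],
    [0, 3, 0, 2, 0, 2, 0, 3, 0],
    [0, 3, 0, 2, 0, 3, 0, 2, 0],
    [0, 3, 0, 2, 0, 3, 0, 3, 0],
    [0, 3, 0, 2, 0, 2, 0, 2, 0, 3],
    [0, 3, 0, 2, 0, 2, 0, 2, 0, 2]]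

/-- The edges of x: the coset, the word in the five elements and the proof. -/
def edgesX : List (ℕ × List ℕ × List (List ℕ × ℕ × Bool)) :=
  [(1, [], []),
    (0, [], [([0, 0], 0, true)]),
    (4, [], []),
    (5, [], []),
    (2, [], [([0, 2, 0, 0, 0], 0, true)]),
    (3, [], [([0, 3, 0, 0, 0], 0, true)]),
    (8, [], []),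
    (9, [], []),
    (6, [], [([0, 3, 0, 3, 0, 0], 0, true)]),
    (7, [], [([0, 3, 0, 2, 0, 0], 0, true)]),
    (12, [], []),
    (13, [], []),
    (10, [], [([0, 3, 0, 2, 0, 3, 0, 0], 0, true)]),
    (11, [], [([0, 3, 0, 2, 0, 2, 0, 0], 0, true)]),
    (20, [], []),
    (21, [], []),
    (19, [], []),
    (18, [], []),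
    (17, [], [([0, 3, 0, 2, 0, 2, 0, 2, 0, 0, 0], 0, true)]),
    (16, [], [([0, 3, 0, 2, 0, 2, 0, 3, 0, 0, 0], 0, true)]),
    (14, [], [([0, 3, 0, 2, 0, 3, 0, 2, 0, 0], 0, true)]),
    (15, [], [([0, 3, 0, 2, 0, 3, 0, 3, 0, 0], 0, true)]),
    (23, [0], []),
    (22, [1], [([0, 3, 0, 2, 0, 2, 0, 2, 0, 2, 0], 0, true)])]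

/-- The edges of y: the coset, the word in the five elements and the proof. -/
def edgesY : List (ℕ × List ℕ × List (List ℕ × ℕ × Bool)) :=
  [(0, [2], []),
    (2, [], []),
    (3, [], [([0, 2, 2, 2, 2], 1, true)]),
    (1, [], []),
    (4, [6], []),
    (7, [], []),
    (5, [], []),
    (6, [], [([0, 3, 0, 2, 2], 1, true)]),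
    (8, [5, 2, 4], [([0, 3, 0, 3, 0, 2, 1, 2, 2, 0, 2, 0, 3, 1, 3, 1, 2, 1, 3, 1, 3, 1, 2, 1, 3, 0, 3, 0, 2, 0, 2], 0, true),
      ([0, 3, 0, 3, 0, 2, 1, 2, 2, 0, 2], 0, true),
      ([0, 3, 0, 3, 0, 2, 1, 2, 2, 0, 2, 1, 3, 1, 3, 1, 2, 1, 3, 1, 3, 1, 2, 1, 3, 0, 3, 0, 2, 0, 2, 1, 3, 1, 2, 1, 2, 1, 3, 1, 3, 3], 0, true),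
      ([0, 3, 0, 3, 0, 2, 1, 2, 2, 0, 2, 1, 3, 1, 3, 1, 2, 1, 3, 1, 3, 1, 2, 1, 3, 0, 3, 0, 2, 0, 2, 1, 3, 1, 2, 1, 2, 1, 3, 1, 3, 3, 1, 2, 1], 1, true),
      ([0, 3, 0, 3, 0, 2, 1, 2, 2, 0, 2, 1, 3, 1, 3, 1, 2, 1, 3, 1, 3, 1, 2, 1, 3, 0, 3, 0, 2, 0, 2, 1, 3, 1, 2, 1, 2, 1, 3, 1, 2], 1, false),
      ([0, 3, 0, 3, 0, 2, 1, 2, 2, 0, 2, 1, 3, 1, 3, 1, 2, 1, 3, 1, 3, 1, 2, 1, 3, 0, 3, 0], 0, true),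
      ([0, 3, 0, 3, 0, 2, 1, 2, 2, 0, 2, 1, 3, 1, 3, 1, 2, 1, 3, 1, 3, 1, 2, 1, 3, 0, 3, 1, 2], 0, true),
      ([0, 3, 0, 3, 0, 2, 1, 2, 2], 0, true),
      ([0, 3, 0, 3, 0, 2, 1, 2, 2, 1, 2, 1, 3, 1, 3, 1, 2, 1, 3, 1, 3, 1, 2, 1, 3], 0, true),
      ([0, 3, 0, 3, 0, 2, 1, 2, 2, 2, 0, 3, 0, 3, 0, 2, 0, 3, 0, 3, 0, 2, 0, 3, 0, 3], 6, false),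
      ([0, 3, 0, 2, 0, 2, 0, 3, 0, 3, 0, 0], 0, true),
      ([0, 3, 0, 2, 0, 2, 0, 3, 0, 3, 1, 2, 1, 3, 1, 3, 1, 2, 1, 2, 0, 3, 0, 2, 0, 2, 0, 3, 0, 2, 0, 0], 0, true)]),
    (11, [], []),
    (9, [], []),
    (10, [], [([0, 3, 0, 2, 0, 2, 2], 1, true)]),
    (14, [], []),
    (17, [], []),
    (15, [], [([0, 3, 0, 2, 0, 3, 0, 2, 2, 2, 2], 1, true)]),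
    (12, [], []),
    (13, [], []),
    (16, [], [([0, 3, 0, 2, 0, 2, 0, 2, 2], 1, true)]),
    (23, [], []),
    (19, [4], []),
    (20, [8], []),
    (21, [2, 4, 0, 0], [([0, 3, 0, 2, 0, 3, 0, 3, 0, 2, 1, 2, 1, 3, 1, 2, 1, 2, 1, 3, 1, 2, 1, 2, 1, 3, 1, 2, 1, 3, 1, 3, 1, 2, 1, 3, 1, 3, 1, 2, 1, 3, 1, 3, 1], 6, false),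
      ([0, 3, 0, 2, 0, 3, 0, 3, 0, 0, 2, 0, 2, 0, 3, 0, 2, 0, 2, 0, 3, 0, 2, 0, 2, 0, 3, 0, 2, 0, 3, 0, 3, 0, 2, 2], 1, true),
      ([0, 3, 0, 2, 0, 3, 0, 3, 0, 0, 2, 0, 2, 0, 3, 0, 2, 0], 0, true),
      ([0, 3, 0, 2, 0, 3, 0, 3, 0, 0], 0, true),
      ([0, 3, 0, 2, 0, 3, 0, 0, 2, 0], 0, true),
      ([0, 3, 0, 2, 0, 3, 0, 0, 2, 1, 3, 0, 0], 0, true),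
      ([0, 3, 0, 2, 0, 3, 0, 0], 0, true),
      ([2, 0, 3, 0, 2, 0, 2, 0, 3, 0, 2, 0, 3, 0, 3, 0, 3, 3, 0, 3, 0, 3, 0], 0, true),
      ([2, 0, 3, 0, 2, 0, 2, 0, 3, 0, 2, 0, 0], 0, true),
      ([2, 0, 3, 0, 2, 0, 2, 0, 3, 0, 2, 1], 1, false),
      ([2, 0, 3, 0, 2, 0, 2, 0, 3, 0, 2, 1, 2, 2, 0, 3, 0, 3, 3, 0, 3, 0, 0], 0, true),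
      ([2, 0, 3, 0, 2, 0, 2, 0, 3, 0, 2, 1, 2, 2, 0, 3, 0, 3, 3, 0, 3, 1, 3, 1, 2], 1, true)]),
    (18, [], []),
    (22, [], [([0, 3, 0, 2, 0, 2, 0, 2, 0, 2, 2, 2], 1, true)])]

end CfsgLib.J4P
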