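import Cfsg.Agent.Lib.HNxyz.PairedOrbit
import Cfsg.Agent.Lib.HNxyz.Letters

/-!
# Words in listed elements, free reduction, and products of conjugates of relators
-/

set_option autoImplicit false

namespace CfsgLib.J4P

open CfsgLib.HNxyz CfsgLib.PresCert

variable {M N : Type*} [Group M] [Group N]

/-- The element of a letter: the letters 2i and 2i+1 are the i-th element and its inverse. -/
def eltL (l : List M) (g : ℕ) : M := if g % 2 = 0 then l.getD (g / 2) 1 else (l.getD (g / 2) 1)⁻¹

/-- The acting element of a letter. -/
def genL (l : List M) (g : ℕ) : M := (eltL l g)⁻¹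

theorem eltL_partner (l : List M) (g : ℕ) : eltL l (partner g) = (eltL l g)⁻¹ := by
  by_cases h : g % 2 = 0
  · simp only [eltL, partner, h, if_true, show (g + 1) % 2 ≠ 0 by omega, if_false,
      show (g + 1) / 2 = g / 2 by omega]
  · simp only [eltL, partner, h, if_false, show (g - 1) % 2 = 0 by omega, if_true,
      show (g - 1) / 2 = g / 2 by omega, inv_inv]

theorem genL_partner (l : List M) (g : ℕ) : genL l g * genL l (partner g) = 1 := by
  simp [genL, eltL_partner]

theorem act_genL (l : List M) : ∀ w : List ℕ, act (genL l) w = (evalW (eltL l) w)⁻¹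
  | [] => by simp [act_nil, evalW_nil]
  | g :: w => by rw [act_cons, act_genL l w, evalW_cons, mul_inv_rev, genL]

theorem evalW_append (e : ℕ → M) (u v : List ℕ) : evalW e (u ++ v) = evalW e u * evalW e v := by
  simp [evalW]

theorem evalW_invW (l : List M) : ∀ w : List ℕ, evalW (eltL l) (invW w) = (evalW (eltL l) w)⁻¹
  | [] => by simp [invW, evalW_nil]
  | g :: w => by
    rw [invW, List.map_cons, List.reverse_cons, evalW_append, ← invW, evalW_invW l w, evalW_cons,
      evalW_nil, mul_one, eltL_partner, evalW_cons, mul_inv_rev]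

theorem eltL_map (f : M →* N) (l : List M) (g : ℕ) : f (eltL l g) = eltL (l.map f) g := by
  have h : f (l.getD (g / 2) 1) = (l.map f).getD (g / 2) 1 := by
    rcases Nat.lt_or_ge (g / 2) l.length with hl | hl
    · rw [List.getD_eq_getElem _ _ hl, List.getD_eq_getElem _ _ (by simpa using hl), List.getElem_map]
    · rw [List.getD_eq_default _ _ hl, List.getD_eq_default _ _ (by simpa using hl), map_one]
  unfold eltL
  split_ifs
  · exact h
  · rw [map_inv, h]

theorem map_evalW (f : M →* N) (l : List M) (w : List ℕ) :
    f (evalW (eltL l) w) = evalW (eltL (l.map f)) w := by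
  induction w with
  | nil => simp [evalW_nil]
  | cons g w ih => rw [evalW_cons, evalW_cons, map_mul, ih, eltL_map]

/-- One step of the reduction. -/
def redStep : List ℕ → ℕ → List ℕ
  | [], g => [g]
  | h :: t, g => if Nat.beq (partner h) g then t else g :: h :: t

/-- The freely reduced word, reversed. -/
def redS (w : List ℕ) : List ℕ := w.foldl redStep []

theorem evalW_redS_aux (l : List M) : ∀ (w st : List ℕ),
    evalW (eltL l) (w.foldl redStep st).reverse = evalW (eltL l) st.reverse * evalW (eltL l) w
  | [], st => by simp [evalW_nil]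
  | g :: w, st => by
    rw [List.foldl_cons, evalW_redS_aux l w, evalW_cons, ← mul_assoc]
    congr 1
    cases st with
    | nil => simp [redStep, evalW_nil, evalW_cons]
    | cons h t =>
      simp only [redStep]
      by_cases hb : Nat.beq (partner h) g = true
      · rw [if_pos hb, List.reverse_cons, evalW_append, evalW_cons, evalW_nil, mul_one, mul_assoc,
          ← Nat.eq_of_beq_eq_true hb, eltL_partner, mul_inv_cancel, mul_one]
      · rw [if_neg hb, List.reverse_cons, evalW_append, evalW_cons, evalW_nil, mul_one]

theorem evalW_redS (l : List M) (w : List ℕ) :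
    evalW (eltL l) (redS w).reverse = evalW (eltL l) w := by
  rw [redS, evalW_redS_aux]
  simp [evalW_nil]

theorem evalW_eq_of_redS (l : List M) {u v : List ℕ} (h : (redS u == redS v) = true) :
    evalW (eltL l) u = evalW (eltL l) v := by
  rw [← evalW_redS l u, ← evalW_redS l v, eq_of_beq h]

/-- A word in listed words, written out. -/
def flatW (W : List (List ℕ)) (w : List ℕ) : List ℕ :=
  w.flatMap fun g => if g % 2 = 0 then W.getD (g / 2) [] else invW (W.getD (g / 2) [])

theorem evalW_flatW (l : List M) (W : List (List ℕ)) : ∀ w : List ℕ,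
    evalW (eltL l) (flatW W w) = evalW (eltL (W.map (evalW (eltL l)))) w
  | [] => by simp [flatW, evalW_nil]
  | g :: w => by
    rw [flatW, List.flatMap_cons, evalW_append, ← flatW, evalW_flatW l W w, evalW_cons]
    congr 1
    have h : evalW (eltL l) (W.getD (g / 2) []) = (W.map (evalW (eltL l))).getD (g / 2) 1 := by
      rcases Nat.lt_or_ge (g / 2) W.length with hl | hl
      · rw [List.getD_eq_getElem _ _ hl, List.getD_eq_getElem _ _ (by simpa using hl), List.getElem_map]
      · rw [List.getD_eq_default _ _ hl, List.getD_eq_default _ _ (by simpa using hl), evalW_nil]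
    unfold eltL
    split_ifs with hg
    · exact h
    · exact (evalW_invW l _).trans (congrArg (·⁻¹) h)

/-- A product of conjugates of relators. -/
def prodW (R : List (List ℕ)) (P : List (List ℕ × ℕ × Bool)) : List ℕ :=
  P.flatMap fun p => p.1 ++ (if p.2.2 then R.getD p.2.1 [] else invW (R.getD p.2.1 [])) ++ invW p.1

theorem evalW_prodW (l : List M) {R : List (List ℕ)} (hR : ∀ r ∈ R, evalW (eltL l) r = 1) :
    ∀ P : List (List ℕ × ℕ × Bool), evalW (eltL l) (prodW R P) = 1
  | [] => by simp [prodW, evalW_nil]
  | p :: P => by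
    have hr : evalW (eltL l) (R.getD p.2.1 []) = 1 := by
      rcases Nat.lt_or_ge p.2.1 R.length with hl | hl
      · rw [List.getD_eq_getElem _ _ hl]; exact hR _ (List.getElem_mem hl)
      · rw [List.getD_eq_default _ _ hl, evalW_nil]
    rw [prodW, List.flatMap_cons, evalW_append, ← prodW, evalW_prodW l hR P, evalW_append,
      evalW_append, evalW_invW, mul_one]
    split_ifs
    · rw [hr, mul_one, mul_inv_cancel]
    · rw [evalW_invW, hr, inv_one, mul_one, mul_inv_cancel]

theorem evalW_mem (l : List M) {S : Subgroup M} {w : List ℕ} (h : ∀ g ∈ w, eltL l g ∈ S) :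
    evalW (eltL l) w ∈ S :=
  Subgroup.list_prod_mem _ fun m hm => by
    obtain ⟨g, hg, rfl⟩ := List.mem_map.1 hm
    exact h g hg

theorem eltL_mem_closure (l : List M) (g : ℕ) : eltL l g ∈ Subgroup.closure {m | m ∈ l} := by
  have h : l.getD (g / 2) 1 ∈ Subgroup.closure {m | m ∈ l} := by
    rcases Nat.lt_or_ge (g / 2) l.length with hl | hl
    · rw [List.getD_eq_getElem _ _ hl]
      exact Subgroup.subset_closure (List.getElem_mem hl)
    · rw [List.getD_eq_default _ _ hl]
      exact one_mem _
  unfold eltL
  split_ifs
  · exact h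
  · exact inv_mem h

end CfsgLib.J4P
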