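import Mathlib.GroupTheory.Index
import Cfsg.Agent.Lib.J4P.Words
import Cfsg.Agent.Lib.J4P.RelData
import Cfsg.Agent.Lib.J4P.CertTopCheck
import Cfsg.Agent.Lib.J4P.CertBottomCheck

/-!
# Two generators with seven relators: at most three times the order of the Mathieu group

The five elements are products of the generators, fixing the first of 24 cosets. The derived
relators are products of conjugates of the seven relators, so no enumeration over the whole group
is needed: two enumerations in the subgroup of the five elements give the bound.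
-/

set_option autoImplicit false
set_option maxRecDepth 100000

namespace CfsgLib.J4P

open CfsgLib.PresCert CfsgLib.HNxyz Subgroup

variable {M : Type*} [Group M] {a b : M}

/-- The seven relations hold. -/
def BaseRels (a b : M) : Prop := ∀ r ∈ baseRels, evalW (eltL [a, b]) r = 1

/-- The five elements. -/
def five (a b : M) : List M := fiveWords.map (evalW (eltL [a, b]))

/-- The check of a derived relator. -/
def relCheck (i : ℕ) : Bool :=
  redS (flatW fiveWords (fiveRels.getD i [])) == redS (prodW baseRels (fivePrfs.getD i []))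

theorem rel_checks : ((List.range fiveRels.length).all relCheck) = true := by decide +kernel

theorem five_rel (h : BaseRels a b) {r : List ℕ} (hr : r ∈ fiveRels) :
    evalW (eltL (five a b)) r = 1 := by
  obtain ⟨i, hi, rfl⟩ := List.getElem_of_mem hr
  have hc := List.all_eq_true.1 rel_checks i (List.mem_range.2 hi)
  rw [relCheck, List.getD_eq_getElem _ _ hi] at hc
  rw [five, ← evalW_flatW, evalW_eq_of_redS _ hc, evalW_prodW _ h]

/-- The letters of the two elements generating the bottom group. -/
def lowLetter : ℕ → ℕ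
  | 0 => 2
  | 1 => 3
  | 2 => 6
  | 3 => 7
  | _ => 10

/-- The relators of the bottom enumeration. -/
def lowRels : List (List ℕ) :=
  [[1, 1, 1], [3, 3, 3], [3, 0, 3, 0, 3, 0, 3, 0, 3, 0],
    [2, 1, 3, 0, 3, 1, 3, 0, 2, 1, 3, 0, 3, 1, 3, 0]]

theorem low_rels_mem : (lowRels.all fun r => fiveRels.contains (r.map lowLetter)) = true := by
  decide +kernel

theorem entry_checks :
    entriesOk certTop fiveRels [[2], [3], [6], [7]] certTopHints = true ∧
    entriesOk certBottom lowRels [[2], [3]] certBottomHints = true := by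
  refine ⟨?_, ?_⟩ <;> decide +kernel

theorem sizes : certTop.n = 1771 ∧ certBottom.n = 5760 ∧ certTop.ng = 10 ∧ certBottom.ng = 4 := by
  decide +kernel

theorem five_length : (five a b).length = 5 := by
  simp [five, fiveWords]

theorem act_low (l : List M) (w : List ℕ) :
    act (fun g => genL l (lowLetter g)) w = (evalW (eltL l) (w.map lowLetter))⁻¹ := by
  induction w with
  | nil => simp [act_nil, evalW_nil]
  | cons g w ih => rw [act_cons, ih, List.map_cons, evalW_cons, mul_inv_rev, genL]

theorem low_partner (l : List M) :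
    ∀ g, g < 4 → genL l (lowLetter g) * genL l (lowLetter (partner g)) = 1 := by
  intro g hg
  interval_cases g
  · exact genL_partner l 2
  · exact genL_partner l 3
  · exact genL_partner l 6
  · exact genL_partner l 7

/-- The subgroup of the five elements is small. -/
theorem card_five (h : BaseRels a b) :
    Finite (closure {m | m ∈ five a b}) ∧
      Nat.card (closure {m | m ∈ five a b}) ≤ 1771 * (5760 * 3) := by
  obtain ⟨nT, nB, gT, gB⟩ := sizes
  obtain ⟨eT, eB⟩ := entry_checks
  set l := five a b with hl
  set Z := zpowers (eltL l 6)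
  have h3 : eltL l 6 ^ 3 = 1 := by
    have h' := five_rel h (List.contains_iff_mem.1 (List.all_eq_true.1 low_rels_mem [3, 3, 3] (by decide)))
    rw [show List.map lowLetter [3, 3, 3] = [7, 7, 7] from rfl] at h'
    have e7 : eltL l 7 = (eltL l 6)⁻¹ := eltL_partner l 6
    simp only [evalW, List.map_cons, List.map_nil, List.prod_cons, List.prod_nil, mul_one, ← hl, e7,
      ← mul_inv_rev, inv_eq_one] at h'
    rw [pow_three', h']
  have hZfin : Finite Z :=
    finite_zpowers.2 (isOfFinOrder_iff_pow_eq_one.2 ⟨3, by norm_num, h3⟩)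
  have hZcard : Nat.card Z ≤ 3 := by
    rw [Nat.card_zpowers]
    exact orderOf_le_of_pow_eq_one (by norm_num) h3
  let gen4 : ℕ → M := fun g => genL l (lowLetter g)
  have hsub4 : ∀ w ∈ ([[2], [3]] : List (List ℕ)), act gen4 w ∈ Z := by
    intro w hw
    rw [act_low]
    refine inv_mem ?_
    fin_cases hw
    · simp [evalW, lowLetter, Z]
    · have : eltL l 7 ∈ Z := by
        rw [show (7 : ℕ) = partner 6 from rfl, eltL_partner]
        exact inv_mem (mem_zpowers _)
      simpa [evalW, lowLetter] using this
  have hrel4 : ∀ w ∈ lowRels, act gen4 w = 1 := fun w hw => by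
    rw [act_low, five_rel h (List.contains_iff_mem.1 (List.all_eq_true.1 low_rels_mem w hw)), inv_one]
  obtain ⟨fB, cB⟩ := card_le certBottom_orbit (pairHyp_of_entries (K := Z)
    (fun g hg => low_partner l g (by omega)) hrel4 hsub4 eB)
  have hK : ∀ g ∈ ([2, 3, 6, 7] : List ℕ), eltL l g ∈ genGrp certBottomClosing gen4 := by
    have e0 : (eltL l 2)⁻¹ ∈ genGrp certBottomClosing gen4 :=
      subset_closure ⟨[0], by decide, by simp [act_cons, act_nil, gen4, genL, lowLetter]⟩
    have e2 : (eltL l 6)⁻¹ ∈ genGrp certBottomClosing gen4 :=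
      subset_closure ⟨[2], by decide, by simp [act_cons, act_nil, gen4, genL, lowLetter]⟩
    intro g hg
    fin_cases hg
    · exact inv_mem_iff.1 e0
    · rw [show (3 : ℕ) = partner 2 from rfl, eltL_partner]; exact e0
    · exact inv_mem_iff.1 e2
    · rw [show (7 : ℕ) = partner 6 from rfl, eltL_partner]; exact e2
  have hrel10 : ∀ w ∈ fiveRels, act (genL l) w = 1 := fun w hw => by
    rw [act_genL, five_rel h hw, inv_one]
  obtain ⟨fT, cT⟩ := card_le certTop_orbit (pairHyp_of_entries
    (K := genGrp certBottomClosing gen4) (fun g _ => genL_partner l g) hrel10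
    (fun w hw => by
      rw [act_genL]
      refine inv_mem (evalW_mem l fun g hg => hK g ?_)
      fin_cases hw <;> simp at hg <;> simp [hg]) eT)
  have hle : closure {m | m ∈ l} ≤ genGrp certTopClosing (genL l) := by
    rw [closure_le]
    intro m hm
    obtain ⟨i, hi, rfl⟩ := List.getElem_of_mem (show m ∈ l from hm)
    refine inv_mem_iff.1 (subset_closure ⟨[2 * i], ?_, ?_⟩)
    · have : i < 5 := by rw [hl, five_length] at hi; exact hi
      interval_cases i <;> decide
    · simp [act_cons, act_nil, genL, eltL, hi]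
  have : Finite (genGrp certTopClosing (genL l)) := fT
  refine ⟨Finite.of_injective _ (Subgroup.inclusion_injective hle), ?_⟩
  refine (Nat.card_le_card_of_injective _ (Subgroup.inclusion_injective hle)).trans ?_
  rw [nT] at cT
  rw [nB] at cB
  exact cT.trans (Nat.mul_le_mul_left _ (cB.trans (Nat.mul_le_mul_left _ hZcard)))

/-- The check of an edge of the table of cosets. -/
def edgeCheck (g : ℕ) (E : List (ℕ × List ℕ × List (List ℕ × ℕ × Bool))) (i : ℕ) : Bool :=
  let p := E.getD i (0, [], [])
  Nat.blt p.1 24 &&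
    (redS (cosetReps.getD i [] ++ [g] ++ invW (cosetReps.getD p.1 [])) ==
      redS (prodW baseRels p.2.2 ++ flatW fiveWords p.2.1))

theorem edge_checks :
    ((List.range 24).all fun i => edgeCheck 0 edgesX i && edgeCheck 2 edgesY i) = true ∧
      cosetReps.getD 0 [] = [] := by
  decide +kernel

/-- The element of a coset representative. -/
def repElt (a b : M) (i : ℕ) : M := evalW (eltL [a, b]) (cosetReps.getD i [])

theorem edge_spec (h : BaseRels a b) {g : ℕ} {E : List (ℕ × List ℕ × List (List ℕ × ℕ × Bool))}
    {i : ℕ} (hc : edgeCheck g E i = true) :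
    ∃ j < 24, ∃ k ∈ closure {m | m ∈ five a b}, repElt a b i * eltL [a, b] g = k * repElt a b j := by
  simp only [edgeCheck, Bool.and_eq_true, Nat.blt_eq] at hc
  obtain ⟨hj, hc⟩ := hc
  have e := evalW_eq_of_redS [a, b] hc
  rw [evalW_append, evalW_append, evalW_append, evalW_prodW _ h, one_mul, evalW_invW, evalW_flatW,
    evalW_cons, evalW_nil, mul_one] at e
  refine ⟨_, hj, evalW (eltL (five a b)) (E.getD i (0, [], [])).2.1,
    evalW_mem _ fun g _ => eltL_mem_closure _ g, ?_⟩
  rw [five, ← e, repElt, repElt, inv_mul_cancel_right]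

theorem cover (h : BaseRels a b) (hb3 : b⁻¹ = b * b) (ha : a⁻¹ = a)
    (htop : closure {a, b} = ⊤) (m : M) :
    ∃ i < 24, ∃ k ∈ closure {m | m ∈ five a b}, m = k * repElt a b i := by
  obtain ⟨hall, h0⟩ := edge_checks
  simp only [List.all_eq_true, List.mem_range, Bool.and_eq_true] at hall
  have step : ∀ (m : M) (g : ℕ), g = 0 ∨ g = 2 →
      (∃ i < 24, ∃ k ∈ closure {m | m ∈ five a b}, m = k * repElt a b i) →
      ∃ i < 24, ∃ k ∈ closure {m | m ∈ five a b}, m * eltL [a, b] g = k * repElt a b i := by
    rintro m g hg ⟨i, hi, k, hk, rfl⟩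
    have hc : ∃ E, edgeCheck g E i = true := by
      rcases hg with rfl | rfl
      exacts [⟨_, (hall i hi).1⟩, ⟨_, (hall i hi).2⟩]
    obtain ⟨E, hE⟩ := hc
    obtain ⟨j, hj, k', hk', e⟩ := edge_spec h hE
    exact ⟨j, hj, k * k', mul_mem hk hk', by rw [mul_assoc, e, mul_assoc]⟩
  have hm : m ∈ closure {a, b} := htop ▸ mem_top m
  induction hm using closure_induction_right with
  | one => exact ⟨0, by norm_num, 1, one_mem _, by rw [repElt, h0, evalW_nil, mul_one]⟩
  | mul_right m hm g hg ih =>
    rcases hg with rfl | rfl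
    · exact step m 0 (Or.inl rfl) ih
    · exact step m 2 (Or.inr rfl) ih
  | mul_inv_cancel m hm g hg ih =>
    rcases hg with rfl | rfl
    · rw [ha]; exact step m 0 (Or.inl rfl) ih
    · rw [hb3, ← mul_assoc]
      exact step _ 2 (Or.inr rfl) (step m 2 (Or.inr rfl) ih)

/-- The bound. -/
theorem bound (h : BaseRels a b) (htop : closure {a, b} = ⊤) :
    Finite M ∧ Nat.card M ≤ 734469120 := by
  have hr : baseRels.getD 0 [] = [0, 0] ∧ baseRels.getD 1 [] = [2, 2, 2] ∧ 2 ≤ baseRels.length := by
    decide +kernel
  obtain ⟨r0, r1, hlen⟩ := hr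
  have e0 := h [0, 0] (by rw [← r0, List.getD_eq_getElem _ _ (by omega)]; exact List.getElem_mem _)
  have e1 := h [2, 2, 2] (by rw [← r1, List.getD_eq_getElem _ _ (by omega)]; exact List.getElem_mem _)
  have ha : a⁻¹ = a := inv_eq_of_mul_eq_one_right (by simpa [evalW, eltL] using e0)
  have hb : b⁻¹ = b * b := inv_eq_of_mul_eq_one_right (by simpa [evalW, eltL] using e1)
  obtain ⟨fH, cH⟩ := card_five h
  set H := closure {m | m ∈ five a b}
  let F : Fin 24 × H → M := fun p => p.2.1 * repElt a b p.1
  have hF : Function.Surjective F := fun m => by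
    obtain ⟨i, hi, k, hk, rfl⟩ := cover h hb ha htop m
    exact ⟨(⟨i, hi⟩, ⟨k, hk⟩), rfl⟩
  refine ⟨Finite.of_surjective F hF, ?_⟩
  refine (Nat.card_le_card_of_surjective F hF).trans ?_
  rw [Nat.card_prod, Nat.card_fin]
  calc 24 * Nat.card H ≤ 24 * (1771 * (5760 * 3)) := Nat.mul_le_mul_left _ cH
    _ = 734469120 := by norm_num

end CfsgLib.J4P
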