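import Cfsg.Prelude.Def_Spor_J4
import Cfsg.Agent.Lib.J4P.BitMat
import Cfsg.Agent.Lib.J4P.MatData
import Cfsg.Agent.Lib.J4P.TabData
import Cfsg.Agent.Lib.J4P.Bound

/-!
# A representation of degree 112 over two elements of the presented Janko group J4
-/

set_option autoImplicit false
set_option maxRecDepth 100000
set_option linter.constructorNameAsVariable false

namespace CfsgLib.J4P

open Cfsg.Spor CfsgLib.HNxyz

/-- The letter of a generator. -/
def genLetter : J4.Gen → ℕ
  | .x => 0
  | .y => 2
  | .t => 4

/-- The letter of a syllable. -/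
def sylLetter (p : J4.Gen × Bool) : ℕ := if p.2 then genLetter p.1 else genLetter p.1 + 1

/-- The set of relators. -/
abbrev jRels : Set (FreeGroup J4.Gen) := coxRelators J4.edges ∪ {r | r ∈ J4.extra}

/-- The identity of degree 112. -/
def idJ : List ℕ := idB 112

theorem mat_checks :
    ((List.range 6).all fun g =>
      chkT (tabJ.getD g []) (matJ.getD g []) && Nat.beq (matJ.getD g []).length 112) = true ∧
    (([[0, 1], [1, 0], [2, 3], [3, 2], [4, 5], [5, 4]] : List (List ℕ)).all
      fun w => evalB 112 tabJ w == idJ) = true ∧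
    (J4.extra.all fun r => evalB 112 tabJ (r.toWord.map sylLetter) == idJ) = true ∧
    (J4.extra.all fun r => (r.toWord.map sylLetter).all fun g => Nat.blt g 6) = true ∧
    (evalB 112 tabJ [0] == idJ) = false ∧
    ((J4.extra.take 7).map fun r => r.toWord.map sylLetter) = baseRels ∧
    (matJ.length = 6 ∧ tabJ.length = 6) ∧
    ((List.range 112).all fun i => Nat.blt ((evalB 112 tabJ [0]).getD i 0) (2 ^ 112)) = true := by
  decide +kernel

/-- The matrix of a letter. -/
noncomputable def lm (g : ℕ) : Matrix (Fin 112) (Fin 112) (ZMod 2) := toMatB 112 (matJ.getD g [])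

theorem word_prod {w : List ℕ} (hw : ∀ g ∈ w, g < 6) (h : (evalB 112 tabJ w == idJ) = true) :
    (w.map lm).prod = 1 := by
  obtain ⟨hlen, -, -, -, -, -, ⟨hn, hn'⟩, -⟩ := mat_checks
  simp only [List.all_eq_true, List.mem_range, Bool.and_eq_true, Nat.beq_eq] at hlen
  obtain ⟨-, e⟩ := evalB_spec (G := tabJ) (B := matJ) (n := 112) (by rw [hn, hn'])
    (fun g hg => hlen g (by rw [hn] at hg; exact hg)) (w := w) (fun g hg => by rw [hn]; exact hw g hg)
  rw [eq_of_beq h, idJ, toMatB_id] at e
  exact e.symm

theorem pair_one {g h : ℕ}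
    (hw : [g, h] ∈ ([[0, 1], [1, 0], [2, 3], [3, 2], [4, 5], [5, 4]] : List (List ℕ))) :
    lm g * lm h = 1 := by
  have e := word_prod (w := [g, h]) (fun a ha => by
    simp only [List.mem_cons, List.not_mem_nil, or_false] at hw ha
    rcases hw with e | e | e | e | e | e <;> simp at e <;> omega)
    (List.all_eq_true.1 mat_checks.2.1 _ hw)
  simpa using e

theorem lm_inv : ∀ x : J4.Gen,
    lm (genLetter x) * lm (genLetter x + 1) = 1 ∧ lm (genLetter x + 1) * lm (genLetter x) = 1
  | .x => ⟨pair_one (by simp [genLetter]), pair_one (by simp [genLetter])⟩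
  | .y => ⟨pair_one (by simp [genLetter]), pair_one (by simp [genLetter])⟩
  | .t => ⟨pair_one (by simp [genLetter]), pair_one (by simp [genLetter])⟩

/-- The unit of a generator. -/
noncomputable def lu (x : J4.Gen) : (Matrix (Fin 112) (Fin 112) (ZMod 2))ˣ :=
  ⟨lm (genLetter x), lm (genLetter x + 1), (lm_inv x).1, (lm_inv x).2⟩

theorem lift_val (L : List (J4.Gen × Bool)) :
    ((FreeGroup.lift lu (FreeGroup.mk L) : (Matrix (Fin 112) (Fin 112) (ZMod 2))ˣ) :
        Matrix (Fin 112) (Fin 112) (ZMod 2)) = ((L.map sylLetter).map lm).prod := by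
  induction L with
  | nil =>
    rw [← FreeGroup.one_eq_mk, map_one, Units.val_one, List.map_nil, List.map_nil, List.prod_nil]
  | cons p L ih =>
    obtain ⟨x, b⟩ := p
    rw [show FreeGroup.mk ((x, b) :: L) = FreeGroup.mk [(x, b)] * FreeGroup.mk L from rfl, map_mul,
      Units.val_mul, ih, List.map_cons, List.map_cons, List.prod_cons]
    refine congrArg (fun m => m * _) ?_
    cases b
    · rw [show FreeGroup.mk [(x, false)] = (FreeGroup.of x)⁻¹ from rfl, map_inv,
        FreeGroup.lift_apply_of]
      simp only [lu, sylLetter, Bool.false_eq_true, if_false, Units.inv_mk]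
    · rw [show FreeGroup.mk [(x, true)] = FreeGroup.of x from rfl, FreeGroup.lift_apply_of]
      simp only [lu, sylLetter, if_true]

theorem rels_lift : ∀ r ∈ jRels, FreeGroup.lift lu r = 1 := by
  intro r hr
  have hr' : r ∈ J4.extra := by
    rcases hr with ⟨x, hx, -⟩ | hr
    · exact absurd hx (by simp [coxNodes, J4.edges])
    · exact hr
  obtain ⟨-, -, h, hlt, -⟩ := mat_checks
  refine Units.ext ?_
  rw [← FreeGroup.mk_toWord (x := r), lift_val, Units.val_one]
  exact word_prod (fun g hg => Nat.le_of_ble_eq_true (List.all_eq_true.1 (List.all_eq_true.1 hlt r hr') g hg))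
    (List.all_eq_true.1 h r hr')

/-- The representation. -/
noncomputable def rho : Cfsg.Spor.J4 →* (Matrix (Fin 112) (Fin 112) (ZMod 2))ˣ :=
  PresentedGroup.toGroup rels_lift

/-- The generator x is not trivial. -/
theorem x_ne : (PresentedGroup.of J4.Gen.x : Cfsg.Spor.J4) ≠ 1 := by
  intro h
  have h' := congrArg (fun g => (rho g : Matrix (Fin 112) (Fin 112) (ZMod 2))) h
  simp only [rho, PresentedGroup.toGroup.of, map_one, Units.val_one] at h'
  change lm 0 = 1 at h'
  obtain ⟨hlen, -, -, -, hne, -, ⟨hn, hn'⟩, hb⟩ := mat_checks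
  simp only [List.all_eq_true, List.mem_range, Bool.and_eq_true, Nat.beq_eq] at hlen
  obtain ⟨el, e⟩ := evalB_spec (G := tabJ) (B := matJ) (n := 112) (by rw [hn, hn'])
    (fun g hg => hlen g (by rw [hn] at hg; exact hg)) (w := [0]) (fun g hg => by rw [hn]; simp at hg; omega)
  rw [List.map_singleton, List.prod_singleton, show toMatB 112 (matJ.getD 0 []) = lm 0 from rfl, h',
    ← toMatB_id] at e
  have key : evalB 112 tabJ [0] = idJ := by
    refine List.ext_getElem (by rw [el]; simp [idJ, idB]) fun i h1 h2 => ?_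
    have hi : i < 112 := el ▸ h1
    refine Nat.eq_of_testBit_eq fun j => ?_
    by_cases hj : j < 112
    · have ej := congrFun (congrFun e ⟨i, hi⟩) ⟨j, hj⟩
      simp only [toMatB, Matrix.of_apply] at ej
      rw [List.getD_eq_getElem _ _ h1,
        show (idB 112).getD i 0 = idJ[i] from List.getD_eq_getElem _ _ h2] at ej
      revert ej
      generalize (evalB 112 tabJ [0])[i].testBit j = p
      generalize idJ[i].testBit j = q
      cases p <;> cases q <;> decide
    · have b1 := Nat.le_of_ble_eq_true (List.all_eq_true.1 hb i (List.mem_range.2 hi))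
      rw [List.getD_eq_getElem _ _ h1] at b1
      rw [Nat.testBit_eq_false_of_lt (lt_of_lt_of_le b1 (Nat.pow_le_pow_right (by norm_num) (by omega)))]
      simp only [idJ, idB, List.getElem_map, List.getElem_range]
      exact (Nat.testBit_two_pow_of_ne (by omega)).symm
  rw [key, beq_self_eq_true] at hne
  exact absurd hne (by decide)

/-- The generators x and y satisfy the seven relations. -/
theorem xy_rels : BaseRels (PresentedGroup.of J4.Gen.x : Cfsg.Spor.J4) (PresentedGroup.of J4.Gen.y) := by
  intro w hw
  obtain ⟨-, -, -, -, -, hmap, -⟩ := mat_checks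
  obtain ⟨r, hr, hrw⟩ := List.mem_map.1
    (hmap.symm ▸ hw : w ∈ (J4.extra.take 7).map fun r => r.toWord.map sylLetter)
  have key : ∀ L : List (J4.Gen × Bool), (∀ g ∈ L.map sylLetter, g < 4) →
      PresentedGroup.mk jRels (FreeGroup.mk L) =
        evalW (eltL [(PresentedGroup.of J4.Gen.x : Cfsg.Spor.J4), PresentedGroup.of J4.Gen.y])
          (L.map sylLetter) := by
    intro L
    induction L with
    | nil => intro _; rw [← FreeGroup.one_eq_mk, map_one]; rfl
    | cons p L ih =>
      intro hL
      obtain ⟨x, s⟩ := p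
      rw [show FreeGroup.mk ((x, s) :: L) = FreeGroup.mk [(x, s)] * FreeGroup.mk L from rfl, map_mul,
        ih (fun g hg => hL g (List.mem_cons_of_mem _ hg)), List.map_cons, evalW_cons]
      congr 1
      have hlt := hL (sylLetter (x, s)) List.mem_cons_self
      cases s
      · rw [show FreeGroup.mk [(x, false)] = (FreeGroup.of x)⁻¹ from rfl, map_inv]
        cases x <;> first | rfl | simp [sylLetter, genLetter] at hlt
      · rw [show FreeGroup.mk [(x, true)] = FreeGroup.of x from rfl]
        cases x <;> first | rfl | simp [sylLetter, genLetter] at hlt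
  have hlt : ∀ g ∈ r.toWord.map sylLetter, g < 4 := by
    rw [hrw]
    have hall : (baseRels.all fun v => v.all fun g => Nat.blt g 4) = true := by decide +kernel
    exact fun g hg => Nat.le_of_ble_eq_true (List.all_eq_true.1 (List.all_eq_true.1 hall w hw) g hg)
  have e := key r.toWord hlt
  rw [FreeGroup.mk_toWord, hrw, PresentedGroup.mk_eq_one_iff.2
    (Subgroup.subset_normalClosure (Or.inr (List.mem_of_mem_take hr)))] at e
  exact e.symm

end CfsgLib.J4P
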