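import Cfsg.Agent.Lib.J4P.Perms
import Cfsg.Agent.Lib.Tails.MathieuThm

/-!
# Groups with the seven relations over the Mathieu group are isomorphic to it

The bound leaves a kernel of order at most three; it is central in the perfect group, so the
triviality of the multiplier finishes the proof.
-/

set_option autoImplicit false

namespace CfsgLib.J4P

open Cfsg CfsgLib.Golay CfsgLib.HNxyz Subgroup

variable {M : Type} [Group M] {a b : M}

theorem perfect (h : BaseRels a b) (htop : closure {a, b} = ⊤) {Q : Type*} [Group Q]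
    (q : M →* Q) (hQ : ∀ u v : Q, u * v = v * u) : ∀ m, q m = 1 := by
  have hr : ([0, 0] : List ℕ) ∈ baseRels ∧ [2, 2, 2] ∈ baseRels ∧
      (List.replicate 23 [0, 2]).flatten ∈ baseRels := by decide +kernel
  have e0 := h _ hr.1
  have e1 := h _ hr.2.1
  have e2 := h _ hr.2.2
  have ha : q a * q a = 1 := by
    have := congrArg q e0
    simpa [evalW, eltL] using this
  have hb : q b ^ 3 = 1 := by
    have := congrArg q e1
    simpa [evalW, eltL, pow_three', mul_assoc] using this
  have hab : (q a * q b) ^ 23 = 1 := by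
    have := congrArg q e2
    simpa [evalW, eltL, List.replicate, pow_succ, mul_assoc] using this
  have hc : Commute (q a) (q b) := hQ _ _
  rw [hc.mul_pow] at hab
  have ha23 : q a ^ 23 = q a := by
    rw [show (23 : ℕ) = 2 * 11 + 1 from rfl, pow_succ, pow_mul, pow_two, ha, one_pow, one_mul]
  have hb23 : q b ^ 23 = q b * q b := by
    rw [show (23 : ℕ) = 3 * 7 + 2 from rfl, pow_add, pow_mul, hb, one_pow, one_mul, pow_two]
  rw [ha23, hb23] at hab
  have hab' : q a = q b := by
    have := eq_inv_of_mul_eq_one_left hab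
    rw [this, inv_eq_iff_mul_eq_one, ← pow_three', hb]
  have hb1 : q b = 1 := by
    rw [hab'] at ha
    rwa [show q b ^ 3 = q b * q b * q b from pow_three' _, ha, one_mul] at hb
  intro m
  have hm : m ∈ closure {a, b} := htop ▸ mem_top m
  induction hm using closure_induction with
  | mem g hg =>
    rcases hg with rfl | rfl
    · rw [hab', hb1]
    · exact hb1
  | one => exact map_one q
  | mul g g' _ _ e e' => rw [map_mul, e, e', one_mul]
  | inv g _ e => rw [map_inv, e, inv_one]

/-- The homomorphism to the permutations is injective, with the Mathieu group as image. -/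
theorem structure_thm (h : BaseRels a b) (htop : closure {a, b} = ⊤)
    (φ : M →* Equiv.Perm GolayPt) (ha : φ a = px) (hb : φ b = py) :
    φ.range = M24 ∧ Function.Injective φ := by
  obtain ⟨hfin, hcard⟩ := bound h htop
  have hrange : φ.range = M24 := by
    rw [MonoidHom.range_eq_map, ← htop, MonoidHom.map_closure, Set.image_insert_eq,
      Set.image_singleton, ha, hb]
    refine le_antisymm ((closure_le _).2 ?_) M24_le_closure
    rintro p (rfl | rfl)
    exacts [px_mem, py_mem]
  refine ⟨hrange, ?_⟩
  let σ : M →* ↥M24 := φ.codRestrict M24 fun m => hrange ▸ ⟨m, rfl⟩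
  have hσ : Function.Surjective σ := by
    rintro ⟨g, hg⟩
    rw [← hrange] at hg
    obtain ⟨m, rfl⟩ := hg
    exact ⟨m, rfl⟩
  have hk : Nat.card σ.ker ≤ 3 := by
    have e := card_eq_card_quotient_mul_card_subgroup σ.ker
    rw [Nat.card_congr (QuotientGroup.quotientKerEquivOfSurjective σ hσ).toEquiv, card_M24] at e
    omega
  have hcyc : IsCyclic σ.ker := by
    have hpos : 0 < Nat.card σ.ker := Nat.card_pos
    rcases (show Nat.card σ.ker = 1 ∨ Nat.card σ.ker = 2 ∨ Nat.card σ.ker = 3 by omega) with e | e | e
    · have := (Nat.card_eq_one_iff_unique.1 e).1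
      infer_instance
    · haveI := Fact.mk Nat.prime_two
      exact isCyclic_of_prime_card e
    · haveI := Fact.mk Nat.prime_three
      exact isCyclic_of_prime_card e
  have hcomm : ∀ u v : MulAut σ.ker, u * v = v * u := by
    intro u v
    obtain ⟨i, hi⟩ := u.toMonoidHom.map_cyclic
    obtain ⟨j, hj⟩ := v.toMonoidHom.map_cyclic
    refine MulEquiv.ext fun g => ?_
    show u (v g) = v (u g)
    rw [show u (v g) = v g ^ i from hi _, show v g = g ^ j from hj g,
      show v (u g) = u g ^ j from hj _, show u g = g ^ i from hi g, ← zpow_mul, ← zpow_mul, mul_comm]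
  have hcen : σ.ker ≤ center M := by
    intro s hs
    rw [mem_center_iff]
    intro m
    have e := congrArg (fun u : MulAut σ.ker => ((u ⟨s, hs⟩ : σ.ker) : M))
      (perfect h htop (MulAut.conjNormal (H := σ.ker)) hcomm m)
    simp only [MulAut.conjNormal_apply, MulAut.one_apply] at e
    exact mul_inv_eq_iff_eq_mul.1 e
  have hperf : σ.ker ≤ commutator M := fun s _ => by
    refine (QuotientGroup.eq_one_iff s).1 (perfect h htop (QuotientGroup.mk' (commutator M)) ?_ s)
    intro u v
    exact (Abelianization.commGroup M).mul_comm u v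
  obtain ⟨π, hπ⟩ := CfsgLib.Schur.Tails.multiplier_M24.2 M σ ⟨hσ, hcen, hperf⟩
  intro u v huv
  have hs : u⁻¹ * v ∈ σ.ker := by
    rw [MonoidHom.mem_ker]
    refine Subtype.ext ?_
    show φ (u⁻¹ * v) = 1
    rw [map_mul, map_inv, huv, inv_mul_cancel]
  obtain ⟨p, hp⟩ := hπ ⟨_, hs⟩
  rw [Subsingleton.elim p 1, map_one] at hp
  exact inv_mul_eq_one.1 (congrArg Subtype.val hp).symm

end CfsgLib.J4P
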