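import Mathlib.Data.List.Basic

/-!
# Two permutations of 24 points (generated)
-/

set_option autoImplicit false
set_option maxRecDepth 100000

namespace CfsgLib.J4P

/-- The image of x as a list. -/
def listX : List ℕ := [7, 19, 16, 9, 21, 12, 17, 0, 10, 3, 8, 13, 5, 11, 23, 22, 2, 6, 20, 1, 18, 4, 15, 14]

/-- The image of y as a list. -/
def listY : List ℕ := [4, 2, 16, 7, 22, 5, 6, 14, 8, 9, 12, 15, 20, 13, 3, 18, 1, 19, 11, 21, 10, 17, 0, 23]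

/-- The inverse of the image of y as a list. -/
def listYinv : List ℕ := [22, 16, 1, 14, 0, 5, 6, 3, 8, 9, 20, 18, 10, 13, 7, 11, 2, 21, 15, 17, 12, 19, 4, 23]

/-- The three standard generators as words. -/
def stdWords : List (List ℕ) :=
  [[0, 3, 0, 3, 0, 2, 0, 2, 0, 2, 0, 2, 0, 2, 0, 2, 0, 3, 0, 3, 0, 2, 0, 3, 0, 3, 0, 3, 0, 3, 0, 3, 0, 2, 0, 3, 0, 2, 0, 2, 0, 3, 0, 3, 0, 2, 0, 2, 0, 2, 0],
    [0, 2, 0, 3, 0, 3, 0, 2, 0, 2, 0, 2, 0, 3, 0, 2, 0, 2, 0, 3, 0, 3, 0, 3, 0, 3, 0, 2, 0, 3, 0, 3, 0, 2, 0, 3, 0, 2, 0, 2, 0, 2, 0, 3, 0],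
    [0, 2, 0, 2, 0, 2, 0, 3, 0, 3, 0, 3, 0, 2, 0, 2, 0, 3, 0, 2, 0, 2, 0, 2, 0, 3, 0, 2, 0, 3, 0, 2, 0, 2, 0, 2, 0, 3, 0, 3]]

end CfsgLib.J4P
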