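import Cfsg.Agent.Lib.J4P.Bound
import Cfsg.Agent.Lib.J4P.PermData
import Cfsg.Agent.Lib.Golay.M24

/-!
# Two permutations of 24 points with the relations, generating the Mathieu group
-/

set_option autoImplicit false
set_option maxRecDepth 100000

namespace CfsgLib.J4P

open Cfsg CfsgLib.Golay CfsgLib.HNxyz

/-- The list of a letter. -/
def letList : ℕ → List ℕ
  | 0 => listX
  | 1 => listX
  | 2 => listY
  | 3 => listYinv
  | _ => List.range 24

/-- The image of a point under a word. -/
def wordImg : List ℕ → ℕ → ℕ
  | [], i => i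
  | g :: w, i => (letList g).getD (wordImg w i) 0

theorem img_checks :
    ((List.range 5).all fun g => validL 24 (letList g)) = true ∧
    ((List.range 24).all fun i => Nat.beq (listX.getD (listX.getD i 0) 0) i &&
      Nat.beq (listY.getD (listYinv.getD i 0) 0) i && Nat.beq (listYinv.getD (listY.getD i 0) 0) i) =
      true ∧
    (baseRels.all fun w => (w.all fun g => Nat.blt g 4) &&
      (List.range 24).all fun i => Nat.beq (wordImg w i) i) = true ∧
    ((List.zip stdWords [transL, projL, twistL]).all fun p => (p.1.all fun g => Nat.blt g 4) &&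
      (List.range 24).all fun i => Nat.beq (wordImg p.1 i) (p.2.getD i 0)) = true ∧
    stdWords.length = 3 ∧ ([transL, projL, twistL].all fun L => validL 24 L) = true ∧
    m24ChainGens = [transL, projL, twistL] := by
  decide +kernel

theorem valid_let {g : ℕ} (hg : g < 5) : validL 24 (letList g) = true :=
  List.all_eq_true.1 img_checks.1 g (List.mem_range.2 hg)

/-- The image of x. -/
noncomputable def px : Equiv.Perm GolayPt := permOf ptEquiv listX

/-- The image of y. -/
noncomputable def py : Equiv.Perm GolayPt := permOf ptEquiv listY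

theorem inv_of_lists {L L' : List ℕ} (hL : validL 24 L = true) (hL' : validL 24 L' = true)
    (h : ∀ i < 24, L.getD (L'.getD i 0) 0 = i) : (permOf ptEquiv L)⁻¹ = permOf ptEquiv L' :=
  inv_eq_of_mul_eq_one_right (Equiv.ext fun p => ptEquiv.injective (Fin.ext (by
    rw [Equiv.Perm.mul_apply, permOf_apply _ hL, permOf_apply _ hL', h _ (Fin.isLt _)]
    rfl)))

theorem elt_list {g : ℕ} (hg : g < 4) (p : GolayPt) :
    (ptEquiv (eltL [px, py] g p)).val = (letList g).getD (ptEquiv p).val 0 := by
  have h2 := img_checks.2.1
  simp only [List.all_eq_true, List.mem_range, Bool.and_eq_true, Nat.beq_eq] at h2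
  have vX : validL 24 listX = true := valid_let (g := 0) (by norm_num)
  have vY : validL 24 listY = true := valid_let (g := 2) (by norm_num)
  have vZ : validL 24 listYinv = true := valid_let (g := 3) (by norm_num)
  interval_cases g
  · exact permOf_apply _ vX p
  · show (ptEquiv (px⁻¹ p)).val = _
    rw [px, inv_of_lists vX vX fun i hi => (h2 i hi).1.1]
    exact permOf_apply _ vX p
  · exact permOf_apply _ vY p
  · show (ptEquiv (py⁻¹ p)).val = _
    rw [py, inv_of_lists vY vZ fun i hi => (h2 i hi).1.2]
    exact permOf_apply _ vZ p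

theorem word_list : ∀ {w : List ℕ}, (∀ g ∈ w, g < 4) → ∀ p : GolayPt,
    (ptEquiv (evalW (eltL [px, py]) w p)).val = wordImg w (ptEquiv p).val
  | [], _, p => rfl
  | g :: w, h, p => by
    rw [evalW_cons, Equiv.Perm.mul_apply, elt_list (h g List.mem_cons_self),
      word_list (fun a ha => h a (List.mem_cons_of_mem _ ha))]
    rfl

theorem perm_rels : BaseRels px py := by
  intro w hw
  have h := img_checks.2.2.1
  simp only [List.all_eq_true, List.mem_range, Bool.and_eq_true, Nat.blt_eq, Nat.beq_eq] at h
  obtain ⟨hlt, hi⟩ := h w hw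
  refine Equiv.ext fun p => ptEquiv.injective (Fin.ext ?_)
  rw [word_list hlt, hi _ (Fin.isLt _)]
  rfl

theorem M24_le_closure : M24 ≤ Subgroup.closure {px, py} := by
  refine M24_le_of_gens fun L hL => ?_
  obtain ⟨-, -, -, h, hlen, hval, hgens⟩ := img_checks
  rw [hgens] at hL
  obtain ⟨i, hi, rfl⟩ := List.getElem_of_mem hL
  have hz : (stdWords[i]'(hlen ▸ hi), [transL, projL, twistL][i]) ∈ List.zip stdWords [transL, projL, twistL] :=
    List.mem_iff_getElem.2 ⟨i, by rw [List.length_zip, hlen]; simpa using hi, List.getElem_zip⟩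
  have hp := List.all_eq_true.1 h _ hz
  simp only [List.all_eq_true, List.mem_range, Bool.and_eq_true, Nat.blt_eq, Nat.beq_eq] at hp
  obtain ⟨hlt, himg⟩ := hp
  have hv := List.all_eq_true.1 hval _ (List.getElem_mem hi)
  have e : permOf ptEquiv [transL, projL, twistL][i] =
      evalW (eltL [px, py]) (stdWords[i]'(hlen ▸ hi)) :=
    Equiv.ext fun p => ptEquiv.injective (Fin.ext (by
      rw [word_list hlt, permOf_apply _ hv, himg _ (Fin.isLt _)]))
  rw [e]
  refine evalW_mem _ fun g _ => ?_
  have := eltL_mem_closure [px, py] g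
  rwa [show {m | m ∈ [px, py]} = ({px, py} : Set (Equiv.Perm GolayPt)) by ext m; simp] at this

theorem px_mem : px ∈ M24 := mem_M24_of_test (by decide +kernel)

theorem py_mem : py ∈ M24 := mem_M24_of_test (by decide +kernel)

end CfsgLib.J4P
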